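import Mathlib
import Cfsg.Prelude.Def_Solvable
import Cfsg.Agent.Lib.PCore.Basic
import Cfsg.Agent.Lib.Coprime.Action
import Cfsg.Agent.Lib.Involutions.Basic

/-!
# Groups whose involution centralizers are 2-groups

Elementary facts: the property passes to subgroups and to quotients by normal 2-subgroups, elements
of odd order act without fixed points on 2-subgroups, and subgroups with a nontrivial normal
2-subgroup are 2-constrained.
-/

set_option autoImplicit false
set_option linter.style.haveILetI false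

namespace CfsgLib.CIT

open Subgroup

universe u

variable {G : Type u} [Group G]

/-- The centralizer of every involution is a 2-group. -/
def IsCIT (G : Type u) [Group G] : Prop :=
  ∀ t : G, orderOf t = 2 → IsPGroup 2 (centralizer ({t} : Set G))

/-- A 2-element. -/
def IsTwo (x : G) : Prop := ∃ k : ℕ, x ^ 2 ^ k = 1

theorem IsTwo.of_orderOf_two {t : G} (ht : orderOf t = 2) : IsTwo t :=
  ⟨1, by rw [pow_one, ← ht]; exact pow_orderOf_eq_one t⟩

theorem isTwo_of_mem {P : Subgroup G} (hP : IsPGroup 2 P) {x : G} (hx : x ∈ P) : IsTwo x := by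
  obtain ⟨k, hk⟩ := hP ⟨x, hx⟩
  exact ⟨k, congrArg Subtype.val hk⟩

theorem eq_one_of_isTwo_of_odd {x : G} (h2 : IsTwo x) (ho : Odd (orderOf x)) : x = 1 := by
  obtain ⟨k, hk⟩ := h2
  obtain ⟨j, -, hj⟩ := (Nat.dvd_prime_pow Nat.prime_two).1 (orderOf_dvd_of_pow_eq_one hk)
  rcases j with _ | j
  · exact orderOf_eq_one_iff.1 (by simpa using hj)
  · exfalso
    rw [hj] at ho
    exact (Nat.not_even_iff_odd.2 ho) (Nat.even_pow.2 ⟨even_two, j.succ_ne_zero⟩)

theorem exists_involution_zpowers {x : G} (h2 : IsTwo x) (hx : x ≠ 1) :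
    ∃ t ∈ zpowers x, orderOf t = 2 := by
  obtain ⟨k, hk⟩ := h2
  obtain ⟨j, -, hj⟩ := (Nat.dvd_prime_pow Nat.prime_two).1 (orderOf_dvd_of_pow_eq_one hk)
  rcases j with _ | j
  · exact absurd (orderOf_eq_one_iff.1 (by simpa using hj)) hx
  · refine ⟨x ^ 2 ^ j, npow_mem_zpowers _ _, ?_⟩
    rw [orderOf_pow_of_dvd (by positivity) (by rw [hj, pow_succ]; exact dvd_mul_right _ _), hj,
      pow_succ, Nat.mul_div_cancel_left _ (by positivity)]

theorem isPGroup_two_iff_no_odd [Finite G] {H : Subgroup G} :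
    IsPGroup 2 H ↔ ∀ y ∈ H, Odd (orderOf y) → y = 1 := by
  refine ⟨fun h y hy ho => eq_one_of_isTwo_of_odd (isTwo_of_mem h hy) ho, fun h ⟨x, hx⟩ => ?_⟩
  obtain ⟨a, m, hm, he⟩ := Nat.exists_eq_two_pow_mul_odd (orderOf_pos x).ne'
  refine ⟨a, Subtype.ext ?_⟩
  refine h _ (pow_mem hx _) ?_
  rw [SubgroupClass.coe_pow]
  rw [orderOf_pow_of_dvd (by positivity) (he ▸ dvd_mul_right _ _), he,
    Nat.mul_div_cancel_left _ (by positivity)]
  exact hm

theorem exists_odd_prime_order [Finite G] {H : Subgroup G} (h : ¬ IsPGroup 2 H) :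
    ∃ y ∈ H, ∃ p : ℕ, p.Prime ∧ p ≠ 2 ∧ orderOf y = p := by
  rw [isPGroup_two_iff_no_odd] at h
  push Not at h
  obtain ⟨y, hy, ho, hy1⟩ := h
  obtain ⟨p, hp, hpd⟩ := Nat.exists_prime_and_dvd (mt orderOf_eq_one_iff.1 hy1)
  refine ⟨_, pow_mem hy (orderOf y / p), p, hp, ?_, orderOf_pow_orderOf_div (orderOf_pos y).ne' hpd⟩
  rintro rfl
  exact (Nat.not_even_iff_odd.2 ho) (even_iff_two_dvd.2 hpd)

theorem IsCIT.of_injective {G' : Type*} [Group G'] (h : IsCIT G) (f : G' →* G)
    (hf : Function.Injective f) : IsCIT G' := by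
  intro t ht
  have h' := h (f t) (by rw [orderOf_injective f hf, ht])
  refine (h'.comap_of_injective f hf).to_le fun c hc => ?_
  rw [mem_comap, mem_centralizer_singleton_iff, ← map_mul, ← map_mul,
    mem_centralizer_singleton_iff.1 hc]

theorem IsCIT.subgroup (h : IsCIT G) (H : Subgroup G) : IsCIT ↥H :=
  h.of_injective H.subtype H.subtype_injective

variable [Finite G]

theorem IsCIT.centralizer_two (h : IsCIT G) {x : G} (hx2 : IsTwo x) (hx : x ≠ 1) :
    IsPGroup 2 (centralizer ({x} : Set G)) := by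
  obtain ⟨t, htx, ht⟩ := exists_involution_zpowers hx2 hx
  refine (h t ht).to_le fun c hc => ?_
  rw [mem_centralizer_singleton_iff] at hc ⊢
  obtain ⟨k, rfl⟩ := htx
  exact ((show Commute c x from hc).zpow_right k).eq

/-- An element of odd order commutes with no nontrivial 2-element. -/
theorem IsCIT.eq_one_of_commute (h : IsCIT G) {x y : G} (hx2 : IsTwo x) (hx : x ≠ 1)
    (hy : Odd (orderOf y)) (hxy : Commute y x) : y = 1 :=
  (isPGroup_two_iff_no_odd.1 (h.centralizer_two hx2 hx)) y
    (mem_centralizer_singleton_iff.2 hxy.eq) hy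

theorem IsCIT.centralizer_isPGroup (h : IsCIT G) {D : Subgroup G} (hD : IsPGroup 2 D) (hD1 : D ≠ ⊥) :
    IsPGroup 2 (centralizer (D : Set G)) := by
  obtain ⟨x, hx, hx1⟩ := (bot_or_exists_ne_one D).resolve_left hD1
  exact (h.centralizer_two (isTwo_of_mem hD hx) hx1).to_le
    (centralizer_le (Set.singleton_subset_iff.2 hx))

omit [Finite G] in
theorem centralizer_normal_of_normal (N : Subgroup G) [N.Normal] :
    (centralizer (N : Set G)).Normal := inferInstance

/-- A group with involution centralizers 2-groups and a nontrivial normal 2-subgroup is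
2-constrained. -/
theorem IsCIT.centralizer_pCore_le (h : IsCIT G) (hO : Cfsg.pCore 2 G ≠ ⊥) :
    centralizer (Cfsg.pCore 2 G : Set G) ≤ Cfsg.pCore 2 G := by
  haveI : Fact (Nat.Prime 2) := ⟨Nat.prime_two⟩
  exact CfsgLib.PCore.le_pCore inferInstance
    (h.centralizer_isPGroup CfsgLib.PCore.pCore_isPGroup hO)

theorem IsCIT.pPrimeCore_eq_bot (h : IsCIT G) (hO : Cfsg.pCore 2 G ≠ ⊥) :
    Cfsg.pPrimeCore 2 G = ⊥ := by
  haveI : Fact (Nat.Prime 2) := ⟨Nat.prime_two⟩
  refine CfsgLib.PCore.eq_bot_of_isPGroup_coprime (p := 2) ?_ CfsgLib.PCore.pPrimeCore_coprime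
  exact CfsgLib.PCore.pCore_isPGroup.to_le
    ((CfsgLib.PCore.pPrimeCore_le_centralizer_pCore).trans (h.centralizer_pCore_le hO))

theorem IsCIT.quotient (h : IsCIT G) (N : Subgroup G) [N.Normal] (hN : IsPGroup 2 N) :
    IsCIT (G ⧸ N) := by
  intro t ht
  obtain ⟨x, rfl⟩ := QuotientGroup.mk_surjective t
  rw [isPGroup_two_iff_no_odd]
  intro c hc hco
  obtain ⟨y, rfl⟩ := QuotientGroup.mk_surjective c
  by_contra hy1
  -- an element of odd order lifting `c`
  obtain ⟨a, m, hm, he⟩ := Nat.exists_eq_two_pow_mul_odd (orderOf_pos y).ne'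
  set z := y ^ 2 ^ a with hz
  have hzo : Odd (orderOf z) := by
    rw [hz, orderOf_pow_of_dvd (by positivity) (he ▸ dvd_mul_right _ _), he,
      Nat.mul_div_cancel_left _ (by positivity)]
    exact hm
  have hzc : (QuotientGroup.mk z : G ⧸ N) = (QuotientGroup.mk y) ^ 2 ^ a := rfl
  set A := zpowers z
  set K := (zpowers (QuotientGroup.mk' N x)).comap (QuotientGroup.mk' N) with hK
  have hK2 : IsPGroup 2 K := CfsgLib.PCore.isPGroup_comap_mk' hN (by
    refine IsPGroup.of_card (n := 1) ?_
    rw [Nat.card_zpowers, pow_one]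
    exact ht)
  have hzx : Commute (QuotientGroup.mk' N z) (QuotientGroup.mk' N x) := by
    show Commute (QuotientGroup.mk z : G ⧸ N) (QuotientGroup.mk x)
    rw [hzc]
    exact (show Commute (QuotientGroup.mk y : G ⧸ N) (QuotientGroup.mk x) from
      mem_centralizer_singleton_iff.1 hc).pow_left _
  have hAK : A ≤ normalizer (K : Set G) := by
    rw [zpowers_le, mem_normalizer_iff]
    intro g
    simp only [hK, mem_comap, map_mul, map_inv]
    set c := QuotientGroup.mk' N z
    set u := QuotientGroup.mk' N x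
    have key : ∀ v ∈ zpowers u, Commute c v := by
      rintro _ ⟨j, rfl⟩
      exact hzx.zpow_right j
    constructor
    · intro hv
      rwa [(key _ hv).eq, mul_inv_cancel_right]
    · intro hv
      have := (key _ hv).eq
      rw [show c * (c * QuotientGroup.mk' N g * c⁻¹) = c * (c * QuotientGroup.mk' N g) * c⁻¹ by group,
        show c * QuotientGroup.mk' N g * c⁻¹ * c = c * QuotientGroup.mk' N g by group] at this
      have e : c * QuotientGroup.mk' N g * c⁻¹ = QuotientGroup.mk' N g := by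
        calc c * QuotientGroup.mk' N g * c⁻¹ = c⁻¹ * (c * (c * QuotientGroup.mk' N g) * c⁻¹) := by group
          _ = c⁻¹ * (c * QuotientGroup.mk' N g) := by rw [this]
          _ = _ := by group
      rwa [e] at hv
  have hcop : (Nat.card A).Coprime (Nat.card K) := by
    obtain ⟨k, hk⟩ := hK2.exists_card_eq
    rw [hk, Nat.card_zpowers]
    exact Nat.Coprime.pow_right _ (Nat.coprime_two_right.2 hzo)
  obtain ⟨w, hw, hwN⟩ := CfsgLib.Coprime.exists_centralizing_rep A K hAK hcop
    (Or.inl inferInstance) N (fun n hn => by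
      show QuotientGroup.mk' N n ∈ zpowers (QuotientGroup.mk' N x)
      rw [show QuotientGroup.mk' N n = 1 from (QuotientGroup.eq_one_iff n).2 hn]
      exact one_mem _)
    Subgroup.le_normalizer_of_normal
    (show x ∈ K from mem_zpowers _) (by
      rintro _ ⟨j, rfl⟩
      rw [← QuotientGroup.eq_one_iff]
      simp only [QuotientGroup.mk_mul, QuotientGroup.mk_inv, QuotientGroup.mk_zpow]
      have h1 := (hzx.zpow_left j).eq
      simp only [QuotientGroup.mk'_apply] at h1
      rw [h1]; group)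
  have hwx : (QuotientGroup.mk w : G ⧸ N) = QuotientGroup.mk x := (QuotientGroup.eq.2 hwN).symm
  have hw1 : w ≠ 1 := fun e => by
    rw [e, QuotientGroup.mk_one] at hwx
    rw [← hwx, orderOf_one] at ht
    omega
  have hzw : Commute z w := (mem_centralizer_iff.1 hw.2 z (mem_zpowers z))
  have hz1 := h.eq_one_of_commute (isTwo_of_mem hK2 hw.1) hw1 hzo hzw
  rw [hz1, QuotientGroup.mk_one] at hzc
  exact hy1 (eq_one_of_isTwo_of_odd ⟨a, hzc.symm⟩ hco)

end CfsgLib.CIT
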