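import Mathlib
import Cfsg.Prelude.Def_Exceptional
import Cfsg.Prelude.Def_LieExceptional
import Cfsg.Prelude.Def_PLocal
import Cfsg.Agent.Lib.CIT.Basic

/-!
# Interfaces of the classification of groups whose involution centralizers are 2-groups
-/

set_option autoImplicit false

namespace CfsgLib.CIT

universe u

/-- One side of the rank-two configuration: `V` is elementary abelian of order `q ^ 2`,
self-centralizing, and `T` is a Sylow 2-subgroup of its normalizer, whose quotient by `V` is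
`PSL₂(q)`. -/
structure QSide {G : Type u} [Group G] (V T : Subgroup G) (F : Type) [Field F] [Fintype F] : Prop where
  elem : ∀ x ∈ V, x * x = 1
  card_V : Nat.card ↥V = Fintype.card F ^ 2
  self_centralizing : Subgroup.centralizer (V : Set G) = V
  le : V ≤ T
  le_normalizer : T ≤ Subgroup.normalizer (V : Set G)
  card_T : Nat.card ↥T = Fintype.card F ^ 3
  sylow : ∀ Q : Subgroup G, IsPGroup 2 ↥Q → T ≤ Q → Q ≤ Subgroup.normalizer (V : Set G) → Q = T
  iso : Nonempty (↥(Subgroup.normalizer (V : Set G)) ⧸ V.subgroupOf (Subgroup.normalizer (V : Set G))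
    ≃* Matrix.ProjectiveSpecialLinearGroup (Fin 2) F)

/-- Two sides sharing the same `T`. -/
structure QPair {G : Type u} [Group G] (V A T : Subgroup G) (F : Type) [Field F] [Fintype F] :
    Prop where
  char_two : CharP F 2
  four_le : 4 ≤ Fintype.card F
  left : QSide V T F
  right : QSide A T F
  ne : V ≠ A
  commutator_le : ∀ x ∈ T, ∀ y ∈ T, ∀ z ∈ T, Commute (x * y * x⁻¹ * y⁻¹) z
  sq_central : ∀ x ∈ T, ∀ z ∈ T, Commute (x * x) z
  abelian_le : ∀ B : Subgroup G, B ≤ T → IsMulCommutative ↥B → Nat.card ↥B ≤ Fintype.card F ^ 2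
  card_center : Nat.card ↥(T ⊓ Subgroup.centralizer (T : Set G)) = Fintype.card F

/-- The configuration of `PSL₃(4)`. -/
structure FourConfig {G : Type u} [Group G] (V A : Subgroup G) : Prop where
  elemV : ∀ x ∈ V, x * x = 1
  elemA : ∀ x ∈ A, x * x = 1
  card_V : Nat.card ↥V = 16
  card_A : Nat.card ↥A = 16
  centV : Subgroup.centralizer (V : Set G) = V
  centA : Subgroup.centralizer (A : Set G) = A
  card_inf : Nat.card ↥(V ⊓ A) = 4
  card_sup : Nat.card ↥(V ⊔ A) = 64
  normal_left : A ≤ Subgroup.normalizer (V : Set G)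
  normal_right : V ≤ Subgroup.normalizer (A : Set G)
  sylow : ∀ Q : Subgroup G, IsPGroup 2 ↥Q → V ⊔ A ≤ Q → Q = V ⊔ A
  invol : ∀ x ∈ V ⊔ A, x * x = 1 → x ∈ V ∨ x ∈ A
  isoV : ∃ (F : Type) (_ : Field F) (_ : Fintype F), Fintype.card F = 4 ∧
    Nonempty (↥(Subgroup.normalizer (V : Set G)) ⧸ V.subgroupOf (Subgroup.normalizer (V : Set G))
      ≃* Matrix.ProjectiveSpecialLinearGroup (Fin 2) F)
  isoA : ∃ (F : Type) (_ : Field F) (_ : Fintype F), Fintype.card F = 4 ∧
    Nonempty (↥(Subgroup.normalizer (A : Set G)) ⧸ A.subgroupOf (Subgroup.normalizer (A : Set G))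
      ≃* Matrix.ProjectiveSpecialLinearGroup (Fin 2) F)

/-- `PSL₂` over a field of `2 ^ n ≥ 4` elements. -/
def ShapeEven (G : Type u) [Group G] : Prop :=
  IsSimpleGroup G ∧ ∃ (F : Type) (_ : Field F) (_ : Fintype F),
    (∃ n : ℕ, 2 ≤ n ∧ Fintype.card F = 2 ^ n) ∧
      Nonempty (G ≃* Matrix.ProjectiveSpecialLinearGroup (Fin 2) F)

/-- `PSL₂` over a field with `9` elements or a prime number `2 ^ k ± 1 ≥ 7` of elements. -/
def ShapeOdd (G : Type u) [Group G] : Prop :=
  IsSimpleGroup G ∧ ∃ (F : Type) (_ : Field F) (_ : Fintype F),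
    7 ≤ Fintype.card F ∧ (Fintype.card F = 9 ∨
      ((Fintype.card F).Prime ∧ ∃ k : ℕ, Fintype.card F = 2 ^ k + 1 ∨ Fintype.card F + 1 = 2 ^ k)) ∧
      Nonempty (G ≃* Matrix.ProjectiveSpecialLinearGroup (Fin 2) F)

/-- An overgroup of index 2 of `PSL₂(9)`. -/
def ShapeNine (G : Type u) [Group G] : Prop :=
  ∃ N : Subgroup G, N.Normal ∧ N.index = 2 ∧ ∃ (F : Type) (_ : Field F) (_ : Fintype F),
    Fintype.card F = 9 ∧ Nonempty (↥N ≃* Matrix.ProjectiveSpecialLinearGroup (Fin 2) F)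

/-- `PSL₃(4)`. -/
def ShapeFour (G : Type u) [Group G] : Prop :=
  IsSimpleGroup G ∧ Nat.card G = 20160 ∧ ∃ (F : Type) (_ : Field F) (_ : Fintype F),
    Fintype.card F = 4 ∧ Nonempty (G ≃* Matrix.ProjectiveSpecialLinearGroup (Fin 3) F)

end CfsgLib.CIT
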