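import Mathlib
import Cfsg.Agent.Lib.CIT.Defs
import Cfsg.Agent.Lib.PCore.Basic
import Cfsg.Agent.Classical.SLGen
import Cfsg.Agent.Classical.SLBasic
import Cfsg.Agent.Lib.Combin.PlaneFour
import Cfsg.Agent.Lib.Golay.ThreePoint
import Cfsg.Agent.Lib.Steiner.Witt

/-!
# Recognition of `PSL₃(4)` from its coset geometry

In a CIT group of order 20160 with the configuration `FourConfig`, the cosets of the normalizers of
the two elementary subgroups of order 16 are the points and lines of a projective plane of order 4,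
on which the group acts faithfully; this identifies the group with `PSL₃(4)`.
-/

set_option autoImplicit false
set_option linter.style.haveILetI false

namespace CfsgLib.CIT.FourRecog

open Subgroup CfsgLib.Combin CfsgLib.Golay CfsgLib.Steiner CfsgLib.Steiner.Rigidity
open scoped Pointwise Matrix

universe u

/-! ### The automorphism group of the plane -/

section Plane

variable {α : Type*} [Fintype α] [DecidableEq α] {L : Set (Finset α)}

theorem image_mem {g : Equiv.Perm α} (hg : g ∈ Cfsg.setSystemAut L) {l : Finset α} (hl : l ∈ L) :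
    l.image g ∈ L := by
  have h1 : g • l ∈ g • L := Set.smul_mem_smul_set hl
  rw [MulAction.mem_stabilizer_iff.1 hg] at h1
  rwa [Finset.smul_finset_def] at h1

theorem card_aut_le (hP : PlaneFour.IsPlane L) : Nat.card (Cfsg.setSystemAut L) ≤ 120960 := by
  classical
  obtain ⟨H, hH, hI⟩ := PlaneFour.exists_hyperoval hP
  let s : Fin 6 ≃ ↥H := (Fintype.equivFinOfCardEq (by rw [Fintype.card_coe, hH])).symm
  set h : Fin 6 → α := fun i => (s i : α) with hh
  have hF : PlaneFour.Frame L h := PlaneFour.frame_of_equiv hI s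
  let fr : Finset (Fin 6 → α) := Finset.univ.filter fun f => PlaneFour.Frame L f
  have hmap : ∀ g : Cfsg.setSystemAut L, (fun i => (g : Equiv.Perm α) (h i)) ∈ fr := by
    intro g
    refine Finset.mem_filter.2 ⟨Finset.mem_univ _, ⟨(g : Equiv.Perm α).injective.comp hF.inj, ?_⟩⟩
    intro l hl i j k hij hik hjk hi hj hk
    have hl' := image_mem (Subgroup.inv_mem _ g.2) hl
    have back : ∀ x, (g : Equiv.Perm α) x ∈ l → x ∈ l.image ⇑((g : Equiv.Perm α)⁻¹ : Equiv.Perm α) := fun x hx =>
      Finset.mem_image.2 ⟨_, hx, by simp⟩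
    exact hF.oval _ hl' i j k hij hik hjk (back _ hi) (back _ hj) (back _ hk)
  have h1 : Nat.card (Cfsg.setSystemAut L) ≤ fr.card := by
    rw [← Nat.card_eq_finsetCard fr]
    refine Nat.card_le_card_of_injective (fun g => ⟨_, hmap g⟩) fun g g' hgg' => ?_
    have hfix : ∀ i, ((g : Equiv.Perm α)⁻¹ * (g' : Equiv.Perm α)) (h i) = h i := fun i => by
      have := congrFun (congrArg Subtype.val hgg') i
      simp only at this
      rw [Equiv.Perm.mul_apply, ← this]
      simp
    have := PlaneFour.collineation_unique hP hF _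
      (Subgroup.mul_mem _ (Subgroup.inv_mem _ g.2) g'.2) hfix
    exact Subtype.ext (inv_mul_eq_one.1 this)
  have h2 : fr.card ≤ 720 * (fr.image fun f => Finset.univ.image f).card := by
    refine Finset.card_le_mul_card_image fr 720 fun S hS => ?_
    obtain ⟨f₀, hf₀, rfl⟩ := Finset.mem_image.1 hS
    set S := Finset.univ.image f₀ with hSdef
    have hcS : S.card = 6 := by
      rw [hSdef, Finset.card_image_of_injective _ (Finset.mem_filter.1 hf₀).2.inj]
      rfl
    calc (fr.filter fun f => Finset.univ.image f = S).card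
        = Nat.card ↥(fr.filter fun f => Finset.univ.image f = S) := (Nat.card_eq_finsetCard _).symm
      _ ≤ Nat.card (Fin 6 ≃ ↥S) := by
          refine Nat.card_le_card_of_injective (fun f => Equiv.ofBijective
            (fun i => (⟨f.1 i, ((Finset.mem_filter.1 f.2).2).le
              (Finset.mem_image_of_mem _ (Finset.mem_univ i))⟩ : ↥S)) ?_) ?_
          · refine (Fintype.bijective_iff_injective_and_card _).2 ⟨fun i j hij => ?_, by
              rw [Fintype.card_coe, hcS]; rfl⟩
            exact (Finset.mem_filter.1 (Finset.mem_filter.1 f.2).1).2.inj (congrArg Subtype.val hij)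
          · intro f f' hff'
            refine Subtype.ext (funext fun i => ?_)
            exact congrArg Subtype.val (congrFun (congrArg (fun e : Fin 6 ≃ ↥S => ⇑e) hff') i)
      _ = 720 := by
          have e : Fin 6 ≃ ↥S := (Fintype.equivFinOfCardEq (by rw [Fintype.card_coe, hcS])).symm
          rw [Nat.card_eq_fintype_card, Fintype.card_equiv e, Fintype.card_fin]
          rfl
  have h3 : (fr.image fun f => Finset.univ.image f) ⊆ PlaneFour.indepSets L 6 := by
    intro S hS
    obtain ⟨f, hf, rfl⟩ := Finset.mem_image.1 hS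
    have hf' := (Finset.mem_filter.1 hf).2
    refine PlaneFour.mem_indepSets.2 ⟨?_, fun l hl => ?_⟩
    · rw [Finset.card_image_of_injective _ hf'.inj]; rfl
    · by_contra hcon
      obtain ⟨x, y, z, hx, hy, hz, hxy, hxz, hyz⟩ := Finset.two_lt_card_iff.1 (not_le.1 hcon)
      simp only [Finset.mem_inter, Finset.mem_image, Finset.mem_univ, true_and] at hx hy hz
      obtain ⟨hx, i, rfl⟩ := hx
      obtain ⟨hy, j, rfl⟩ := hy
      obtain ⟨hz, k, rfl⟩ := hz
      exact hf'.oval l hl i j k (fun e => hxy (e ▸ rfl)) (fun e => hxz (e ▸ rfl))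
        (fun e => hyz (e ▸ rfl)) hx hy hz
  have h4 := Finset.card_le_card h3
  rw [PlaneFour.card_indep_six hP] at h4
  omega

end Plane

/-- The standard plane, on the points of the Witt design outside three points. -/
theorem isPlane_std : PlaneFour.IsPlane (Witt.std T0) := by
  constructor
  · rw [Fintype.card_subtype_compl]
    simp [card_T0]
  · have := (completes_through isSteinerSystem_octads T0).strip_isSteinerSystem
      (by rw [card_T0]; norm_num)
    rw [card_T0] at this
    exact this

theorem mem_threePts_iff {x : Cfsg.GolayPt} : x ∈ threePts ↔ x ∈ T0 := by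
  simp [threePts, T0]

theorem fixPts_apply (σ : ↥(fixPts threePts)) (x : Cfsg.GolayPt) :
    (σ : Equiv.Perm Cfsg.GolayPt) x ∉ T0 ↔ x ∉ T0 := by
  have hfix := (mem_fixPts.1 σ.2).2
  constructor
  · intro hx hT
    exact hx (by rwa [hfix x (mem_threePts_iff.2 hT)])
  · intro hx hT
    exact hx ((σ : Equiv.Perm Cfsg.GolayPt).injective (hfix _ (mem_threePts_iff.2 hT)) ▸ hT)

theorem subtypePerm_mem (σ : ↥(fixPts threePts)) :
    (σ : Equiv.Perm Cfsg.GolayPt).subtypePerm (p := (· ∉ T0)) (fixPts_apply σ) ∈ Cfsg.setSystemAut (Witt.std T0) := by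
  set τ := (σ : Equiv.Perm Cfsg.GolayPt).subtypePerm (p := (· ∉ T0)) (fixPts_apply σ)
  have hM : (σ : Equiv.Perm Cfsg.GolayPt) ∈ Cfsg.M24 := (mem_fixPts.1 σ.2).1
  rw [MulAction.mem_stabilizer_iff]
  simp only [Witt.std, strip, ← Set.image_smul, Set.image_image]
  have h := Witt.map_through hM T0
  rw [Witt.map_eq_self_of_fix (σ := (σ : Equiv.Perm Cfsg.GolayPt))
    (fun x hx => (mem_fixPts.1 σ.2).2 x (mem_threePts_iff.2 hx))] at h
  conv_rhs => rw [← h, Set.image_image]
  refine Set.image_congr fun b _ => ?_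
  rw [Witt.subtype_map (σ : Equiv.Perm Cfsg.GolayPt) τ fun _ => rfl, Finset.smul_finset_def]
  rfl

theorem exists_psl_hom {α : Type*} [Fintype α] [DecidableEq α] {L : Set (Finset α)}
    (hP : PlaneFour.IsPlane L) (F : Type) [Field F] [Fintype F] (hF : Fintype.card F = 4) :
    ∃ f : Matrix.ProjectiveSpecialLinearGroup (Fin 3) F →* Cfsg.setSystemAut L,
      Function.Injective f := by
  obtain ⟨e, h1, h2, h3, h4, h5⟩ := exists_model hF
  obtain ⟨a⟩ := nonempty_equiv_fixPts ⟨h1, h2, h3, h4, h5⟩ hF
  obtain ⟨-, φ, -⟩ := exists_setSystemAut_equiv (PlaneFour.unique_up_to_iso isPlane_std hP)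
  let r : ↥(fixPts threePts) →* Cfsg.setSystemAut (Witt.std T0) :=
    MonoidHom.mk' (fun σ => ⟨_, subtypePerm_mem σ⟩) fun σ τ => Subtype.ext (Equiv.ext fun x => rfl)
  have hr : Function.Injective r := by
    intro σ τ hστ
    refine Subtype.ext (Equiv.ext fun x => ?_)
    by_cases hx : x ∈ T0
    · rw [(mem_fixPts.1 σ.2).2 x (mem_threePts_iff.2 hx),
        (mem_fixPts.1 τ.2).2 x (mem_threePts_iff.2 hx)]
    · have := Equiv.congr_fun (congrArg Subtype.val hστ) ⟨x, hx⟩
      exact congrArg Subtype.val this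
  exact ⟨(φ.toMonoidHom.comp r).comp a.toMonoidHom, (φ.injective.comp hr).comp a.injective⟩

/-- A homomorphism from a finite simple group to a smaller group is trivial. -/
theorem hom_eq_one_of_card_lt {K P : Type*} [Group K] [Group P] [IsSimpleGroup K] [Finite P]
    (f : K →* P) (h : Nat.card P < Nat.card K) (x : K) : f x = 1 := by
  rcases (inferInstance : f.ker.Normal).eq_bot_or_eq_top with hk | hk
  · have := Nat.card_le_card_of_injective f ((MonoidHom.ker_eq_bot_iff f).1 hk)
    omega
  · exact (MonoidHom.mem_ker (f := f)).1 (hk ▸ mem_top x)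

theorem factorial_le_of_le_six {n : ℕ} (h : n ≤ 6) : n.factorial ≤ 720 :=
  (Nat.factorial_le h).trans (le_of_eq rfl)

theorem card_psl_three_four (F : Type) [Field F] [Fintype F] (hF : Fintype.card F = 4) :
    Nat.card (Matrix.ProjectiveSpecialLinearGroup (Fin 3) F) = 20160 := by
  have := Cfsg.Agent.Classical.card_psl_mul (F := F) 3 (by norm_num)
  rw [hF, Fin.prod_univ_three] at this
  norm_num at this
  omega

theorem nonempty_equiv_psl {G : Type*} [Group G] [Finite G] (hc : Nat.card G = 20160)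
    {α : Type*} [Fintype α] [DecidableEq α] {L : Set (Finset α)} (hP : PlaneFour.IsPlane L)
    (f : G →* Cfsg.setSystemAut L) (hf : Function.Injective f)
    (F : Type) [Field F] [Fintype F] (hF : Fintype.card F = 4) :
    Nonempty (G ≃* Matrix.ProjectiveSpecialLinearGroup (Fin 3) F) := by
  haveI : IsSimpleGroup (Matrix.ProjectiveSpecialLinearGroup (Fin 3) F) :=
    Cfsg.Agent.Classical.psl_isSimpleGroup (by simp)
  obtain ⟨g, hg⟩ := exists_psl_hom hP F hF
  have hcK := card_psl_three_four F hF
  have hcB : Nat.card f.range = 20160 := by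
    rw [← Nat.card_congr (MonoidHom.ofInjective hf).toEquiv, hc]
  have hidx : f.range.index ≤ 6 := by
    have h1 := f.range.card_mul_index
    have h2 := card_aut_le hP
    rw [hcB] at h1
    omega
  have hle : g.range ≤ f.range := by
    rintro _ ⟨x, rfl⟩
    have hsmall : Nat.card (Equiv.Perm (Cfsg.setSystemAut L ⧸ f.range)) <
        Nat.card (Matrix.ProjectiveSpecialLinearGroup (Fin 3) F) := by
      rw [hcK, Nat.card_perm, ← Subgroup.index_eq_card]
      exact lt_of_le_of_lt (factorial_le_of_le_six hidx) (by norm_num)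
    have h1 := hom_eq_one_of_card_lt
      ((MulAction.toPermHom (Cfsg.setSystemAut L) (Cfsg.setSystemAut L ⧸ f.range)).comp g) hsmall x
    have h2 := Equiv.congr_fun h1 ((1 : Cfsg.setSystemAut L) : Cfsg.setSystemAut L ⧸ f.range)
    simp only [MonoidHom.coe_comp, Function.comp_apply, MulAction.toPermHom_apply,
      MulAction.toPerm_apply, MulAction.Quotient.smul_coe, smul_eq_mul, mul_one,
      Equiv.Perm.one_apply] at h2
    simpa using QuotientGroup.eq.1 h2.symm
  have heq : g.range = f.range := Subgroup.eq_of_le_of_card_ge hle (le_of_eq (by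
    rw [hcB, ← Nat.card_congr (MonoidHom.ofInjective hg).toEquiv, hcK]))
  exact ⟨(MonoidHom.ofInjective hf).trans
    ((MulEquiv.subgroupCongr heq.symm).trans (MonoidHom.ofInjective hg).symm)⟩

/-! ### Coset geometry -/

section Geometry

variable {G : Type u} [Group G]

/-- Incidence in the coset geometry. -/
def Inc {H K : Subgroup G} (p : G ⧸ H) (l : G ⧸ K) : Prop :=
  ∃ g : G, (g : G ⧸ H) = p ∧ (g : G ⧸ K) = l

theorem inc_swap {H K : Subgroup G} {p : G ⧸ H} {l : G ⧸ K} : Inc p l ↔ Inc l p :=
  ⟨fun ⟨g, a, b⟩ => ⟨g, b, a⟩, fun ⟨g, a, b⟩ => ⟨g, b, a⟩⟩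

theorem inc_smul {H K : Subgroup G} (g : G) {p : G ⧸ H} {l : G ⧸ K} (h : Inc p l) :
    Inc (g • p) (g • l) := by
  obtain ⟨x, rfl, rfl⟩ := h
  exact ⟨g * x, rfl, rfl⟩

theorem card_inc (H K : Subgroup G) (g : G) :
    Nat.card {l : G ⧸ K // Inc (g : G ⧸ H) l} = (K.subgroupOf H).index := by
  rw [Subgroup.index_eq_card]
  refine (Nat.card_congr (Equiv.ofBijective (fun x : ↥H ⧸ K.subgroupOf H => (Quotient.liftOn' x
    (fun y => (⟨((g * (y : G) : G) : G ⧸ K), g * (y : G),
      QuotientGroup.eq.2 (by simp), rfl⟩ : {l : G ⧸ K // Inc (g : G ⧸ H) l}))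
    (fun y z hyz => Subtype.ext (QuotientGroup.eq.2 (by
      have h := Subgroup.mem_subgroupOf.1 (QuotientGroup.leftRel_apply.1 hyz)
      simpa [mul_assoc] using h))))) ⟨?_, ?_⟩)).symm
  · intro x y
    induction x using Quotient.inductionOn'
    induction y using Quotient.inductionOn'
    intro h
    refine QuotientGroup.eq.2 (Subgroup.mem_subgroupOf.2 ?_)
    have := QuotientGroup.eq.1 (congrArg Subtype.val h)
    simpa [mul_assoc] using this
  · rintro ⟨l, x, hx, rfl⟩
    exact ⟨((⟨g⁻¹ * x, QuotientGroup.eq.1 hx.symm⟩ : ↥H) : ↥H ⧸ K.subgroupOf H),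
      Subtype.ext (congrArg QuotientGroup.mk (mul_inv_cancel_left g x))⟩

end Geometry

/-! ### The configuration -/

section Config

variable {G : Type u} [Group G] {V A : Subgroup G}

theorem mem_conj {g x : G} {H : Subgroup G} : x ∈ MulAut.conj g • H ↔ g⁻¹ * x * g ∈ H := by
  rw [Subgroup.mem_pointwise_smul_iff_inv_smul_mem, ← map_inv, MulAut.smul_def]
  simp

theorem conj_mul (g g' : G) (H : Subgroup G) :
    MulAut.conj (g * g') • H = MulAut.conj g • MulAut.conj g' • H := by
  rw [map_mul, mul_smul]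

theorem card_conj (g : G) (H : Subgroup G) : Nat.card ↥(MulAut.conj g • H) = Nat.card ↥H :=
  (Nat.card_congr (Subgroup.equivSMul (MulAut.conj g) H).toEquiv).symm

theorem conj_eq_self_iff {g : G} {H : Subgroup G} :
    MulAut.conj g • H = H ↔ g ∈ normalizer (H : Set G) := by
  rw [mem_normalizer_iff]
  constructor
  · intro h x
    have hx := SetLike.ext_iff.1 h (g * x * g⁻¹)
    rw [mem_conj] at hx
    simpa [mul_assoc] using hx
  · intro h
    ext x
    rw [mem_conj, h]
    simp [mul_assoc]

theorem conj_congr {g g' : G} {H : Subgroup G}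
    (h : (g : G ⧸ normalizer (H : Set G)) = (g' : G ⧸ normalizer (H : Set G))) :
    MulAut.conj g • H = MulAut.conj g' • H := by
  conv_rhs => rw [show g' = g * (g⁻¹ * g') by group, conj_mul,
    conj_eq_self_iff.2 (QuotientGroup.eq.1 h)]

theorem quot_eq_of_conj {g g' : G} {H : Subgroup G} (h : MulAut.conj g • H = MulAut.conj g' • H) :
    (g : G ⧸ normalizer (H : Set G)) = (g' : G ⧸ normalizer (H : Set G)) := by
  refine QuotientGroup.eq.2 (conj_eq_self_iff.1 ?_)
  rw [conj_mul, ← h, ← conj_mul, inv_mul_cancel, map_one, one_smul]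

theorem symm (h : FourConfig V A) : FourConfig A V where
  elemV := h.elemA
  elemA := h.elemV
  card_V := h.card_A
  card_A := h.card_V
  centV := h.centA
  centA := h.centV
  card_inf := by rw [inf_comm]; exact h.card_inf
  card_sup := by rw [sup_comm]; exact h.card_sup
  normal_left := h.normal_right
  normal_right := h.normal_left
  sylow := by rw [sup_comm]; exact h.sylow
  invol := fun x hx hx2 => (h.invol x (sup_comm A V ▸ hx) hx2).symm
  isoV := h.isoA
  isoA := h.isoV

theorem isPGroup_sup [Finite G] (h : FourConfig V A) : IsPGroup 2 ↥(V ⊔ A) :=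
  IsPGroup.of_card (n := 6) (by rw [h.card_sup]; norm_num)

theorem le_normalizer_self (H : Subgroup G) : H ≤ normalizer (H : Set G) := le_normalizer

theorem sup_le_normalizer (h : FourConfig V A) : V ⊔ A ≤ normalizer (V : Set G) :=
  sup_le le_normalizer h.normal_left

variable [Finite G]

/-- The Sylow 2-subgroup `V ⊔ A`. -/
def syl (h : FourConfig V A) : Sylow 2 G :=
  ⟨V ⊔ A, isPGroup_sup h, fun hQ hle => h.sylow _ hQ hle⟩

theorem ne (h : FourConfig V A) : V ≠ A := by
  rintro rfl
  have := h.card_inf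
  rw [inf_idem, h.card_V] at this
  omega

/-- An elementary abelian subgroup of order 16 of `V ⊔ A` is one of `V`, `A`. -/
theorem eq_or_eq (h : FourConfig V A) {E : Subgroup G} (hE : E ≤ V ⊔ A)
    (he : ∀ x ∈ E, x * x = 1) (hcE : Nat.card ↥E = 16) : E = V ∨ E = A := by
  have hsub : E ≤ V ∨ E ≤ A := by
    by_contra hcon
    push Not at hcon
    obtain ⟨⟨x, hx, hxV⟩, y, hy, hyA⟩ := And.imp SetLike.not_le_iff_exists.1
      SetLike.not_le_iff_exists.1 hcon
    have hxA : x ∈ A := (h.invol x (hE hx) (he x hx)).resolve_left hxV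
    have hyV : y ∈ V := (h.invol y (hE hy) (he y hy)).resolve_right hyA
    rcases h.invol (x * y) (hE (mul_mem hx hy)) (he _ (mul_mem hx hy)) with hv | ha
    · exact hxV ((mul_mem_cancel_right hyV).1 hv)
    · exact hyA ((mul_mem_cancel_left hxA).1 ha)
  exact hsub.imp (fun hle => Subgroup.eq_of_le_of_card_ge hle (by rw [hcE, h.card_V]))
    (fun hle => Subgroup.eq_of_le_of_card_ge hle (by rw [hcE, h.card_A]))

theorem not_conj (h : FourConfig V A) (g : G) : MulAut.conj g • V ≠ A := by
  intro hg
  haveI : Fact (Nat.Prime 2) := ⟨Nat.prime_two⟩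
  set S : Subgroup G := V ⊔ A with hS
  set N : Subgroup G := normalizer (A : Set G) with hN
  have hSN : S ≤ N := sup_le h.normal_right le_normalizer
  have hgS : MulAut.conj g • S ≤ N := by
    intro x hx
    rw [mem_conj] at hx
    rw [hN, ← hg]
    refine conj_eq_self_iff.1 ?_
    rw [show x = g * (g⁻¹ * x * g) * g⁻¹ by group, conj_mul, conj_mul, ← conj_mul g⁻¹ g]
    rw [inv_mul_cancel, map_one, one_smul, conj_eq_self_iff.2 (sup_le_normalizer h hx)]
  let P : Sylow 2 N := (syl h).subtype hSN
  let Q : Sylow 2 N := (MulAut.conj g • syl h).subtype (by exact hgS)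
  obtain ⟨n, hn⟩ := MulAction.exists_smul_eq N Q P
  set m : G := (n : G) * g with hm
  have hmS : MulAut.conj m • S = S := by
    have e : ∀ x : ↥N, ((x : G) ∈ MulAut.conj (n : G) • (MulAut.conj g • S) ↔ (x : G) ∈ S) := by
      intro x
      have := congrArg Sylow.toSubgroup hn
      rw [Sylow.coe_subgroup_smul] at this
      have h1 := SetLike.ext_iff.1 this x
      rw [mem_pointwise_smul_iff_inv_smul_mem, ← map_inv, MulAut.smul_def, MulAut.conj_apply,
        inv_inv] at h1
      rw [mem_conj]
      exact h1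
    rw [hm, conj_mul]
    refine le_antisymm (fun x hx => ?_) (fun x hx => (e ⟨x, hSN hx⟩).2 hx)
    have hxN : x ∈ N := by
      have hxn := hgS (mem_conj.1 hx)
      simpa [mul_assoc] using N.mul_mem (N.mul_mem n.2 hxn) (N.inv_mem n.2)
    exact (e ⟨x, hxN⟩).1 hx
  have hmV : MulAut.conj m • V = A := by
    rw [hm, conj_mul, hg]
    exact conj_eq_self_iff.2 n.2
  have hmA : MulAut.conj m • A = V := by
    have hle : MulAut.conj m • A ≤ S := by
      rw [← hmS]
      exact Subgroup.pointwise_smul_le_pointwise_smul_iff.2 le_sup_right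
    have he : ∀ x ∈ MulAut.conj m • A, x * x = 1 := fun x hx => by
      have := h.elemA _ (mem_conj.1 hx)
      have h2 : m⁻¹ * (x * x) * m = 1 := by rw [← this]; group
      calc x * x = m * (m⁻¹ * (x * x) * m) * m⁻¹ := by group
        _ = 1 := by rw [h2]; group
    rcases eq_or_eq h hle he (by rw [card_conj, h.card_A]) with e | e
    · exact e
    · exact absurd (MulAction.injective (MulAut.conj m) (hmV.trans e.symm)) (ne h)
  obtain ⟨a, b, hb, hab⟩ := Nat.exists_eq_two_pow_mul_odd (orderOf_pos m).ne'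
  have hsw : MulAut.conj (m ^ b) • V = A := by
    obtain ⟨j, rfl⟩ := hb
    have h2 : ∀ i : ℕ, MulAut.conj (m ^ (2 * i)) • V = V := by
      intro i
      induction i with
      | zero => simp
      | succ i ih =>
        rw [show 2 * (i + 1) = 1 + (1 + 2 * i) by omega, pow_add, pow_add, conj_mul, conj_mul, ih,
          pow_one, hmV, hmA]
    rw [pow_succ', conj_mul, h2, hmV]
  have hmem : m ^ b ∈ S := by
    have hnS : zpowers (m ^ b) ≤ normalizer (S : Set G) :=
      zpowers_le.2 (pow_mem (conj_eq_self_iff.1 hmS) b)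
    have hz : IsPGroup 2 ↥(zpowers (m ^ b)) := by
      refine IsPGroup.of_card (n := a) ?_
      rw [Nat.card_zpowers, orderOf_pow_of_dvd hb.pos.ne' (hab ▸ dvd_mul_left _ _), hab,
        Nat.mul_div_cancel _ hb.pos]
    have := h.sylow _ ((isPGroup_sup h).to_sup_of_normal_left' hz hnS) le_sup_left
    rw [hS, ← this]
    exact mem_sup_right (mem_zpowers _)
  rw [conj_eq_self_iff.2 (sup_le_normalizer h hmem)] at hsw
  exact ne h hsw

/-- A 2-subgroup contains at most one conjugate of `V`. -/
theorem conj_unique (h : FourConfig V A) {Q : Subgroup G} (hQ : IsPGroup 2 ↥Q) {g g' : G}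
    (hg : MulAut.conj g • V ≤ Q) (hg' : MulAut.conj g' • V ≤ Q) :
    MulAut.conj g • V = MulAut.conj g' • V := by
  haveI : Fact (Nat.Prime 2) := ⟨Nat.prime_two⟩
  obtain ⟨P, hP⟩ := hQ.exists_le_sylow
  obtain ⟨c, hc⟩ := MulAction.exists_smul_eq G (syl h) P
  have hc' : (P : Subgroup G) = MulAut.conj c • (V ⊔ A) := by
    rw [← hc, Sylow.coe_subgroup_smul]
    rfl
  have key : ∀ x : G, MulAut.conj x • V ≤ Q → MulAut.conj (c⁻¹ * x) • V = V := by
    intro x hx
    have hle : MulAut.conj (c⁻¹ * x) • V ≤ V ⊔ A := by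
      rw [conj_mul, map_inv, Subgroup.pointwise_smul_subset_iff, inv_inv, ← hc']
      exact hx.trans hP
    have he : ∀ y ∈ MulAut.conj (c⁻¹ * x) • V, y * y = 1 := fun y hy => by
      have h1 := h.elemV _ (mem_conj.1 hy)
      generalize c⁻¹ * x = z at h1
      calc y * y = z * (z⁻¹ * y * z * (z⁻¹ * y * z)) * z⁻¹ := by group
        _ = 1 := by rw [h1]; group
    rcases eq_or_eq h hle he (by rw [card_conj, h.card_V]) with e | e
    · exact e
    · exact absurd e (not_conj h _)
  have h1 := key g hg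
  have h2 := key g' hg'
  rw [conj_mul] at h1 h2
  exact MulAction.injective (MulAut.conj c⁻¹) (h1.trans h2.symm)

theorem conj_elem (h : FourConfig V A) (g : G) : ∀ x ∈ MulAut.conj g • V, x * x = 1 := fun x hx => by
  have h1 := h.elemV _ (mem_conj.1 hx)
  calc x * x = g * (g⁻¹ * x * g * (g⁻¹ * x * g)) * g⁻¹ := by group
    _ = 1 := by rw [h1]; group

theorem conj_commute (h : FourConfig V A) (g : G) {x y : G} (hx : x ∈ MulAut.conj g • V)
    (hy : y ∈ MulAut.conj g • V) : Commute x y := by
  have e : ∀ z ∈ MulAut.conj g • V, z⁻¹ = z := fun z hz =>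
    inv_eq_of_mul_eq_one_right (conj_elem h g z hz)
  calc x * y = (x * y)⁻¹ := (e _ (mul_mem hx hy)).symm
    _ = y⁻¹ * x⁻¹ := mul_inv_rev x y
    _ = y * x := by rw [e x hx, e y hy]

/-- Distinct conjugates of `V` meet trivially. -/
theorem eq_bot_of_ne (hG : IsCIT G) (h : FourConfig V A) {g g' : G}
    (hne : MulAut.conj g • V ≠ MulAut.conj g' • V) :
    MulAut.conj g • V ⊓ MulAut.conj g' • V = ⊥ := by
  by_contra hcon
  rw [← ne_eq, ne_bot_iff_exists_ne_one] at hcon
  obtain ⟨⟨w, hw⟩, hw1⟩ := hcon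
  have hw1' : w ≠ 1 := fun e => hw1 (Subtype.ext e)
  have hord : orderOf w = 2 := by
    haveI : Fact (Nat.Prime 2) := ⟨Nat.prime_two⟩
    exact orderOf_eq_prime (by rw [pow_two]; exact conj_elem h g w hw.1) hw1'
  refine hne (conj_unique h (hG w hord) ?_ ?_) <;> intro x hx <;>
    rw [mem_centralizer_singleton_iff]
  · exact (conj_commute h g hx hw.1).eq
  · exact (conj_commute h g' hx hw.2).eq

theorem cent_conj (h : FourConfig V A) (g : G) {x : G}
    (hx : ∀ y ∈ MulAut.conj g • V, Commute x y) : x ∈ MulAut.conj g • V := by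
  rw [mem_conj]
  have : g⁻¹ * x * g ∈ centralizer (V : Set G) := by
    rw [mem_centralizer_iff]
    intro v hv
    have hy : g * v * g⁻¹ ∈ MulAut.conj g • V := by
      rw [mem_conj]
      simpa [mul_assoc] using hv
    have := (hx _ hy).eq
    calc v * (g⁻¹ * x * g) = g⁻¹ * (g * v * g⁻¹ * x) * g := by group
      _ = g⁻¹ * (x * (g * v * g⁻¹)) * g := by rw [this]
      _ = g⁻¹ * x * g * v := by group
  rwa [h.centV] at this

theorem conj_le_normalizer (h : FourConfig V A) (g : G) :
    MulAut.conj g • A ≤ normalizer ((MulAut.conj g • V : Subgroup G) : Set G) := by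
  intro x hx
  rw [mem_conj] at hx
  refine conj_eq_self_iff.1 ?_
  rw [← conj_mul, show x * g = g * (g⁻¹ * x * g) by group, conj_mul,
    conj_eq_self_iff.2 (h.normal_left hx)]

theorem card_conj_inf (h : FourConfig V A) (g : G) :
    Nat.card ↥(MulAut.conj g • V ⊓ MulAut.conj g • A) = 4 := by
  rw [← smul_inf, card_conj, h.card_inf]

theorem commutator_mem {X : Subgroup G} {x y : G} (hy : y ∈ X)
    (hx : x ∈ normalizer (X : Set G)) : x * y * x⁻¹ * y⁻¹ ∈ X :=
  mul_mem ((mem_normalizer_iff.1 hx y).1 hy) (inv_mem hy)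

theorem inc_data (h : FourConfig V A) {x a : G}
    (hi : Inc (x : G ⧸ normalizer (V : Set G)) (a : G ⧸ normalizer (A : Set G))) :
    Nat.card ↥(MulAut.conj x • V ⊓ MulAut.conj a • A) = 4 ∧
      MulAut.conj a • A ≤ normalizer ((MulAut.conj x • V : Subgroup G) : Set G) ∧
      MulAut.conj x • V ≤ normalizer ((MulAut.conj a • A : Subgroup G) : Set G) := by
  obtain ⟨g, hgx, hga⟩ := hi
  rw [← conj_congr hgx, ← conj_congr hga]
  exact ⟨card_conj_inf h g, conj_le_normalizer h g, conj_le_normalizer (symm h) g⟩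

theorem sup_eq_of_card {v X Y : Subgroup G}
    (hX : X ≤ v) (hY : Y ≤ v) (hd : X ⊓ Y = ⊥)
    (hc : Nat.card ↥v ≤ Nat.card ↥X * Nat.card ↥Y) : X ⊔ Y = v := by
  let f : ↥X × ↥Y → ↥(X ⊔ Y) := fun q =>
    ⟨(q.1 : G) * (q.2 : G), mul_mem (mem_sup_left q.1.2) (mem_sup_right q.2.2)⟩
  have hf : Function.Injective f := fun q r hqr => by
    exact Subgroup.mul_injective_of_disjoint (disjoint_iff.2 hd) (congrArg Subtype.val hqr)
  refine Subgroup.eq_of_le_of_card_ge (sup_le hX hY) (hc.trans ?_)
  rw [← Nat.card_prod]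
  exact Nat.card_le_card_of_injective f hf

/-- Two points lie on at most one common line. -/
theorem inc_unique (hG : IsCIT G) (h : FourConfig V A) {p p' : G ⧸ normalizer (V : Set G)}
    {l l' : G ⧸ normalizer (A : Set G)} (hp : p ≠ p') (h11 : Inc p l) (h12 : Inc p l')
    (h21 : Inc p' l) (h22 : Inc p' l') : l = l' := by
  by_contra hl
  induction p using QuotientGroup.induction_on with | _ x =>
  induction p' using QuotientGroup.induction_on with | _ x' =>
  induction l using QuotientGroup.induction_on with | _ a =>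
  induction l' using QuotientGroup.induction_on with | _ a' =>
  set v := MulAut.conj x • V
  set v' := MulAut.conj x' • V
  set b := MulAut.conj a • A
  set b' := MulAut.conj a' • A
  have hvv : v ⊓ v' = ⊥ := eq_bot_of_ne hG h fun e => hp (quot_eq_of_conj e)
  have hbb : b ⊓ b' = ⊥ := eq_bot_of_ne hG (symm h) fun e => hl (quot_eq_of_conj e)
  obtain ⟨c11, n11, m11⟩ := inc_data h h11
  obtain ⟨c12, n12, m12⟩ := inc_data h h12
  obtain ⟨c21, n21, m21⟩ := inc_data h h21
  obtain ⟨c22, n22, m22⟩ := inc_data h h22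
  have hcv : Nat.card ↥v = 16 := by rw [card_conj, h.card_V]
  have hsup : (v ⊓ b) ⊔ (v ⊓ b') = v := by
    refine sup_eq_of_card inf_le_left inf_le_left
      ?_ (le_of_eq ?_)
    · exact le_bot_iff.1 (hbb ▸ inf_le_inf inf_le_right inf_le_right)
    · rw [hcv, c11, c12]
  have hcent : v' ⊓ b ≤ v := by
    intro s hs
    refine cent_conj h x fun y hy => ?_
    rw [show MulAut.conj x • V = v from rfl, ← hsup] at hy
    have hC : (v ⊓ b) ⊔ (v ⊓ b') ≤ centralizer ({s} : Set G) := by
      refine sup_le ?_ ?_ <;> intro z hz <;> rw [mem_centralizer_singleton_iff]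
      · exact (conj_commute (symm h) a hz.2 hs.2).eq
      · have h1 : s * z * s⁻¹ * z⁻¹ ∈ v ⊓ b' :=
          ⟨commutator_mem hz.1 (n11 hs.2), commutator_mem hz.2 (m22 hs.1)⟩
        have h2 : z * s * z⁻¹ * s⁻¹ ∈ v' ⊓ b :=
          ⟨commutator_mem hs.1 (n22 hz.2), commutator_mem hs.2 (m11 hz.1)⟩
        have h3 : s * z * s⁻¹ * z⁻¹ ∈ v' ⊓ b := by
          have := inv_mem h2
          convert this using 1
          group
        have h4 : s * z * s⁻¹ * z⁻¹ ∈ v ⊓ v' := ⟨h1.1, h3.1⟩
        rw [hvv, mem_bot] at h4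
        calc z * s = (s * z * s⁻¹ * z⁻¹) * (z * s) := by rw [h4, one_mul]
          _ = s * z := by group
    exact (mem_centralizer_singleton_iff.1 (hC hy)).symm
  have : v' ⊓ b = ⊥ := le_bot_iff.1 (hvv ▸ le_inf hcent inf_le_left)
  rw [this, Subgroup.card_bot] at c21
  omega

/-- Five is the least possible number of lines through a point. -/
theorem five_le (h : FourConfig V A) :
    5 ≤ ((normalizer (A : Set G)).subgroupOf (normalizer (V : Set G))).index := by
  obtain ⟨F, iF, iFt, hF, ⟨e⟩⟩ := h.isoV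
  haveI : IsSimpleGroup (Matrix.ProjectiveSpecialLinearGroup (Fin 2) F) :=
    Matrix.ProjectiveSpecialLinearGroup.rank_two_simple (F := F)
      (by rw [Nat.card_eq_fintype_card, hF])
  set N : Subgroup G := normalizer (V : Set G)
  set M : Subgroup ↥N := V.subgroupOf N with hM
  have hcQ : Nat.card (↥N ⧸ M) = 60 := by
    rw [Nat.card_congr e.toEquiv]
    have := Cfsg.Agent.Classical.card_psl_mul (F := F) 2 (by norm_num)
    rw [hF, Fin.prod_univ_two] at this
    norm_num at this
    omega
  haveI : Nontrivial (↥N ⧸ M) := e.toEquiv.nontrivial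
  haveI : IsSimpleGroup (↥N ⧸ M) := IsSimpleGroup.isSimpleGroup_of_surjective e.symm.toMonoidHom
    e.symm.surjective
  have hcM : Nat.card ↥M = 16 := by
    rw [hM, Nat.card_congr (subgroupOfEquivOfLe le_normalizer).toEquiv, h.card_V]
  set K : Subgroup ↥N := (normalizer (A : Set G)).subgroupOf N
  have hSK : (V ⊔ A).subgroupOf N ≤ K :=
    fun x hx => mem_subgroupOf.2 (sup_le h.normal_right le_normalizer (mem_subgroupOf.1 hx))
  have hdvd : K.index ∣ 15 := by
    have h64 : (64 : ℕ) ∣ Nat.card ↥K := by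
      have := Subgroup.card_dvd_of_le hSK
      rwa [Nat.card_congr (subgroupOfEquivOfLe (sup_le_normalizer h)).toEquiv, h.card_sup] at this
    obtain ⟨k, hk⟩ := h64
    have h1 := K.card_mul_index
    have h2 := M.card_eq_card_quotient_mul_card_subgroup
    rw [hcQ, hcM, ← h1, hk, mul_assoc] at h2
    exact ⟨k, by rw [mul_comm] ; omega⟩
  have hne : K ≠ ⊤ := by
    intro hK
    have hnorm : ∀ n : ↥N, MulAut.conj (n : G) • (V ⊔ A) = V ⊔ A := fun n => by
      rw [Subgroup.smul_sup, conj_eq_self_iff.2 n.2,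
        conj_eq_self_iff.2 (mem_subgroupOf.1 (hK ▸ mem_top n : n ∈ K))]
    set S : Subgroup ↥N := (V ⊔ A).subgroupOf N
    have hS : S.Normal := ⟨fun x hx n => mem_subgroupOf.2 (by
      rw [← hnorm n, mem_conj]
      simpa [mul_assoc] using mem_subgroupOf.1 hx)⟩
    have hcS : Nat.card ↥S = 64 := by
      rw [Nat.card_congr (subgroupOfEquivOfLe (sup_le_normalizer h)).toEquiv, h.card_sup]
    have hMS : M ≤ S := fun x hx => mem_subgroupOf.2 (mem_sup_left (mem_subgroupOf.1 hx))
    have hc4 : Nat.card ↥(S.map (QuotientGroup.mk' M)) * 16 = 64 := by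
      have h1 := Subgroup.card_mul_index (M.subgroupOf S)
      rw [Nat.card_congr (subgroupOfEquivOfLe hMS).toEquiv, hcM, hcS] at h1
      have h2 : Nat.card ↥(S.map (QuotientGroup.mk' M)) = (M.subgroupOf S).index := by
        rw [show S.map (QuotientGroup.mk' M) = ((QuotientGroup.mk' M).comp S.subtype).range by
          rw [MonoidHom.range_comp, Subgroup.range_subtype],
          ← Subgroup.index_ker, ← MonoidHom.comap_ker, QuotientGroup.ker_mk']
        rfl
      rw [h2]
      omega
    rcases (hS.map _ (QuotientGroup.mk'_surjective M)).eq_bot_or_eq_top with e' | e'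
    · rw [e', Subgroup.card_bot] at hc4
      omega
    · rw [e', Subgroup.card_top, hcQ] at hc4
      omega
  have hthree : K.index ≠ 3 := by
    intro h3
    let ρ : ↥N →* Equiv.Perm (↥N ⧸ K) := MulAction.toPermHom _ _
    have hker : M ≤ ρ.ker := by
      intro x hx
      rw [MonoidHom.mem_ker]
      refine Equiv.ext fun q => ?_
      induction q using QuotientGroup.induction_on with | _ y =>
      refine (QuotientGroup.eq (s := K)).2 ?_ |>.symm
      have : y⁻¹ * x * y ∈ M := by
        simpa using (inferInstance : M.Normal).conj_mem x hx y⁻¹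
      exact hSK (mem_subgroupOf.2 (mem_sup_left (mem_subgroupOf.1 (by simpa [mul_assoc] using this))))
    let ρ' : ↥N ⧸ M →* Equiv.Perm (↥N ⧸ K) := QuotientGroup.lift M ρ hker
    have hlt : Nat.card (Equiv.Perm (↥N ⧸ K)) < Nat.card (↥N ⧸ M) := by
      rw [hcQ, Nat.card_perm, ← Subgroup.index_eq_card, h3]
      decide
    refine hne (eq_top_iff.2 fun x _ => ?_)
    have h1 := Equiv.congr_fun (hom_eq_one_of_card_lt ρ' hlt (x : ↥N ⧸ M)) ((1 : ↥N) : ↥N ⧸ K)
    have h2 : ((x * 1 : ↥N) : ↥N ⧸ K) = ((1 : ↥N) : ↥N ⧸ K) := h1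
    rw [mul_one] at h2
    simpa using inv_mem (QuotientGroup.eq.1 h2.symm)
  have h1 : K.index ≠ 1 := fun e' => hne (Subgroup.index_eq_one.1 e')
  have hmem : K.index ∈ Nat.divisors 15 := Nat.mem_divisors.2 ⟨hdvd, by norm_num⟩
  have : Nat.divisors 15 = {1, 3, 5, 15} := by decide
  rw [this] at hmem
  simp only [Finset.mem_insert, Finset.mem_singleton] at hmem
  omega

theorem card_points (h : FourConfig V A) (hc : Nat.card G = 20160) :
    (normalizer (V : Set G)).index = 21 := by
  obtain ⟨F, iF, iFt, hF, ⟨e⟩⟩ := h.isoV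
  have h1 := (normalizer (V : Set G)).card_mul_index
  have h2 := (V.subgroupOf (normalizer (V : Set G))).card_eq_card_quotient_mul_card_subgroup
  rw [Nat.card_congr e.toEquiv, Nat.card_congr (subgroupOfEquivOfLe le_normalizer).toEquiv,
    h.card_V] at h2
  have := Cfsg.Agent.Classical.card_psl_mul (F := F) 2 (by norm_num)
  rw [hF, Fin.prod_univ_two] at this
  norm_num at this
  rw [hc] at h1
  rw [h2] at h1
  rw [show Nat.card (Matrix.ProjectiveSpecialLinearGroup (Fin 2) F) = 60 by omega] at h1
  omega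

theorem faithful (h2 : Cfsg.pCore 2 G = ⊥) (h : FourConfig V A) {g : G}
    (hg : ∀ p : G ⧸ normalizer (V : Set G), g • p = p) : g = 1 := by
  set ρ := MulAction.toPermHom G (G ⧸ normalizer (V : Set G))
  set K : Subgroup G := ρ.ker
  have hgK : g ∈ K := MonoidHom.mem_ker.2 (Equiv.ext hg)
  have hKN : K ≤ normalizer (V : Set G) := fun x hx => by
    have := Equiv.congr_fun (MonoidHom.mem_ker.1 hx) ((1 : G) : G ⧸ normalizer (V : Set G))
    have h' : ((x * 1 : G) : G ⧸ normalizer (V : Set G)) = ((1 : G) : G ⧸ _) := this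
    rw [mul_one] at h'
    simpa using inv_mem (QuotientGroup.eq.1 h'.symm)
  have hsub : (K ⊓ V).IsSubnormal := by
    refine IsSubnormal.step _ K inf_le_left (inferInstance : K.Normal).isSubnormal ⟨fun x hx n => ?_⟩
    rw [mem_subgroupOf] at hx ⊢
    refine ⟨(inferInstance : K.Normal).conj_mem _ hx.1 _, ?_⟩
    exact (mem_normalizer_iff.1 (hKN n.2) _).1 hx.2
  have hbot : K ⊓ V = ⊥ := by
    refine le_bot_iff.1 (h2 ▸ CfsgLib.PCore.le_pCore_of_isSubnormal hsub ?_)
    exact (IsPGroup.of_card (n := 4) (by rw [h.card_V]; norm_num) : IsPGroup 2 ↥V).to_le inf_le_right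
  have hC : K ≤ centralizer (V : Set G) := by
    intro x hx
    rw [mem_centralizer_iff]
    intro v hv
    have h1 : x * v * x⁻¹ * v⁻¹ ∈ K ⊓ V := by
      refine ⟨?_, commutator_mem hv (hKN hx)⟩
      have := mul_mem hx ((inferInstance : K.Normal).conj_mem _ (inv_mem hx) v)
      simpa [mul_assoc] using this
    rw [hbot, mem_bot] at h1
    calc v * x = (x * v * x⁻¹ * v⁻¹) * (v * x) := by rw [h1, one_mul]
      _ = x * v := by group
  have : g ∈ K ⊓ V := ⟨hgK, h.centV ▸ hC hgK⟩
  rwa [hbot, mem_bot] at this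

/-- The points on a line. -/
noncomputable def block (h : FourConfig V A) [Fintype (G ⧸ normalizer (V : Set G))]
    (l : G ⧸ normalizer (A : Set G)) : Finset (G ⧸ normalizer (V : Set G)) :=
  haveI := Classical.decPred fun p : G ⧸ normalizer (V : Set G) => Inc p l
  have _ := h
  Finset.univ.filter fun p => Inc p l

theorem mem_block (h : FourConfig V A) [Fintype (G ⧸ normalizer (V : Set G))]
    {l : G ⧸ normalizer (A : Set G)} {p : G ⧸ normalizer (V : Set G)} :
    p ∈ block h l ↔ Inc p l := by
  simp [block]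

theorem steiner (hG : IsCIT G) (h : FourConfig V A) (hc : Nat.card G = 20160)
    [Fintype (G ⧸ normalizer (V : Set G))] [DecidableEq (G ⧸ normalizer (V : Set G))] :
    PlaneFour.IsPlane (Set.range (block h)) := by
  classical
  haveI : Fintype (G ⧸ normalizer (A : Set G)) := Fintype.ofFinite _
  have hN : Fintype.card (G ⧸ normalizer (V : Set G)) = 21 := by
    rw [← Nat.card_eq_fintype_card, ← Subgroup.index_eq_card, card_points h hc]
  set k := ((normalizer (A : Set G)).subgroupOf (normalizer (V : Set G))).index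
  set k' := ((normalizer (V : Set G)).subgroupOf (normalizer (A : Set G))).index
  have hk5 : 5 ≤ k := five_le h
  have hk5' : 5 ≤ k' := five_le (symm h)
  have hblock : ∀ l, (block h l).card = k' := by
    intro l
    induction l using QuotientGroup.induction_on with | _ a =>
    rw [← Nat.card_eq_finsetCard]
    refine Eq.trans (Nat.card_congr (Equiv.subtypeEquivRight fun p => ?_))
      (card_inc (normalizer (A : Set G)) (normalizer (V : Set G)) a)
    rw [mem_block, inc_swap]
  have hlines : ∀ p : G ⧸ normalizer (V : Set G),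
      (Finset.univ.filter fun l : G ⧸ normalizer (A : Set G) => Inc p l).card = k := by
    intro p
    induction p using QuotientGroup.induction_on with | _ a =>
    rw [← Nat.card_eq_finsetCard]
    refine Eq.trans (Nat.card_congr (Equiv.subtypeEquivRight fun l => ?_))
      (card_inc (normalizer (V : Set G)) (normalizer (A : Set G)) a)
    simp
  have hjoin : ∀ p : G ⧸ normalizer (V : Set G),
      ((Finset.univ.filter fun l : G ⧸ normalizer (A : Set G) => Inc p l).biUnion fun l => (block h l).erase p).card =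
        k * (k' - 1) := by
    intro p
    rw [Finset.card_biUnion]
    · rw [Finset.sum_congr rfl (fun l hl => by
        rw [Finset.card_erase_of_mem ((mem_block h).2 (Finset.mem_filter.1 hl).2), hblock]),
        Finset.sum_const, hlines, smul_eq_mul]
    · intro l hl l' hl' hne
      rw [Function.onFun, Finset.disjoint_left]
      intro q hq hq'
      rw [Finset.mem_erase, mem_block] at hq hq'
      exact hne (inc_unique hG h hq.1.symm (Finset.mem_filter.1 hl).2 (Finset.mem_filter.1 hl').2
        hq.2 hq'.2)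
  have hsubset : ∀ p : G ⧸ normalizer (V : Set G),
      ((Finset.univ.filter fun l : G ⧸ normalizer (A : Set G) => Inc p l).biUnion fun l => (block h l).erase p) ⊆
        Finset.univ.erase p := by
    intro p q hq
    obtain ⟨l, -, hl⟩ := Finset.mem_biUnion.1 hq
    exact Finset.mem_erase.2 ⟨(Finset.mem_erase.1 hl).1, Finset.mem_univ _⟩
  have hkk : k * (k' - 1) ≤ 20 := by
    have h0 := Finset.card_le_card (hsubset ((1 : G) : G ⧸ normalizer (V : Set G)))
    rw [hjoin, Finset.card_erase_of_mem (Finset.mem_univ _), Finset.card_univ, hN] at h0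
    exact h0
  have hk4 : 5 * (k' - 1) ≤ k * (k' - 1) := Nat.mul_le_mul_right _ hk5
  have hk' : k' = 5 := by omega
  have hk : k = 5 := by rw [hk'] at hkk; omega
  refine ⟨hN, ⟨?_, fun s hs => ?_⟩⟩
  · rintro _ ⟨l, rfl⟩
    rw [hblock, hk']
  obtain ⟨p, q, hpq, rfl⟩ := Finset.card_eq_two.1 hs
  have hex : q ∈ (Finset.univ.filter fun l : G ⧸ normalizer (A : Set G) => Inc p l).biUnion fun l => (block h l).erase p := by
    rw [Finset.eq_of_subset_of_card_le (hsubset p) (by
      rw [hjoin, Finset.card_erase_of_mem (Finset.mem_univ _), Finset.card_univ, hN, hk, hk'])]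
    exact Finset.mem_erase.2 ⟨hpq.symm, Finset.mem_univ _⟩
  obtain ⟨l, hl, hql⟩ := Finset.mem_biUnion.1 hex
  refine ⟨block h l, ⟨⟨l, rfl⟩, ?_⟩, ?_⟩
  · rw [Finset.insert_subset_iff, Finset.singleton_subset_iff, mem_block]
    exact ⟨(Finset.mem_filter.1 hl).2, (Finset.mem_erase.1 hql).2⟩
  rintro _ ⟨⟨l', rfl⟩, hl'⟩
  rw [Finset.insert_subset_iff, Finset.singleton_subset_iff, mem_block, mem_block] at hl'
  rw [inc_unique hG h hpq hl'.1 (Finset.mem_filter.1 hl).2 hl'.2
    ((mem_block h).1 (Finset.mem_erase.1 hql).2)]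

theorem smul_block (h : FourConfig V A) [Fintype (G ⧸ normalizer (V : Set G))]
    [DecidableEq (G ⧸ normalizer (V : Set G))] (g : G) (l : G ⧸ normalizer (A : Set G)) :
    (block h l).image (fun p => g • p) = block h (g • l) := by
  ext p
  simp only [Finset.mem_image, mem_block]
  constructor
  · rintro ⟨q, hq, rfl⟩
    exact inc_smul g hq
  · intro hp
    exact ⟨g⁻¹ • p, by simpa using inc_smul g⁻¹ hp, smul_inv_smul g p⟩

theorem smul_range (h : FourConfig V A) [Fintype (G ⧸ normalizer (V : Set G))]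
    [DecidableEq (G ⧸ normalizer (V : Set G))] (g : G) :
    MulAction.toPermHom G (G ⧸ normalizer (V : Set G)) g ∈
      Cfsg.setSystemAut (Set.range (block h)) := by
  rw [MulAction.mem_stabilizer_iff, Set.smul_set_range]
  have : (fun l => MulAction.toPermHom G (G ⧸ normalizer (V : Set G)) g • block h l) =
      block h ∘ (fun l => g • l) := by
    funext l
    rw [Function.comp_apply, ← smul_block h g l, Finset.smul_finset_def]
    rfl
  rw [this, (MulAction.surjective g).range_comp]

end Config

end CfsgLib.CIT.FourRecog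

namespace CfsgLib.CIT

universe u

open FourRecog in
/-- A CIT group of order 20160 with the configuration of `PSL₃(4)` is `PSL₃(4)`. -/
theorem FourConfig.shapeFour {G : Type u} [Group G] [Finite G] (hG : IsCIT G)
    (h2 : Cfsg.pCore 2 G = ⊥) (hO : Cfsg.pPrimeCore 2 G = ⊥) {V A : Subgroup G}
    (h : FourConfig V A) (hc : Nat.card G = 20160) : ShapeFour G := by
  classical
  have _ := hO
  obtain ⟨F, iF, iFt, hF, -⟩ := h.isoV
  letI : Fintype (G ⧸ Subgroup.normalizer (V : Set G)) := Fintype.ofFinite _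
  have hP := FourRecog.steiner hG h hc
  let f : G →* Cfsg.setSystemAut (Set.range (FourRecog.block h)) :=
    (MulAction.toPermHom G (G ⧸ Subgroup.normalizer (V : Set G))).codRestrict _
      (FourRecog.smul_range h)
  have hf : Function.Injective f := by
    refine (MonoidHom.ker_eq_bot_iff f).1 ((Subgroup.eq_bot_iff_forall _).2 fun g hg => ?_)
    refine FourRecog.faithful h2 h fun p => ?_
    exact Equiv.congr_fun (congrArg Subtype.val (MonoidHom.mem_ker.1 hg)) p
  obtain ⟨e⟩ := FourRecog.nonempty_equiv_psl hc hP f hf F hF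
  haveI : IsSimpleGroup (Matrix.ProjectiveSpecialLinearGroup (Fin 3) F) :=
    Cfsg.Agent.Classical.psl_isSimpleGroup (by simp)
  haveI : Nontrivial G := e.toEquiv.nontrivial
  exact ⟨IsSimpleGroup.isSimpleGroup_of_surjective e.symm.toMonoidHom e.symm.surjective, hc,
    F, iF, iFt, hF, ⟨e⟩⟩

end CfsgLib.CIT
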