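import Mathlib
import Cfsg.Agent.Lib.CIT.FourRecog

/-!
# The order of a group with the configuration of `PSL₃(4)`

The involutions of a CIT group with the configuration `FourConfig` are counted by the cosets of
`N(V)` containing them: this gives exactly 21 cosets.
-/

set_option autoImplicit false
set_option linter.style.haveILetI false

namespace CfsgLib.CIT.FourCount

open Subgroup CfsgLib.CIT.FourRecog
open scoped Pointwise

universe u

variable {G : Type u} [Group G]

/-- The conjugate of `H` attached to a coset of its normalizer. -/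
def pconj (H : Subgroup G) (p : G ⧸ normalizer (H : Set G)) : Subgroup G :=
  Quotient.liftOn' p (fun g => MulAut.conj g • H) fun _ _ h => conj_congr (Quotient.sound' h)

theorem pconj_mk (H : Subgroup G) (g : G) :
    pconj H (g : G ⧸ normalizer (H : Set G)) = MulAut.conj g • H := rfl

theorem fix_iff (H : Subgroup G) (g x : G) :
    x • (g : G ⧸ normalizer (H : Set G)) = (g : G ⧸ normalizer (H : Set G)) ↔
      x ∈ normalizer ((MulAut.conj g • H : Subgroup G) : Set G) := by
  rw [← conj_eq_self_iff, ← FourRecog.conj_mul, MulAction.Quotient.smul_coe, smul_eq_mul]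
  exact ⟨conj_congr, quot_eq_of_conj⟩

variable [Finite G] {V A : Subgroup G}

theorem card_normalizer (h : FourConfig V A) : Nat.card ↥(normalizer (V : Set G)) = 960 := by
  obtain ⟨F, iF, iFt, hF, ⟨e⟩⟩ := h.isoV
  have h2 := (V.subgroupOf (normalizer (V : Set G))).card_eq_card_quotient_mul_card_subgroup
  rw [Nat.card_congr e.toEquiv, Nat.card_congr (subgroupOfEquivOfLe le_normalizer).toEquiv,
    h.card_V] at h2
  have := Cfsg.Agent.Classical.card_psl_mul (F := F) 2 (by norm_num)
  rw [hF, Fin.prod_univ_two] at this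
  norm_num at this
  rw [h2, show Nat.card (Matrix.ProjectiveSpecialLinearGroup (Fin 2) F) = 60 by omega]

/-- An involution of `N(V)` lies in `V` or in a conjugate of `A` under `N(V)`. -/
theorem invol_normalizer (h : FourConfig V A) {x : G} (hx : x * x = 1)
    (hxN : x ∈ normalizer (V : Set G)) :
    x ∈ V ∨ ∃ n ∈ normalizer (V : Set G), x ∈ MulAut.conj n • A := by
  haveI : Fact (Nat.Prime 2) := ⟨Nat.prime_two⟩
  set N : Subgroup G := normalizer (V : Set G)
  have hz : IsPGroup 2 ↥(zpowers (⟨x, hxN⟩ : ↥N)) := by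
    intro y
    refine ⟨1, ?_⟩
    obtain ⟨i, hi⟩ := y.2
    have hi' : (⟨x, hxN⟩ : ↥N) ^ i = (y : ↥N) := hi
    refine Subtype.ext ?_
    show (y : ↥N) ^ (2 ^ 1) = 1
    rw [pow_one, ← hi', ← zpow_natCast, ← zpow_mul, mul_comm i, zpow_mul, zpow_natCast, pow_two,
      show (⟨x, hxN⟩ : ↥N) * ⟨x, hxN⟩ = 1 from Subtype.ext hx, one_zpow]
  obtain ⟨P, hP⟩ := hz.exists_le_sylow
  obtain ⟨n, hn⟩ := MulAction.exists_smul_eq ↥N ((syl h).subtype (sup_le_normalizer h)) P
  have hmem : (⟨x, hxN⟩ : ↥N) ∈ MulAut.conj n •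
      ((syl h).subtype (sup_le_normalizer h) : Subgroup ↥N) := by
    have := hP (mem_zpowers _)
    rw [← hn, Sylow.coe_subgroup_smul] at this
    exact this
  rw [mem_conj] at hmem
  have hS : (n : G)⁻¹ * x * (n : G) ∈ V ⊔ A := hmem
  have hsq : (n : G)⁻¹ * x * n * ((n : G)⁻¹ * x * n) = 1 := by
    calc (n : G)⁻¹ * x * n * ((n : G)⁻¹ * x * n) = (n : G)⁻¹ * (x * x) * n := by group
      _ = 1 := by rw [hx]; group
  rcases h.invol _ hS hsq with h' | h'
  · left
    rw [← conj_eq_self_iff.2 n.2, mem_conj]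
    exact h'
  · exact Or.inr ⟨n, n.2, mem_conj.2 h'⟩

/-- An involution fixing a point lies in the point's conjugate or in that of a line through it. -/
theorem invol_fix (h : FourConfig V A) {x : G} (hx : x * x = 1)
    {p : G ⧸ normalizer (V : Set G)} (hfix : x • p = p) :
    x ∈ pconj V p ∨ ∃ l : G ⧸ normalizer (A : Set G), Inc p l ∧ x ∈ pconj A l := by
  induction p using QuotientGroup.induction_on with | _ g =>
  have hN : g⁻¹ * x * g ∈ normalizer (V : Set G) := by
    have := conj_eq_self_iff.2 ((fix_iff V g x).1 hfix)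
    refine conj_eq_self_iff.1 ?_
    rw [FourRecog.conj_mul, FourRecog.conj_mul, this, ← FourRecog.conj_mul, inv_mul_cancel, map_one, one_smul]
  have hsq : g⁻¹ * x * g * (g⁻¹ * x * g) = 1 := by
    calc g⁻¹ * x * g * (g⁻¹ * x * g) = g⁻¹ * (x * x) * g := by group
      _ = 1 := by rw [hx]; group
  rcases invol_normalizer h hsq hN with h' | ⟨n, hn, h'⟩
  · exact Or.inl (mem_conj.2 h')
  · refine Or.inr ⟨((g * n : G) : G ⧸ _), ⟨g * n, QuotientGroup.eq.2 ?_, rfl⟩, ?_⟩
    · simpa using hn
    · rw [pconj_mk, FourRecog.conj_mul, mem_conj]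
      exact h'

/-- `N(A)` is transitive on the involutions of `A`. -/
theorem exists_conj_eq (hG : IsCIT G) (h : FourConfig V A) {t t' : G} (ht : t ∈ A) (ht1 : t ≠ 1)
    (ht' : t' ∈ A) (ht1' : t' ≠ 1) : ∃ n ∈ normalizer (A : Set G), n * t * n⁻¹ = t' := by
  classical
  haveI : Fact (Nat.Prime 2) := ⟨Nat.prime_two⟩
  set N : Subgroup G := normalizer (A : Set G)
  set C : Subgroup ↥N := (centralizer ({t} : Set G)).subgroupOf N with hC
  have hord : orderOf t = 2 := orderOf_eq_prime (by rw [pow_two]; exact h.elemA t ht) ht1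
  have hC2 : IsPGroup 2 ↥C := (hG t hord).comap_of_injective N.subtype N.subtype_injective
  obtain ⟨j, hj⟩ := hC2.exists_card_eq
  have hmul := C.card_mul_index
  rw [card_normalizer (symm h), hj] at hmul
  have h15 : 15 ≤ C.index := by
    have : 15 ∣ C.index := (Nat.Coprime.pow_right j (by decide : Nat.Coprime 15 2)).dvd_of_dvd_mul_left
      (hmul ▸ (by norm_num : (15 : ℕ) ∣ 960))
    exact Nat.le_of_dvd (Nat.pos_of_ne_zero Subgroup.index_ne_zero_of_finite) this
  let X := {a : ↥A // a ≠ 1}
  have key : ∀ n : ↥N, (n : G) * t * (n : G)⁻¹ ∈ A := fun n => (mem_normalizer_iff.1 n.2 t).1 ht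
  let φ : ↥N ⧸ C → X := fun q => Quotient.liftOn' q
    (fun n => ⟨⟨_, key n⟩, fun e => ht1 (conj_eq_one_iff.1 (congrArg Subtype.val e))⟩)
    fun a b hab => by
      have hab' := mem_centralizer_singleton_iff.1
        (mem_subgroupOf.1 (QuotientGroup.leftRel_apply.1 hab))
      refine Subtype.ext (Subtype.ext ?_)
      show (a : G) * t * (a : G)⁻¹ = b * t * (b : G)⁻¹
      rw [Subgroup.coe_mul, Subgroup.coe_inv] at hab'
      calc (a : G) * t * (a : G)⁻¹ = a * (t * ((a : G)⁻¹ * b)) * (b : G)⁻¹ := by group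
        _ = a * ((a : G)⁻¹ * b * t) * (b : G)⁻¹ := by rw [hab']
        _ = b * t * (b : G)⁻¹ := by group
  have hφ : Function.Injective φ := by
    intro x y
    induction x using Quotient.inductionOn'
    induction y using Quotient.inductionOn'
    rename_i a b
    intro e
    have e' : (a : G) * t * (a : G)⁻¹ = b * t * (b : G)⁻¹ :=
      congrArg (fun z : X => (z.1 : G)) e
    refine QuotientGroup.eq.2 (mem_subgroupOf.2 (mem_centralizer_singleton_iff.2 ?_))
    rw [Subgroup.coe_mul, Subgroup.coe_inv]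
    calc (a : G)⁻¹ * b * t = (a : G)⁻¹ * (b * t * (b : G)⁻¹) * b := by group
      _ = (a : G)⁻¹ * (a * t * (a : G)⁻¹) * b := by rw [e']
      _ = t * ((a : G)⁻¹ * b) := by group
  have hX : Nat.card X = 15 := by
    haveI := Fintype.ofFinite ↥A
    rw [Nat.card_eq_fintype_card, Fintype.card_subtype_compl, Fintype.card_subtype_eq,
      ← Nat.card_eq_fintype_card, h.card_A]
  obtain ⟨q, hq⟩ := (hφ.bijective_of_nat_card_le (by rw [hX, ← Subgroup.index_eq_card]; exact h15)).2
    (⟨⟨t', ht'⟩, fun e => ht1' (congrArg Subtype.val e)⟩ : X)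
  induction q using Quotient.inductionOn'
  rename_i n
  exact ⟨n, n.2, congrArg (fun z : X => (z.1 : G)) hq⟩

theorem exists_mem_inf (h : FourConfig V A) : ∃ t ∈ V ⊓ A, t ≠ 1 := by
  have h4 : V ⊓ A ≠ ⊥ := fun e => by
    have := h.card_inf
    rw [e, Subgroup.card_bot] at this
    omega
  obtain ⟨⟨t, ht⟩, ht1⟩ := ne_bot_iff_exists_ne_one.1 h4
  exact ⟨t, ht, fun e => ht1 (Subtype.ext e)⟩

/-- An involution of a conjugate of `A` lies in a conjugate of `V` incident to it. -/
theorem exists_witness (hG : IsCIT G) (h : FourConfig V A) {x a : G} (hx1 : x ≠ 1)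
    (hx : x ∈ MulAut.conj a • A) : ∃ g : G, (g : G ⧸ normalizer (A : Set G)) = a ∧
      x ∈ MulAut.conj g • V := by
  obtain ⟨t, ht, ht1⟩ := exists_mem_inf h
  have hne : a⁻¹ * x * a ≠ 1 := fun e => hx1 (by
    calc x = a * (a⁻¹ * x * a) * a⁻¹ := by group
      _ = 1 := by rw [e]; group)
  obtain ⟨n, hn, he⟩ := exists_conj_eq hG h ht.2 ht1 (mem_conj.1 hx) hne
  refine ⟨a * n, QuotientGroup.eq.2 (by simpa using inv_mem hn), mem_conj.2 ?_⟩
  rw [show (a * n)⁻¹ * x * (a * n) = n⁻¹ * (a⁻¹ * x * a) * n by group, ← he,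
    show n⁻¹ * (n * t * n⁻¹) * n = t by group]
  exact ht.1

/-- A nontrivial element common to the conjugates of a point and of a line shows incidence. -/
theorem inc_of_mem (hG : IsCIT G) (h : FourConfig V A) {x : G} (hx1 : x ≠ 1)
    {p : G ⧸ normalizer (V : Set G)} {l : G ⧸ normalizer (A : Set G)}
    (hp : x ∈ pconj V p) (hl : x ∈ pconj A l) : Inc p l := by
  induction p using QuotientGroup.induction_on with | _ b =>
  induction l using QuotientGroup.induction_on with | _ a =>
  obtain ⟨g, hga, hgx⟩ := exists_witness hG h hx1 hl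
  refine ⟨g, quot_eq_of_conj ?_, hga⟩
  by_contra hne
  have := eq_bot_of_ne hG h hne
  exact hx1 (mem_bot.1 (this ▸ ⟨hgx, hp⟩))

/-- Every involution lies in a conjugate of `V`. -/
theorem exists_point (hG : IsCIT G) (h : FourConfig V A) {x : G} (hx : orderOf x = 2) :
    ∃ p : G ⧸ normalizer (V : Set G), x ∈ pconj V p := by
  haveI : Fact (Nat.Prime 2) := ⟨Nat.prime_two⟩
  have hx1 : x ≠ 1 := fun e => by simp [e] at hx
  have hsq : x * x = 1 := by rw [← pow_two, ← hx, pow_orderOf_eq_one]
  have hz : IsPGroup 2 ↥(zpowers x) := IsPGroup.of_card (n := 1) (by rw [Nat.card_zpowers, hx, pow_one])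
  obtain ⟨P, hP⟩ := hz.exists_le_sylow
  obtain ⟨c, hc⟩ := MulAction.exists_smul_eq G (syl h) P
  have hm : x ∈ MulAut.conj c • (V ⊔ A) := by
    have := hP (mem_zpowers _)
    rw [← hc, Sylow.coe_subgroup_smul] at this
    exact this
  have hsq' : c⁻¹ * x * c * (c⁻¹ * x * c) = 1 := by
    calc c⁻¹ * x * c * (c⁻¹ * x * c) = c⁻¹ * (x * x) * c := by group
      _ = 1 := by rw [hsq]; group
  rcases h.invol _ (mem_conj.1 hm) hsq' with h' | h'
  · exact ⟨((c : G) : G ⧸ normalizer (V : Set G)), mem_conj.2 h'⟩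
  · obtain ⟨g, -, hg⟩ := exists_witness hG h hx1 (mem_conj.2 h')
    exact ⟨((g : G) : G ⧸ normalizer (V : Set G)), hg⟩

/-- An involution fixing an incident point and line lies in their join. -/
theorem mem_or_mem (h : FourConfig V A) {x : G} (hx : x * x = 1)
    {p : G ⧸ normalizer (V : Set G)} {l : G ⧸ normalizer (A : Set G)} (hi : Inc p l)
    (hp : x • p = p) (hl : x • l = l) : x ∈ pconj V p ∨ x ∈ pconj A l := by
  haveI : Fact (Nat.Prime 2) := ⟨Nat.prime_two⟩
  obtain ⟨g, rfl, rfl⟩ := hi
  have key : ∀ (H : Subgroup G), x • (g : G ⧸ normalizer (H : Set G)) = g →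
      g⁻¹ * x * g ∈ normalizer (H : Set G) := by
    intro H he
    refine conj_eq_self_iff.1 ?_
    rw [FourRecog.conj_mul, FourRecog.conj_mul, conj_eq_self_iff.2 ((fix_iff H g x).1 he), ← FourRecog.conj_mul, inv_mul_cancel,
      map_one, one_smul]
  set y := g⁻¹ * x * g with hy
  have hy2 : y * y = 1 := by
    calc y * y = g⁻¹ * (x * x) * g := by rw [hy]; group
      _ = 1 := by rw [hx]; group
  have hN : zpowers y ≤ normalizer ((V ⊔ A : Subgroup G) : Set G) := by
    refine zpowers_le.2 (conj_eq_self_iff.1 ?_)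
    rw [Subgroup.smul_sup, conj_eq_self_iff.2 (key V hp), conj_eq_self_iff.2 (key A hl)]
  have hz : IsPGroup 2 ↥(zpowers y) := by
    rcases eq_or_ne y 1 with e | e
    · exact IsPGroup.of_card (n := 0) (by rw [e, zpowers_one_eq_bot, Subgroup.card_bot, pow_zero])
    · exact IsPGroup.of_card (n := 1)
        (by rw [Nat.card_zpowers, orderOf_eq_prime (by rw [pow_two, hy2]) e, pow_one])
  have hS := h.sylow _ ((isPGroup_sup h).to_sup_of_normal_left' hz hN) le_sup_left
  have hmem : y ∈ V ⊔ A := by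
    rw [← hS]
    exact mem_sup_right (mem_zpowers _)
  exact (h.invol y hmem hy2).imp mem_conj.2 mem_conj.2

theorem le_fix_line (h : FourConfig V A) {p : G ⧸ normalizer (V : Set G)}
    {l : G ⧸ normalizer (A : Set G)} (hi : Inc p l) {x : G} (hx : x ∈ pconj V p) : x • l = l := by
  induction p using QuotientGroup.induction_on with | _ b =>
  induction l using QuotientGroup.induction_on with | _ a =>
  exact (fix_iff A a x).2 ((inc_data h hi).2.2 hx)

theorem le_fix_point (h : FourConfig V A) {p : G ⧸ normalizer (V : Set G)}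
    {l : G ⧸ normalizer (A : Set G)} (hi : Inc p l) {x : G} (hx : x ∈ pconj A l) : x • p = p :=
  le_fix_line (symm h) (inc_swap.1 hi) hx

theorem pconj_fix {H : Subgroup G} {p : G ⧸ normalizer (H : Set G)} {x : G} (hx : x ∈ pconj H p) :
    x • p = p := by
  induction p using QuotientGroup.induction_on with | _ g =>
  exact (fix_iff H g x).2 (le_normalizer hx)

theorem pconj_inj {H : Subgroup G} {p q : G ⧸ normalizer (H : Set G)}
    (e : pconj H p = pconj H q) : p = q := by
  induction p using QuotientGroup.induction_on with | _ g =>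
  induction q using QuotientGroup.induction_on with | _ g' =>
  exact quot_eq_of_conj e

theorem pconj_inf_eq_bot (hG : IsCIT G) (h : FourConfig V A) {p q : G ⧸ normalizer (V : Set G)}
    (hpq : p ≠ q) : pconj V p ⊓ pconj V q = ⊥ := by
  induction p using QuotientGroup.induction_on with | _ g =>
  induction q using QuotientGroup.induction_on with | _ g' =>
  exact eq_bot_of_ne hG h fun e => hpq (quot_eq_of_conj e)

theorem card_pconj (H : Subgroup G) (p : G ⧸ normalizer (H : Set G)) :
    Nat.card ↥(pconj H p) = Nat.card ↥H := by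
  induction p using QuotientGroup.induction_on with | _ g =>
  exact card_conj g H

theorem pconj_sq (h : FourConfig V A) (p : G ⧸ normalizer (V : Set G)) :
    ∀ x ∈ pconj V p, x * x = 1 := by
  induction p using QuotientGroup.induction_on with | _ g =>
  exact conj_elem h g

/-- The number of lines through a point is five. -/
theorem card_lines (h : FourConfig V A) :
    ((normalizer (A : Set G)).subgroupOf (normalizer (V : Set G))).index = 5 := by
  haveI : Fact (Nat.Prime 2) := ⟨Nat.prime_two⟩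
  have h5 := five_le h
  obtain ⟨F, iF, iFt, hF, ⟨e⟩⟩ := h.isoV
  haveI : IsSimpleGroup (Matrix.ProjectiveSpecialLinearGroup (Fin 2) F) :=
    Matrix.ProjectiveSpecialLinearGroup.rank_two_simple (F := F)
      (by rw [Nat.card_eq_fintype_card, hF])
  set N : Subgroup G := normalizer (V : Set G)
  set M : Subgroup ↥N := V.subgroupOf N with hM
  set K : Subgroup ↥N := (normalizer (A : Set G)).subgroupOf N with hK
  set S : Subgroup ↥N := (V ⊔ A).subgroupOf N with hS
  have hcN : Nat.card ↥N = 960 := card_normalizer h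
  have hcS : Nat.card ↥S = 64 := by
    rw [hS, Nat.card_congr (subgroupOfEquivOfLe (sup_le_normalizer h)).toEquiv, h.card_sup]
  have hSK : S ≤ K := fun x hx =>
    mem_subgroupOf.2 (sup_le h.normal_right le_normalizer (mem_subgroupOf.1 hx))
  obtain ⟨c, hc⟩ := Subgroup.card_dvd_of_le hSK
  have hmul := K.card_mul_index
  rw [hcN, hc, hcS, mul_assoc] at hmul
  have hc15 : c * K.index = 15 := by omega
  have hdvd : K.index ∣ 15 := ⟨c, by rw [mul_comm, hc15]⟩
  have hmem : K.index ∈ Nat.divisors 15 := Nat.mem_divisors.2 ⟨hdvd, by norm_num⟩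
  rw [show Nat.divisors 15 = {1, 3, 5, 15} by decide] at hmem
  simp only [Finset.mem_insert, Finset.mem_singleton] at hmem
  rcases hmem with e1 | e1 | e1 | e1
  · omega
  · omega
  · exact e1
  exfalso
  have hKS : S = K := Subgroup.eq_of_le_of_card_ge hSK (by
    rw [e1] at hc15
    rw [hc, show c = 1 by omega, mul_one])
  haveI : Nontrivial (↥N ⧸ M) := e.toEquiv.nontrivial
  haveI : IsSimpleGroup (↥N ⧸ M) := IsSimpleGroup.isSimpleGroup_of_surjective e.symm.toMonoidHom
    e.symm.surjective
  have hcM : Nat.card ↥M = 16 := by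
    rw [hM, Nat.card_congr (subgroupOfEquivOfLe le_normalizer).toEquiv, h.card_V]
  have hcQ : Nat.card (↥N ⧸ M) = 60 := by
    have := M.card_eq_card_quotient_mul_card_subgroup
    rw [hcN, hcM] at this
    omega
  have hMS : M ≤ S := fun x hx => mem_subgroupOf.2 (mem_sup_left (mem_subgroupOf.1 hx))
  set T : Subgroup (↥N ⧸ M) := S.map (QuotientGroup.mk' M) with hT
  have hTc : T.comap (QuotientGroup.mk' M) = S := by
    rw [hT, comap_map_eq, QuotientGroup.ker_mk', sup_eq_left.2 hMS]
  have hTcard : Nat.card ↥T = 4 := by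
    have h1 := T.index_comap_of_surjective (QuotientGroup.mk'_surjective M)
    have h2 := S.card_mul_index
    have h3 := T.card_mul_index
    rw [hTc] at h1
    rw [hcN, hcS, h1] at h2
    rw [hcQ, show T.index = 15 by omega] at h3
    omega
  have hT2 : IsPGroup 2 ↥T := IsPGroup.of_card (n := 2) (by rw [hTcard]; norm_num)
  obtain ⟨P, hP⟩ := hT2.exists_le_sylow
  have hPT : (P : Subgroup (↥N ⧸ M)) = T := by
    refine (Subgroup.eq_of_le_of_card_ge hP ?_).symm
    obtain ⟨i, hi⟩ := P.isPGroup'.exists_card_eq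
    have hd := Subgroup.card_subgroup_dvd_card (P : Subgroup (↥N ⧸ M))
    rw [hi, hcQ] at hd
    rw [hi, hTcard, show (4 : ℕ) = 2 ^ 2 from rfl]
    refine Nat.pow_le_pow_right (by norm_num) ?_
    by_contra hi3
    have : (2 : ℕ) ^ 3 ∣ 60 := (Nat.pow_dvd_pow 2 (by omega)).trans hd
    norm_num at this
  have hNT : normalizer ((P : Subgroup (↥N ⧸ M)) : Set (↥N ⧸ M)) ≤ (P : Subgroup (↥N ⧸ M)) := by
    rw [hPT]
    intro q hq
    induction q using QuotientGroup.induction_on with | _ n =>
    have hnS : MulAut.conj (n : G) • (V ⊔ A) = V ⊔ A := by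
      have hfull : ∀ y : ↥N, (y ∈ S ↔ n * y * n⁻¹ ∈ S) := fun y => by
        rw [← hTc, mem_comap, mem_comap]
        exact mem_normalizer_iff.1 hq _
      refine conj_eq_self_iff.2 (mem_normalizer_iff.2 fun y => ⟨fun hy => ?_, fun hy => ?_⟩)
      · exact mem_subgroupOf.1 ((hfull ⟨y, sup_le_normalizer h hy⟩).1 (mem_subgroupOf.2 hy))
      · have hyN : y ∈ N := by
          have := N.mul_mem (N.mul_mem (N.inv_mem n.2) (sup_le_normalizer h hy)) n.2
          simpa [mul_assoc] using this
        exact mem_subgroupOf.1 ((hfull ⟨y, hyN⟩).2 (mem_subgroupOf.2 hy))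
    have hle : MulAut.conj (n : G) • A ≤ V ⊔ A := by
      rw [← hnS]
      exact Subgroup.pointwise_smul_le_pointwise_smul_iff.2 le_sup_right
    have hnA : (n : G) ∈ normalizer (A : Set G) := by
      rcases eq_or_eq h hle (conj_elem (symm h) _) (by rw [card_conj, h.card_A]) with e' | e'
      · exact absurd (MulAction.injective (MulAut.conj (n : G))
          (e'.trans (conj_eq_self_iff.2 n.2).symm)) (ne h).symm
      · exact conj_eq_self_iff.1 e'
    have hnS' : n ∈ S := hKS.ge (mem_subgroupOf.2 hnA)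
    exact ⟨n, hnS', rfl⟩
  have hcomm : IsMulCommutative ↥(P : Subgroup (↥N ⧸ M)) := by
    rw [hPT]
    exact ⟨⟨fun a b => IsPGroup.isMulCommutative_of_card_eq_prime_sq
      (p := 2) (by rw [hTcard]; norm_num) |>.is_comm.comm a b⟩⟩
  have hPC : normalizer ((P : Subgroup (↥N ⧸ M)) : Set (↥N ⧸ M)) ≤
      centralizer ((P : Subgroup (↥N ⧸ M)) : Set (↥N ⧸ M)) :=
    hNT.trans (Subgroup.le_centralizer _)
  have hcompl := MonoidHom.ker_transferSylow_isComplement' P hPC
  have hcard := hcompl.card_mul_card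
  rw [show Nat.card ↥(P : Subgroup (↥N ⧸ M)) = 4 by rw [hPT, hTcard], hcQ] at hcard
  rcases (inferInstance : (MonoidHom.transferSylow P hPC).ker.Normal).eq_bot_or_eq_top with e' | e'
  · rw [e', Subgroup.card_bot] at hcard
    omega
  · rw [e', Subgroup.card_top, hcQ] at hcard
    omega

/-- At most five elements fix two points without common line. -/
theorem card_two_points_le (hG : IsCIT G) (h : FourConfig V A) {q : G ⧸ normalizer (V : Set G)}
    (hne : ((1 : G) : G ⧸ normalizer (V : Set G)) ≠ q)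
    (hcol : ¬ ∃ l : G ⧸ normalizer (A : Set G), Inc ((1 : G) : G ⧸ normalizer (V : Set G)) l ∧ Inc q l) :
    Nat.card ↥(normalizer (V : Set G) ⊓ MulAction.stabilizer G q) ≤ 5 := by
  haveI : Fact (Nat.Prime 2) := ⟨Nat.prime_two⟩
  set p₀ : G ⧸ normalizer (V : Set G) := ((1 : G) : G ⧸ normalizer (V : Set G))
  set D : Subgroup G := normalizer (V : Set G) ⊓ MulAction.stabilizer G q
  have hodd : ¬ 2 ∣ Nat.card ↥D := by
    intro h2
    obtain ⟨t, ht⟩ := exists_prime_orderOf_dvd_card' (G := ↥D) 2 h2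
    have htG : orderOf (t : G) = 2 := by rw [Subgroup.orderOf_coe, ht]
    have ht1 : (t : G) ≠ 1 := fun e => by simp [e] at htG
    have hsq : (t : G) * t = 1 := by rw [← pow_two, ← htG, pow_orderOf_eq_one]
    have hfp : (t : G) • p₀ = p₀ := by
      refine (fix_iff V 1 (t : G)).2 ?_
      rw [map_one, one_smul]
      exact t.2.1
    rcases invol_fix h hsq hfp with hv | ⟨l, hl, hla⟩
    · rcases invol_fix h hsq t.2.2 with hv' | ⟨m, hm, hma⟩
      · exact ht1 (mem_bot.1 (pconj_inf_eq_bot hG h hne ▸ ⟨hv, hv'⟩))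
      · exact hcol ⟨m, inc_of_mem hG h ht1 hv hma, hm⟩
    · rcases invol_fix h hsq t.2.2 with hv' | ⟨m, hm, hma⟩
      · exact hcol ⟨l, hl, inc_of_mem hG h ht1 hv' hla⟩
      · rcases eq_or_ne l m with rfl | hlm
        · exact hcol ⟨l, hl, hm⟩
        · exact ht1 (mem_bot.1 (pconj_inf_eq_bot hG (symm h) hlm ▸ ⟨hla, hma⟩))
  have h960 : Nat.card ↥D ∣ 15 := by
    have hd : Nat.card ↥D ∣ 64 * 15 := by
      have := Subgroup.card_dvd_of_le (inf_le_left : D ≤ normalizer (V : Set G))
      rwa [card_normalizer h] at this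
    refine Nat.Coprime.dvd_of_dvd_mul_left ?_ hd
    rw [show (64 : ℕ) = 2 ^ 6 from rfl]
    exact ((Nat.Prime.coprime_iff_not_dvd Nat.prime_two).2 hodd).symm.pow_right 6
  by_contra hgt
  have h15 : Nat.card ↥D = 15 := by
    have hmem : Nat.card ↥D ∈ Nat.divisors 15 := Nat.mem_divisors.2 ⟨h960, by norm_num⟩
    rw [show Nat.divisors 15 = {1, 3, 5, 15} by decide] at hmem
    simp only [Finset.mem_insert, Finset.mem_singleton] at hmem
    omega
  obtain ⟨F, iF, iFt, hF, ⟨e⟩⟩ := h.isoV
  haveI : IsSimpleGroup (Matrix.ProjectiveSpecialLinearGroup (Fin 2) F) :=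
    Matrix.ProjectiveSpecialLinearGroup.rank_two_simple (F := F)
      (by rw [Nat.card_eq_fintype_card, hF])
  set N : Subgroup G := normalizer (V : Set G)
  set M : Subgroup ↥N := V.subgroupOf N with hM
  haveI : Nontrivial (↥N ⧸ M) := e.toEquiv.nontrivial
  haveI : IsSimpleGroup (↥N ⧸ M) := IsSimpleGroup.isSimpleGroup_of_surjective e.symm.toMonoidHom
    e.symm.surjective
  have hcQ : Nat.card (↥N ⧸ M) = 60 := by
    have := M.card_eq_card_quotient_mul_card_subgroup
    have hcM : Nat.card ↥M = 16 := by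
      rw [hM, Nat.card_congr (subgroupOfEquivOfLe le_normalizer).toEquiv, h.card_V]
    rw [card_normalizer h, hcM] at this
    omega
  let f : ↥(D.subgroupOf N) →* ↥N ⧸ M := (QuotientGroup.mk' M).comp (D.subgroupOf N).subtype
  have hcD : Nat.card ↥(D.subgroupOf N) = 15 := by
    rw [Nat.card_congr (subgroupOfEquivOfLe inf_le_left).toEquiv, h15]
  have hf : Function.Injective f := by
    rw [injective_iff_map_eq_one]
    intro x hx
    have hxV : ((x : ↥N) : G) ∈ V := mem_subgroupOf.1 ((QuotientGroup.eq_one_iff _).1 hx)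
    have h2 : orderOf x ∣ 2 := orderOf_dvd_of_pow_eq_one
      (Subtype.ext (Subtype.ext (by rw [pow_two]; exact h.elemV _ hxV)))
    have h15' : orderOf x ∣ 15 := hcD ▸ orderOf_dvd_natCard x
    exact orderOf_eq_one_iff.1 (Nat.dvd_one.1 (Nat.dvd_gcd h2 h15'))
  have hcR : Nat.card ↥f.range = 15 := by
    rw [← Nat.card_congr (MonoidHom.ofInjective hf).toEquiv, hcD]
  have hidx : f.range.index = 4 := by
    have := f.range.card_mul_index
    rw [hcR, hcQ] at this
    omega
  have hsmall : Nat.card (Equiv.Perm ((↥N ⧸ M) ⧸ f.range)) < Nat.card (↥N ⧸ M) := by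
    rw [hcQ, Nat.card_perm, ← Subgroup.index_eq_card, hidx]
    decide
  have htop : f.range = ⊤ := by
    refine eq_top_iff.2 fun x _ => ?_
    have h1 := Equiv.congr_fun (hom_eq_one_of_card_lt
      (MulAction.toPermHom (↥N ⧸ M) ((↥N ⧸ M) ⧸ f.range)) hsmall x)
      ((1 : ↥N ⧸ M) : (↥N ⧸ M) ⧸ f.range)
    have h2 : ((x * 1 : ↥N ⧸ M) : (↥N ⧸ M) ⧸ f.range) = ((1 : ↥N ⧸ M) : (↥N ⧸ M) ⧸ f.range) := h1
    rw [mul_one] at h2
    have h3 := QuotientGroup.eq.1 h2
    rw [mul_one] at h3
    exact inv_mem_iff.1 h3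
  rw [htop, Subgroup.card_top, hcQ] at hcR
  omega

end CfsgLib.CIT.FourCount

namespace CfsgLib.CIT

open Subgroup CfsgLib.CIT.FourRecog CfsgLib.CIT.FourCount
open scoped Pointwise

universe u

/-- A CIT group with the configuration of `PSL₃(4)` has order 20160. -/
theorem FourConfig.card_eq {G : Type u} [Group G] [Finite G] (hG : IsCIT G)
    (h2 : Cfsg.pCore 2 G = ⊥) (hO : Cfsg.pPrimeCore 2 G = ⊥) {V A : Subgroup G}
    (h : FourConfig V A) : Nat.card G = 20160 := by
  classical
  have _ := h2
  have _ := hO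
  haveI : Fact (Nat.Prime 2) := ⟨Nat.prime_two⟩
  haveI : Fintype G := Fintype.ofFinite G
  haveI : Fintype (G ⧸ normalizer (V : Set G)) := Fintype.ofFinite _
  haveI : Fintype (G ⧸ normalizer (A : Set G)) := Fintype.ofFinite _
  set p₀ : G ⧸ normalizer (V : Set G) := ((1 : G) : G ⧸ normalizer (V : Set G)) with hp₀
  set Nn : ℕ := Fintype.card (G ⧸ normalizer (V : Set G)) with hNn
  set I : Finset G := Finset.univ.filter fun x => orderOf x = 2 with hI
  have hsq : ∀ x ∈ I, x * x = 1 := fun x hx => by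
    rw [← pow_two, ← (Finset.mem_filter.1 hx).2, pow_orderOf_eq_one]
  have hne1 : ∀ x ∈ I, x ≠ 1 := fun x hx e => by
    simp [hI, e] at hx
  -- the involutions
  have hIcard : I.card = Nn * 15 := by
    have hb : Nat.card (Σ p : G ⧸ normalizer (V : Set G), {x : ↥(pconj V p) // x ≠ 1}) =
        Nat.card ↥I := by
      refine Nat.card_eq_of_bijective (fun s => ⟨(s.2.1 : G), Finset.mem_filter.2
        ⟨Finset.mem_univ _, orderOf_eq_prime (by rw [pow_two]; exact pconj_sq h s.1 _ s.2.1.2)
          (fun e => s.2.2 (Subtype.ext e))⟩⟩) ⟨?_, ?_⟩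
      · rintro ⟨p, ⟨x, hx⟩, hx1⟩ ⟨q, ⟨y, hy⟩, hy1⟩ e
        obtain rfl : x = y := congrArg Subtype.val e
        obtain rfl : p = q := by
          by_contra hpq
          exact hx1 (Subtype.ext (mem_bot.1 (pconj_inf_eq_bot hG h hpq ▸ ⟨hx, hy⟩)))
        rfl
      · rintro ⟨x, hx⟩
        obtain ⟨p, hp⟩ := exists_point hG h (Finset.mem_filter.1 hx).2
        exact ⟨⟨p, ⟨x, hp⟩, fun e => hne1 x hx (congrArg Subtype.val e)⟩, rfl⟩
    rw [← Nat.card_eq_finsetCard, ← hb, Nat.card_sigma, Finset.sum_congr rfl (fun p _ => ?_),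
      Finset.sum_const, Finset.card_univ, smul_eq_mul]
    haveI := Fintype.ofFinite ↥(pconj V p)
    rw [Nat.card_eq_fintype_card, Fintype.card_subtype_compl, Fintype.card_subtype_eq,
      ← Nat.card_eq_fintype_card, card_pconj, h.card_V]
  -- lines and points
  have hlines : ∀ p : G ⧸ normalizer (V : Set G),
      (Finset.univ.filter fun l : G ⧸ normalizer (A : Set G) => Inc p l).card = 5 := by
    intro p
    induction p using QuotientGroup.induction_on with | _ a =>
    rw [← Nat.card_eq_finsetCard]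
    refine (Eq.trans (Nat.card_congr (Equiv.subtypeEquivRight fun l => ?_))
      (card_inc (normalizer (V : Set G)) (normalizer (A : Set G)) a)).trans (card_lines h)
    simp
  have hblock : ∀ l : G ⧸ normalizer (A : Set G),
      (Finset.univ.filter fun p : G ⧸ normalizer (V : Set G) => Inc p l).card = 5 := by
    intro l
    induction l using QuotientGroup.induction_on with | _ a =>
    rw [← Nat.card_eq_finsetCard]
    refine (Eq.trans (Nat.card_congr (Equiv.subtypeEquivRight fun p => ?_))
      (card_inc (normalizer (A : Set G)) (normalizer (V : Set G)) a)).trans (card_lines (symm h))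
    rw [Finset.mem_filter, inc_swap]
    simp
  set Col : Finset (G ⧸ normalizer (V : Set G)) :=
    (Finset.univ.filter fun l : G ⧸ normalizer (A : Set G) => Inc p₀ l).biUnion
      fun l => (Finset.univ.filter fun p : G ⧸ normalizer (V : Set G) => Inc p l).erase p₀ with hCol
  have hColcard : Col.card = 20 := by
    rw [hCol, Finset.card_biUnion]
    · rw [Finset.sum_const_nat (m := 4) (fun l hl => by
        rw [Finset.card_erase_of_mem (show p₀ ∈ Finset.univ.filter
          (fun p : G ⧸ normalizer (V : Set G) => Inc p l) from Finset.mem_filter.2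
            ⟨Finset.mem_univ _, (Finset.mem_filter.1 hl).2⟩), hblock]), hlines]
    · intro l hl l' hl' hne
      rw [Function.onFun, Finset.disjoint_left]
      intro q hq hq'
      simp only [Finset.mem_erase, Finset.mem_filter, Finset.mem_univ, true_and] at hq hq'
      exact hne (inc_unique hG h hq.1.symm (Finset.mem_filter.1 hl).2 (Finset.mem_filter.1 hl').2
        hq.2 hq'.2)
  have hmemCol : ∀ q, q ∈ Col ↔ q ≠ p₀ ∧
      ∃ l : G ⧸ normalizer (A : Set G), Inc p₀ l ∧ Inc q l := by
    intro q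
    simp only [hCol, Finset.mem_biUnion, Finset.mem_erase, Finset.mem_filter, Finset.mem_univ,
      true_and]
    exact ⟨fun ⟨l, a, b, c⟩ => ⟨b, l, a, c⟩, fun ⟨b, l, a, c⟩ => ⟨l, a, b, c⟩⟩
  -- the involutions fixing the base point
  have hfix : (I.filter fun x => x • p₀ = p₀).card ≤ 75 := by
    have hsub : (I.filter fun x => x • p₀ = p₀) ⊆
        (Finset.univ.filter fun x : G => x ∈ pconj V p₀).erase 1 ∪
          (Finset.univ.filter fun l : G ⧸ normalizer (A : Set G) => Inc p₀ l).biUnion
            fun l => (Finset.univ.filter fun x : G => x ∈ pconj A l) \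
              (Finset.univ.filter fun x : G => x ∈ pconj V p₀) := by
      intro x hx
      rw [Finset.mem_filter] at hx
      by_cases hxV : x ∈ pconj V p₀
      · exact Finset.mem_union_left _ (by simp [hne1 x hx.1, hxV])
      · obtain ⟨l, hl, hxl⟩ := (invol_fix h (hsq x hx.1) hx.2).resolve_left hxV
        refine Finset.mem_union_right _ (Finset.mem_biUnion.2 ⟨l, ?_, ?_⟩) <;> simp [hl, hxl, hxV]
    refine (Finset.card_le_card hsub).trans ((Finset.card_union_le _ _).trans ?_)
    have hc : ∀ K : Subgroup G, (Finset.univ.filter fun x : G => x ∈ K).card = Nat.card ↥K :=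
      fun K => by rw [Nat.card_eq_fintype_card, ← Fintype.card_subtype]
    have h1 : ((Finset.univ.filter fun x : G => x ∈ pconj V p₀).erase 1).card = 15 := by
      rw [Finset.card_erase_of_mem (by simp), hc, card_pconj, h.card_V]
    have h3 := Finset.card_biUnion_le_card_mul
      (Finset.univ.filter fun l : G ⧸ normalizer (A : Set G) => Inc p₀ l)
      (fun l => (Finset.univ.filter fun x : G => x ∈ pconj A l) \
        (Finset.univ.filter fun x : G => x ∈ pconj V p₀)) 12 (fun l hl => ?_)
    · rw [hlines] at h3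
      omega
    · have hl' := (Finset.mem_filter.1 hl).2
      induction l using QuotientGroup.induction_on with | _ a =>
      rw [Finset.card_sdiff, hc, card_pconj, h.card_A, ← Finset.filter_and]
      have := (inc_data h hl').1
      rw [show MulAut.conj (1 : G) • V = pconj V p₀ from rfl,
        show MulAut.conj a • A = pconj A (a : G ⧸ normalizer (A : Set G)) from rfl, ← hc] at this
      simp only [Subgroup.mem_inf] at this
      rw [this]
  -- the involutions moving the base point to a collinear point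
  have hcol : ∀ q ∈ Col, (I.filter fun x => x • p₀ = q).card ≤ 12 := by
    intro q hq
    obtain ⟨hq0, l, hl0, hlq⟩ := (hmemCol q).1 hq
    set R : Finset (G ⧸ normalizer (V : Set G)) :=
      ((Finset.univ.filter fun p : G ⧸ normalizer (V : Set G) => Inc p l).erase p₀).erase q with hR
    have hRc : R.card = 3 := by
      rw [hR, Finset.card_erase_of_mem (Finset.mem_erase.2 ⟨hq0, by simp [hlq]⟩),
        Finset.card_erase_of_mem (by simp [hl0]), hblock]
    have hsub : (I.filter fun x => x • p₀ = q) ⊆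
        R.biUnion fun r => (I.filter fun x => x ∈ pconj V r ∧ x • p₀ = q) := by
      intro x hx
      rw [Finset.mem_filter] at hx
      have hxq : x • q = p₀ := by rw [← hx.2, smul_smul, hsq x hx.1, one_smul]
      have hxl : x • l = l := inc_unique hG h hq0 (hx.2 ▸ inc_smul x hl0) hlq
        (hxq ▸ inc_smul x hlq) hl0
      rcases invol_fix (symm h) (hsq x hx.1) hxl with hv | ⟨r, hr, hxr⟩
      · exact absurd (le_fix_point h hl0 hv) (fun e => hq0 (hx.2.symm.trans e))
      · refine Finset.mem_biUnion.2 ⟨r, ?_, Finset.mem_filter.2 ⟨hx.1, hxr, hx.2⟩⟩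
        have hxfix := pconj_fix hxr
        refine Finset.mem_erase.2 ⟨fun e => ?_, Finset.mem_erase.2 ⟨fun e => ?_, ?_⟩⟩
        · rw [e, hxq] at hxfix
          exact hq0 hxfix.symm
        · rw [e, hx.2] at hxfix
          exact hq0 hxfix
        · exact Finset.mem_filter.2 ⟨Finset.mem_univ _, inc_swap.1 hr⟩
    refine (Finset.card_le_card hsub).trans ((Finset.card_biUnion_le_card_mul _ _ 4 ?_).trans
      (by rw [hRc]))
    intro r hr
    simp only [hR, Finset.mem_erase, Finset.mem_filter, Finset.mem_univ, true_and] at hr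
    obtain ⟨hrq, hr0, hrl⟩ := hr
    rcases (I.filter fun x => x ∈ pconj V r ∧ x • p₀ = q).eq_empty_or_nonempty with e | ⟨x₀, hx₀⟩
    · simp [e]
    rw [Finset.mem_filter] at hx₀
    have hinf : Nat.card ↥(pconj V r ⊓ pconj A l) = 4 := by
      induction r using QuotientGroup.induction_on with | _ b =>
      induction l using QuotientGroup.induction_on with | _ a =>
      exact (inc_data h hrl).1
    rw [← hinf, ← Nat.card_eq_finsetCard]
    refine Nat.card_le_card_of_injective (fun x => (⟨x₀ * (x : G), ?_⟩ : ↥(pconj V r ⊓ pconj A l)))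
      (fun x y e => Subtype.ext (mul_left_cancel (congrArg Subtype.val e)))
    obtain ⟨hxI, hxr, hxq⟩ := Finset.mem_filter.1 x.2
    have hm : x₀ * (x : G) ∈ pconj V r := mul_mem hx₀.2.1 hxr
    refine ⟨hm, ?_⟩
    have hfp : (x₀ * (x : G)) • p₀ = p₀ := by
      rw [mul_smul, hxq, ← hx₀.2.2, smul_smul, hsq x₀ hx₀.1, one_smul]
    rcases mem_or_mem h (pconj_sq h r _ hm) hl0 hfp (le_fix_line h hrl hm) with hv | ha
    · rw [mem_bot.1 (pconj_inf_eq_bot hG h hr0 ▸ ⟨hm, hv⟩ : x₀ * (x : G) ∈ (⊥ : Subgroup G))]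
      exact one_mem _
    · exact ha
  -- the other points
  have hother : ∀ q, q ≠ p₀ → q ∉ Col → (I.filter fun x => x • p₀ = q).card ≤ 5 := by
    intro q hq0 hq
    rcases (I.filter fun x => x • p₀ = q).eq_empty_or_nonempty with e | ⟨x₀, hx₀⟩
    · simp [e]
    rw [Finset.mem_filter] at hx₀
    refine le_trans ?_ (card_two_points_le hG h hq0.symm fun hl => hq ((hmemCol q).2 ⟨hq0, hl⟩))
    rw [← Nat.card_eq_finsetCard]
    refine Nat.card_le_card_of_injective
      (fun x => (⟨x₀ * (x : G), ?_⟩ : ↥(normalizer (V : Set G) ⊓ MulAction.stabilizer G q)))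
      (fun x y e => Subtype.ext (mul_left_cancel (congrArg Subtype.val e)))
    obtain ⟨hxI, hxq⟩ := Finset.mem_filter.1 x.2
    refine ⟨?_, ?_⟩
    · have hfp : (x₀ * (x : G)) • p₀ = p₀ := by
        rw [mul_smul, hxq, ← hx₀.2, smul_smul, hsq x₀ hx₀.1, one_smul]
      have := (fix_iff V 1 _).1 hfp
      rwa [map_one, one_smul] at this
    · show (x₀ * (x : G)) • q = q
      have : (x : G) • q = p₀ :=
        (congrArg ((x : G) • ·) hxq.symm).trans (by rw [smul_smul, hsq _ hxI, one_smul])
      rw [mul_smul, this, hx₀.2]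
  -- summing up
  have hsum : I.card = ∑ q, (I.filter fun x => x • p₀ = q).card :=
    Finset.card_eq_sum_card_fiberwise fun x _ => Finset.mem_univ _
  have hp₀Col : p₀ ∉ Col := fun e => ((hmemCol p₀).1 e).1 rfl
  have hrest : ((Finset.univ \ insert p₀ Col)).card = Nn - 21 := by
    rw [Finset.card_sdiff_of_subset (Finset.subset_univ _), Finset.card_insert_of_notMem hp₀Col,
      hColcard, Finset.card_univ]
  have h21 : 21 ≤ Nn := by
    have := Finset.card_le_univ (insert p₀ Col)
    rw [Finset.card_insert_of_notMem hp₀Col, hColcard] at this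
    exact this
  rw [← Finset.sum_sdiff (Finset.subset_univ (insert p₀ Col)),
    Finset.sum_insert hp₀Col] at hsum
  have e1 := Finset.sum_le_card_nsmul Col (fun q => (I.filter fun x => x • p₀ = q).card) 12 hcol
  have e2 := Finset.sum_le_card_nsmul (Finset.univ \ insert p₀ Col)
    (fun q => (I.filter fun x => x • p₀ = q).card) 5 (fun q hq => by
      simp only [Finset.mem_sdiff, Finset.mem_univ, true_and, Finset.mem_insert, not_or] at hq
      exact hother q hq.1 hq.2)
  rw [hColcard, smul_eq_mul] at e1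
  rw [hrest, smul_eq_mul] at e2
  rw [hIcard] at hsum
  have hN : Nn = 21 := by omega
  have hcard := (normalizer (V : Set G)).card_mul_index
  rw [card_normalizer h, Subgroup.index_eq_card, Nat.card_eq_fintype_card, ← hNn, hN] at hcard
  omega

end CfsgLib.CIT
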