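import Cfsg.Agent.Lib.CIT.Reduce
import Cfsg.Agent.Lib.CIT.FourCount

/-!
# The two steps of the classification
-/

set_option autoImplicit false

namespace CfsgLib.CIT

universe u

theorem countStep : CountStep.{u} := fun _ _ _ hG h2 hO _ _ h => h.card_eq hG h2 hO

end CfsgLib.CIT
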