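import Mathlib
import Cfsg.Prelude.Def_Exceptional
import Cfsg.Prelude.Def_LieExceptional
import Cfsg.Prelude.Def_Involutions
import Cfsg.Agent.Lib.StrongEmbedding.Swap
import Cfsg.Agent.Lib.CNGroup.Maximal
import Cfsg.Agent.S0338
import Cfsg.Agent.S0340
import Cfsg.Agent.S0346

/-!
# Strongly embedded subgroups of Frobenius type

A strongly embedded `M` with a nilpotent normal subgroup `H` that contains every 2-element of `M`,
is trivial-intersection and contains the centralizer of each of its nontrivial elements, `M` having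
at least two involutions: the action on the cosets of `M` is a Zassenhaus group of odd degree
`|H| + 1`; so the group is simple, `PSL₂` or of Suzuki order, and `H` is a 2-group.
-/

set_option autoImplicit false
set_option linter.style.haveILetI false

namespace CfsgLib.CIT.TI

open MulAction CfsgLib.Involutions CfsgLib.StrongEmbedding
open Cfsg (IsStronglyEmbedded)

variable {G : Type*} [Group G]

/-- The standing hypotheses. -/
structure Hyp (M H : Subgroup G) : Prop where
  se : IsStronglyEmbedded M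
  le : H ≤ M
  normal : M ≤ Subgroup.normalizer (H : Set G)
  nilp : Group.IsNilpotent ↥H
  two : ∀ x ∈ M, orderOf x = 2 → x ∈ H
  ti : ∀ g x : G, x ∈ H → x ≠ 1 → g⁻¹ * x * g ∈ H → g ∈ M
  cent : ∀ x ∈ H, x ≠ 1 → ∀ c : G, Commute c x → c ∈ H
  many : ∃ s t : G, s ∈ M ∧ t ∈ M ∧ orderOf s = 2 ∧ orderOf t = 2 ∧ s ≠ t

variable {M H : Subgroup G}

/-- The base point of the coset space. -/
abbrev base (M : Subgroup G) : G ⧸ M := ((1 : G) : G ⧸ M)

/-- The stabiliser of the base point and of `y`. -/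
abbrev twoStab (M : Subgroup G) (y : G ⧸ M) : Subgroup G :=
  stabilizer G (base M) ⊓ stabilizer G y

theorem mem_iff [Finite G] {g : G} : g ∈ M ↔ g • base M = base M := mem_iff_smul_base

theorem mem_twoStab {y : G ⧸ M} {d : G} :
    d ∈ twoStab M y ↔ d • base M = base M ∧ d • y = y := Iff.rfl

/-- The involutions of `M`. -/
abbrev Inv (M : Subgroup G) : Type _ := {t : G // orderOf t = 2 ∧ t ∈ M}

variable [Finite G] (h : Hyp M H)
include h

theorem central {t : G} (ht : orderOf t = 2) (htM : t ∈ M) : ∀ x ∈ H, Commute t x := by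
  haveI : Fact (Nat.Prime 2) := ⟨Nat.prime_two⟩
  have h2 : 2 ∣ Nat.card ↥H := ht ▸ H.orderOf_dvd_natCard (h.two t htM ht)
  obtain ⟨z, hz, hz1, hzc⟩ :=
    CfsgLib.CNGroup.exists_central_sylow h.nilp h2 (default : Sylow 2 ↥H)
  have hzH : z ∈ H := Subgroup.map_subtype_le _ hz
  obtain ⟨k, hk⟩ := (default : Sylow 2 ↥H).isPGroup'.map H.subtype ⟨z, hz⟩
  have hk' : z ^ 2 ^ k = 1 := congrArg Subtype.val hk
  obtain ⟨j, -, hj⟩ := (Nat.dvd_prime_pow Nat.prime_two).1 (orderOf_dvd_of_pow_eq_one hk')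
  rcases j with _ | j
  · exact absurd (orderOf_eq_one_iff.1 (by simpa using hj)) hz1
  have hw : orderOf (z ^ 2 ^ j) = 2 := by
    rw [orderOf_pow_of_dvd (by positivity) (by rw [hj, pow_succ]; exact dvd_mul_right _ _), hj,
      pow_succ, Nat.mul_div_cancel_left _ (by positivity)]
  obtain ⟨g, hg⟩ := isConj_iff.1 (isConj_involutions h.se hw ht)
  have hgM : g ∈ M := se_mem_of_conj_mem h.se htM ht (by
    rw [← hg]; simpa [mul_assoc] using h.le (pow_mem hzH _))
  intro x hx
  have hx' : g⁻¹ * x * g ∈ H := (Subgroup.mem_normalizer_iff''.1 (h.normal hgM) x).1 hx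
  rw [← hg]
  have h1 : Commute (z ^ 2 ^ j) (g⁻¹ * x * g) := (hzc _ hx').pow_left _
  show g * z ^ 2 ^ j * g⁻¹ * x = x * (g * z ^ 2 ^ j * g⁻¹)
  calc g * z ^ 2 ^ j * g⁻¹ * x = g * (z ^ 2 ^ j * (g⁻¹ * x * g)) * g⁻¹ := by group
    _ = g * ((g⁻¹ * x * g) * z ^ 2 ^ j) * g⁻¹ := by rw [h1.eq]
    _ = _ := by group

theorem transitive {s t : G} (hs : orderOf s = 2) (hsM : s ∈ M) (ht : orderOf t = 2) (htM : t ∈ M) :
    ∃ g ∈ M, g * s * g⁻¹ = t := by
  obtain ⟨g, hg⟩ := isConj_iff.1 (isConj_involutions h.se hs ht)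
  exact ⟨g, se_mem_of_conj_mem h.se htM ht (by rw [← hg]; simpa [mul_assoc] using hsM), hg⟩

/-- The involutions of `M` correspond to the cosets of `H` in `M`. -/
theorem card_M : Nat.card ↥M = Nat.card ↥H * Nat.card (Inv M) := by
  obtain ⟨s, -, hsM, -, hs, -, -⟩ := h.many
  let f : ↥M ⧸ H.subgroupOf M → Inv M := Quotient.lift
    (fun g : ↥M => ⟨(g : G) * s * (g : G)⁻¹, by rw [orderOf_conj_eq, hs],
      mul_mem (mul_mem g.2 hsM) (inv_mem g.2)⟩)
    fun a b hab => by
      rw [← Quotient.eq_iff_equiv] at hab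
      replace hab := QuotientGroup.eq.1 hab
      have hc : Commute s ((a : G)⁻¹ * b) := central h hs hsM _ hab
      refine Subtype.ext ?_
      show (a : G) * s * (a : G)⁻¹ = (b : G) * s * (b : G)⁻¹
      calc (a : G) * s * (a : G)⁻¹ = a * (s * ((a : G)⁻¹ * b)) * (b : G)⁻¹ := by group
        _ = a * (((a : G)⁻¹ * b) * s) * (b : G)⁻¹ := by rw [hc.eq]
        _ = _ := by group
  have hf : Function.Bijective f := by
    refine ⟨?_, fun ⟨t, ht, htM⟩ => ?_⟩
    · rintro ⟨a⟩ ⟨b⟩ e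
      refine QuotientGroup.eq.2 ?_
      have e' : (a : G) * s * (a : G)⁻¹ = (b : G) * s * (b : G)⁻¹ := congrArg Subtype.val e
      refine h.cent s (h.two s hsM hs) (ne_one_of_involution hs) _ ?_
      show (a : G)⁻¹ * b * s = s * ((a : G)⁻¹ * b)
      calc (a : G)⁻¹ * b * s = (a : G)⁻¹ * ((b : G) * s * (b : G)⁻¹) * b := by group
        _ = _ := by rw [← e']; group
    · obtain ⟨g, hgM, hg⟩ := transitive h hs hsM ht htM
      exact ⟨QuotientGroup.mk ⟨g, hgM⟩, Subtype.ext hg⟩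
  rw [← Nat.card_eq_of_bijective f hf, Subgroup.card_eq_card_quotient_mul_card_subgroup
    (H.subgroupOf M), Nat.card_congr (Subgroup.subgroupOfEquivOfLe h.le).toEquiv, mul_comm]

theorem two_le_inv : 2 ≤ Nat.card (Inv M) := by
  obtain ⟨s, t, hsM, htM, hs, ht, hst⟩ := h.many
  haveI : Nontrivial (Inv M) := ⟨⟨s, hs, hsM⟩, ⟨t, ht, htM⟩, fun e => hst (congrArg Subtype.val e)⟩
  exact Finite.one_lt_card

theorem two_le_H : 2 ≤ Nat.card ↥H := by
  obtain ⟨s, -, hsM, -, hs, -, -⟩ := h.many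
  exact Nat.le_of_dvd Nat.card_pos (hs ▸ H.orderOf_dvd_natCard (h.two s hsM hs))

variable {y : G ⧸ M}

omit h in
theorem mul_swap_mem {i r : G} (hi : orderOf i = 2) (hr : orderOf r = 2) (hiy : i • base M = y)
    (hry : r • base M = y) : i * r ∈ twoStab M y := by
  have h1 : i • y = base M := by rw [← hiy, smul_self_of_involution hi]
  have h2 : r • y = base M := by rw [← hry, smul_self_of_involution hr]
  exact mem_twoStab.2 ⟨by rw [mul_smul, hry, h1], by rw [mul_smul, h2, hiy]⟩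

theorem exists_swap (hy : y ≠ base M) : ∃ r : G, orderOf r = 2 ∧ r • base M = y := by
  have h1 := card_swapping h.se (Ne.symm hy)
  have h2 := two_le_inv h
  haveI : Nonempty {i : G // orderOf i = 2 ∧ i • base M = y} := by
    by_contra hn
    rw [not_nonempty_iff] at hn
    rw [Nat.card_of_isEmpty] at h1
    unfold Inv at h2
    omega
  obtain ⟨⟨i, hi⟩⟩ := this
  exact ⟨i, hi⟩

omit h in
theorem conj_swap_mem {r d : G} (hr : orderOf r = 2) (hry : r • base M = y)
    (hd : d ∈ twoStab M y) : r * d * r⁻¹ ∈ twoStab M y := by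
  have h1 : r • y = base M := by rw [← hry, smul_self_of_involution hr]
  rw [inv_eq_self_of_involution hr]
  obtain ⟨hd1, hd2⟩ := mem_twoStab.1 hd
  exact mem_twoStab.2 ⟨by rw [mul_smul, mul_smul, hry, hd2, h1],
    by rw [mul_smul, mul_smul, h1, hd1, hry]⟩

theorem twoStab_inf_H (hy : y ≠ base M) {d : G} (hd : d ∈ twoStab M y) (hdH : d ∈ H) : d = 1 := by
  by_contra hd1
  obtain ⟨r, hr, hry⟩ := exists_swap h hy
  have hrM : r ∉ M := fun e => hy (hry.symm.trans (mem_iff.1 e))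
  set b := r * d * r⁻¹ with hb
  have hbD : b ∈ twoStab M y := conj_swap_mem hr hry hd
  have hdM : d ∈ M := mem_iff.2 (mem_twoStab.1 hd).1
  have hbM : b ∈ M := mem_iff.2 (mem_twoStab.1 hbD).1
  -- `r H r⁻¹` is normalised by the stabiliser of `y`
  have hn : ∀ e ∈ twoStab M y, ∀ x : G, r⁻¹ * x * r ∈ H → r⁻¹ * (e * x * e⁻¹) * r ∈ H := by
    intro e he x hx
    have he' : r * e * r⁻¹ ∈ M := mem_iff.2 (mem_twoStab.1 (conj_swap_mem hr hry he)).1
    have := (Subgroup.mem_normalizer_iff.1 (h.normal he') (r⁻¹ * x * r)).1 hx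
    have e1 : r⁻¹ * (e * x * e⁻¹) * r = r * e * r⁻¹ * (r⁻¹ * x * r) * (r * e * r⁻¹)⁻¹ := by
      rw [inv_eq_self_of_involution hr]
      have e2 : r * e⁻¹ * r = (r * e * r)⁻¹ := by
        rw [mul_inv_rev, mul_inv_rev, inv_eq_self_of_involution hr, mul_assoc]
      calc r * (e * x * e⁻¹) * r = r * e * (r * r) * x * (r * r) * e⁻¹ * r := by
            rw [mul_self_eq_one hr]; group
        _ = r * e * r * (r * x * r) * (r * e⁻¹ * r) := by group
        _ = _ := by rw [e2]
    rw [e1]; exact this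
  have hbr : r⁻¹ * b * r ∈ H := by
    rw [hb, show r⁻¹ * (r * d * r⁻¹) * r = d by group]; exact hdH
  have hc1 : d * b * d⁻¹ * b⁻¹ ∈ H := by
    rw [show d * b * d⁻¹ * b⁻¹ = d * (b * d⁻¹ * b⁻¹) by group]
    exact mul_mem hdH ((Subgroup.mem_normalizer_iff.1 (h.normal hbM) _).1 (inv_mem hdH))
  have hc2 : r⁻¹ * (d * b * d⁻¹ * b⁻¹) * r ∈ H := by
    rw [show r⁻¹ * (d * b * d⁻¹ * b⁻¹) * r = r⁻¹ * (d * b * d⁻¹) * r * (r⁻¹ * b * r)⁻¹ by group]
    exact mul_mem (hn d hd b hbr) (inv_mem hbr)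
  have hc : d * b * d⁻¹ * b⁻¹ = 1 := by
    by_contra hne
    exact hrM (h.ti r _ hc1 hne hc2)
  have hbH : b ∈ H := h.cent d hdH hd1 b
    (by show b * d = d * b; exact (mul_inv_eq_iff_eq_mul.1 (mul_inv_eq_one.1 hc)).symm)
  exact hrM (h.ti r b hbH (fun e => hd1 (conj_eq_one_iff.1 (hb ▸ e))) hbr)

theorem card_twoStab_le (hy : y ≠ base M) : Nat.card (twoStab M y) ≤ Nat.card (Inv M) := by
  obtain ⟨s, -, hsM, -, hs, -, -⟩ := h.many
  refine Nat.card_le_card_of_injective (fun d : twoStab M y =>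
    (⟨(d : G) * s * (d : G)⁻¹, by rw [orderOf_conj_eq, hs],
      mul_mem (mul_mem (mem_iff.2 (mem_twoStab.1 d.2).1) hsM)
        (inv_mem (mem_iff.2 (mem_twoStab.1 d.2).1))⟩ : Inv M)) ?_
  intro a b e
  have e' : (a : G) * s * (a : G)⁻¹ = (b : G) * s * (b : G)⁻¹ := congrArg Subtype.val e
  have h1 : (a : G)⁻¹ * b ∈ H := h.cent s (h.two s hsM hs) (ne_one_of_involution hs) _ (by
    show (a : G)⁻¹ * b * s = s * ((a : G)⁻¹ * b)
    calc (a : G)⁻¹ * b * s = (a : G)⁻¹ * ((b : G) * s * (b : G)⁻¹) * b := by group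
      _ = _ := by rw [← e']; group)
  exact Subtype.ext (inv_mul_eq_one.1 (twoStab_inf_H h hy (mul_mem (inv_mem a.2) b.2) h1))

theorem swap_bijective (hy : y ≠ base M) {r : G} (hr : orderOf r = 2) (hry : r • base M = y) :
    Function.Bijective (fun i : {i : G // orderOf i = 2 ∧ i • base M = y} =>
      (⟨i.1 * r, mul_swap_mem i.2.1 hr i.2.2 hry⟩ : twoStab M y)) :=
  Function.Injective.bijective_of_nat_card_le
    (fun a b e => Subtype.ext (mul_right_cancel (congrArg Subtype.val e)))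
    (by rw [card_swapping h.se (Ne.symm hy)]; exact card_twoStab_le h hy)

theorem card_twoStab (hy : y ≠ base M) : Nat.card (twoStab M y) = Nat.card (Inv M) := by
  obtain ⟨r, hr, hry⟩ := exists_swap h hy
  rw [← Nat.card_eq_of_bijective _ (swap_bijective h hy hr hry), card_swapping h.se (Ne.symm hy)]

theorem inverts (hy : y ≠ base M) {r d : G} (hr : orderOf r = 2) (hry : r • base M = y)
    (hd : d ∈ twoStab M y) : r * d * r⁻¹ = d⁻¹ := by
  obtain ⟨⟨i, hi, hiy⟩, e⟩ := (swap_bijective h hy hr hry).2 ⟨d, hd⟩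
  have e' : i * r = d := congrArg Subtype.val e
  rw [← e', mul_inv_rev, inv_eq_self_of_involution hr, inv_eq_self_of_involution hi,
    mul_assoc, mul_assoc, mul_self_eq_one hr, mul_one]

theorem commute_twoStab (hy : y ≠ base M) {d e : G} (hd : d ∈ twoStab M y) (he : e ∈ twoStab M y) :
    Commute d e := by
  obtain ⟨r, hr, hry⟩ := exists_swap h hy
  have h1 := inverts h hy hr hry (mul_mem hd he)
  have h2 : r * (d * e) * r⁻¹ = r * d * r⁻¹ * (r * e * r⁻¹) := by group
  rw [h2, inverts h hy hr hry hd, inverts h hy hr hry he, ← mul_inv_rev, inv_inj] at h1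
  exact h1.symm

theorem exists_decomp (hy : y ≠ base M) {m : G} (hm : m ∈ M) :
    ∃ x ∈ H, ∃ d ∈ twoStab M y, m = x * d := by
  let f : ↥H × twoStab M y → ↥M := fun p =>
    ⟨p.1.1 * p.2.1, mul_mem (h.le p.1.2) (mem_iff.2 (mem_twoStab.1 p.2.2).1)⟩
  have hf : Function.Injective f := by
    rintro ⟨x, d⟩ ⟨x', d'⟩ e
    have e' : x.1 * d.1 = x'.1 * d'.1 := congrArg Subtype.val e
    have h1 : d.1 * d'.1⁻¹ = x.1⁻¹ * x'.1 := by
      calc d.1 * d'.1⁻¹ = x.1⁻¹ * (x.1 * d.1) * d'.1⁻¹ := by group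
        _ = _ := by rw [e']; group
    have h3 : d.1 = d'.1 := mul_inv_eq_one.1
      (twoStab_inf_H h hy (mul_mem d.2 (inv_mem d'.2)) (h1 ▸ mul_mem (inv_mem x.2) x'.2))
    rw [h3] at e'
    exact Prod.ext (Subtype.ext (mul_right_cancel e')) (Subtype.ext h3)
  obtain ⟨⟨x, d⟩, hxd⟩ := (hf.bijective_of_nat_card_le
    (by rw [Nat.card_prod, card_twoStab h hy, card_M h])).2 ⟨m, hm⟩
  exact ⟨x, x.2, d, d.2, (congrArg Subtype.val hxd).symm⟩

theorem not_two (hy : y ≠ base M) {d : G} (hd : d ∈ twoStab M y) : orderOf d ≠ 2 := fun e =>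
  ne_one_of_involution e (twoStab_inf_H h hy hd (h.two d (mem_iff.2 (mem_twoStab.1 hd).1) e))

theorem inf_H_centralizes (hy : y ≠ base M) {d x : G} (hd : d ∈ twoStab M y) (hd1 : d ≠ 1)
    (hx : x ∈ H) (hc : Commute d x) : x = 1 := by
  by_contra hx1
  exact hd1 (twoStab_inf_H h hy hd (h.cent x hx hx1 d hc))

theorem centralizer_eq (hy : y ≠ base M) {d g : G} (hd : d ∈ twoStab M y) (hd1 : d ≠ 1)
    (hg : g ∈ M) (hc : Commute g d) : g ∈ twoStab M y := by
  obtain ⟨x, hx, e, he, rfl⟩ := exists_decomp h hy hg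
  have h2 : Commute e d := commute_twoStab h hy he hd
  have h1 : Commute x d := by
    have h3 := hc.mul_left h2.inv_left
    rwa [mul_inv_cancel_right] at h3
  rw [inf_H_centralizes h hy hd hd1 hx h1.symm, one_mul]
  exact he

/-- A nontrivial element of a two-point stabiliser fixes only those two points. -/
theorem fixed_pair (hy : y ≠ base M) {k : G} (hk : k ∈ twoStab M y) (hk1 : k ≠ 1) {c : G ⧸ M}
    (hc : k • c = c) : c = base M ∨ c = y := by
  by_cases hcb : c = base M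
  · exact Or.inl hcb
  right
  have hkc : k ∈ twoStab M c := mem_twoStab.2 ⟨(mem_twoStab.1 hk).1, hc⟩
  have hD : ∀ z : G ⧸ M, z ≠ base M → k ∈ twoStab M z → ∀ d, d ∈ twoStab M y ↔ d ∈ twoStab M z :=
    fun z hz hkz d => ⟨fun hd => centralizer_eq h hz hkz hk1 (mem_iff.2 (mem_twoStab.1 hd).1)
      (commute_twoStab h hy hd hk),
      fun hd => centralizer_eq h hy hk hk1 (mem_iff.2 (mem_twoStab.1 hd).1)
        (commute_twoStab h hz hd hkz)⟩
  obtain ⟨u, hu, huy⟩ := exists_swap h hy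
  obtain ⟨v, hv, hvc⟩ := exists_swap h hcb
  have huy' : u • y = base M := by rw [← huy, smul_self_of_involution hu]
  have hiu : ∀ d ∈ twoStab M y, u * d * u⁻¹ = d⁻¹ := fun d hd => inverts h hy hu huy hd
  have hiv : ∀ d ∈ twoStab M y, v * d * v⁻¹ = d⁻¹ := fun d hd =>
    inverts h hcb hv hvc ((hD c hcb hkc d).1 hd)
  set g := v * u with hg
  have hgc : ∀ d ∈ twoStab M y, g * d * g⁻¹ = d := by
    intro d hd
    calc g * d * g⁻¹ = v * (u * d * u⁻¹) * v⁻¹ := by rw [hg]; group
      _ = v * d⁻¹ * v⁻¹ := by rw [hiu d hd]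
      _ = d := by rw [hiv _ (inv_mem hd), inv_inv]
  by_cases he : g • base M = base M
  · rw [hg, mul_smul, huy] at he
    have h1 : v • base M = y := by rw [← he, smul_self_of_involution hv]
    rw [← hvc, h1]
  · exfalso
    set e := g • base M
    have hke : k ∈ twoStab M e := mem_twoStab.2 ⟨(mem_twoStab.1 hk).1, by
      rw [smul_smul, show k * g = g * k by
        conv_lhs => rw [← hgc k hk]
        group, mul_smul, (mem_twoStab.1 hk).1]⟩
    obtain ⟨w, hw, hwe⟩ := exists_swap h he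
    set m := w * g with hm
    have hmM : m ∈ M := mem_iff.2 (by
      rw [hm, mul_smul]
      show w • e = base M
      rw [← hwe, smul_self_of_involution hw])
    have hmi : ∀ d ∈ twoStab M y, m * d * m⁻¹ = d⁻¹ := fun d hd => by
      calc m * d * m⁻¹ = w * (g * d * g⁻¹) * w⁻¹ := by rw [hm]; group
        _ = w * d * w⁻¹ := by rw [hgc d hd]
        _ = d⁻¹ := inverts h he hw hwe ((hD e he hke d).1 hd)
    obtain ⟨x, hx, d, hd, hmd⟩ := exists_decomp h hy hmM
    have h3 : x * k * x⁻¹ = k⁻¹ := by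
      have h4 := hmi k hk
      rw [hmd] at h4
      calc x * k * x⁻¹ = x * (d * k * d⁻¹) * x⁻¹ := by
            rw [(commute_twoStab h hy hd hk).eq, mul_inv_cancel_right]
        _ = k⁻¹ := by rw [← h4]; group
    -- `k ^ 2` lies in `H`
    have h5 : k * k ∈ H := by
      have hkM : k ∈ M := mem_iff.2 (mem_twoStab.1 hk).1
      have h6 : k⁻¹ * x * k * x⁻¹ ∈ H :=
        mul_mem ((Subgroup.mem_normalizer_iff''.1 (h.normal hkM) x).1 hx) (inv_mem hx)
      rw [show k⁻¹ * x * k * x⁻¹ = k⁻¹ * (x * k * x⁻¹) by group, h3] at h6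
      have h7 := inv_mem h6
      rwa [mul_inv_rev, inv_inv] at h7
    have h8 : k * k = 1 := twoStab_inf_H h hy (mul_mem hk hk) h5
    exact not_two h hy hk (orderOf_eq_two_iff_mul.2 ⟨hk1, h8⟩)

theorem exists_ne_base : ∃ y : G ⧸ M, y ≠ base M := by
  obtain ⟨u, hu, huM⟩ := exists_involution_notMem h.se
  exact ⟨u • base M, fun e => huM (mem_iff.2 e)⟩

theorem free (hy : y ≠ base M) :
    Function.Injective (fun x : ↥H => ((x : G) • y : G ⧸ M)) := by
  intro a b e
  have e' : (a : G) • y = (b : G) • y := e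
  have h1 : ((b : G)⁻¹ * a) • y = y := by rw [mul_smul, e', inv_smul_smul]
  have h2 := twoStab_inf_H h hy
    (mem_twoStab.2 ⟨mem_iff.1 (h.le (mul_mem (inv_mem b.2) a.2)), h1⟩) (mul_mem (inv_mem b.2) a.2)
  exact Subtype.ext (inv_mul_eq_one.1 h2).symm

theorem card_others : Nat.card {w : G ⧸ M // w ≠ base M} = Nat.card ↥H := by
  classical
  obtain ⟨y, hy⟩ := exists_ne_base h
  haveI : Fintype {w : G ⧸ M // w ≠ base M} := Fintype.ofFinite _
  refine le_antisymm ?_ ?_
  · let P := Σ w : {w : G ⧸ M // w ≠ base M}, {d : twoStab M w.1 // d ≠ 1}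
    let f : P → {g : ↥M // (g : G) ∉ H} := fun p => ⟨⟨p.2.1.1, mem_iff.2 (mem_twoStab.1 p.2.1.2).1⟩,
      fun hT => p.2.2 (Subtype.ext (twoStab_inf_H h p.1.2 p.2.1.2 hT))⟩
    have hf : Function.Injective f := by
      rintro ⟨⟨w, hw⟩, ⟨d, hd⟩, hd1⟩ ⟨⟨w', hw'⟩, ⟨d', hd'⟩, hd1'⟩ e
      obtain rfl : d = d' := congrArg (fun g : {g : ↥M // (g : G) ∉ H} => ((g.1 : ↥M) : G)) e
      obtain rfl : w = w' := by
        rcases fixed_pair h hw' hd' (fun e => hd1' (Subtype.ext e)) (mem_twoStab.1 hd).2 with e' | e'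
        · exact absurd e' hw
        · exact e'
      rfl
    have h1 := Nat.card_le_card_of_injective f hf
    have hP : Nat.card P = Nat.card {w : G ⧸ M // w ≠ base M} * (Nat.card (Inv M) - 1) := by
      rw [Nat.card_sigma, Finset.sum_congr rfl (fun w _ => ?_), Finset.sum_const, Finset.card_univ,
        ← Nat.card_eq_fintype_card, smul_eq_mul]
      have := Fintype.ofFinite (twoStab M w.1)
      rw [Nat.card_eq_fintype_card, Fintype.card_subtype_compl, Fintype.card_subtype_eq,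
        ← Nat.card_eq_fintype_card, card_twoStab h w.2]
    have hR : Nat.card {g : ↥M // (g : G) ∉ H} = Nat.card ↥H * (Nat.card (Inv M) - 1) := by
      have h2 : Nat.card {g : ↥M // (g : G) ∈ H} = Nat.card ↥H :=
        Nat.card_congr
          { toFun := fun g => ⟨g.1.1, g.2⟩
            invFun := fun t => ⟨⟨t.1, h.le t.2⟩, t.2⟩
            left_inv := fun g => rfl
            right_inv := fun t => rfl }
      have := Fintype.ofFinite ↥M
      rw [Nat.card_eq_fintype_card, Fintype.card_subtype_compl, ← Nat.card_eq_fintype_card,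
        ← Nat.card_eq_fintype_card, h2, card_M h, Nat.mul_sub, mul_one]
    rw [hP, hR] at h1
    exact Nat.le_of_mul_le_mul_right h1 (by have := two_le_inv h; omega)
  · refine Nat.card_le_card_of_injective (fun x : ↥H => (⟨(x : G) • y, fun e => hy ?_⟩ :
      {w : G ⧸ M // w ≠ base M})) (fun a b e => free h hy (congrArg Subtype.val e))
    rw [← inv_smul_smul (x : G) y, e]
    exact mem_iff.1 (inv_mem (h.le x.2))

theorem transitive_others {a b : G ⧸ M} (ha : a ≠ base M) (hb : b ≠ base M) :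
    ∃ x ∈ H, x • a = b := by
  let g : ↥H → {w : G ⧸ M // w ≠ base M} := fun x => ⟨(x : G) • a, fun e => ha (by
    rw [← inv_smul_smul (x : G) a, e]; exact mem_iff.1 (inv_mem (h.le x.2)))⟩
  have hg : Function.Injective g := fun u v e => free h ha (congrArg Subtype.val e)
  obtain ⟨x, hx⟩ := (hg.bijective_of_nat_card_le (card_others h).le).2 ⟨b, hb⟩
  exact ⟨x, x.2, congrArg Subtype.val hx⟩

omit h [Finite G] in
theorem exists_to_base (a : G ⧸ M) : ∃ g : G, g • a = base M := by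
  obtain ⟨c, rfl⟩ := QuotientGroup.mk_surjective a
  exact ⟨c⁻¹, by show ((c⁻¹ * c : G) : G ⧸ M) = _; rw [inv_mul_cancel]⟩

theorem eq_one_of_three {g : G} {a b c : G ⧸ M} (hab : a ≠ b) (hbc : b ≠ c) (hac : a ≠ c)
    (fa : g • a = a) (fb : g • b = b) (fc : g • c = c) : g = 1 := by
  obtain ⟨k, hk⟩ := exists_to_base (M := M) a
  have conj : ∀ w : G ⧸ M, g • w = w → (k * g * k⁻¹) • (k • w) = k • w := fun w hw => by
    rw [smul_smul, inv_mul_cancel_right, mul_smul, hw]
  have f1 := conj a fa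
  rw [hk] at f1
  have n2 : k • b ≠ base M := fun e => hab (smul_left_cancel k (hk.trans e.symm))
  have n3 : k • c ≠ base M := fun e => hac (smul_left_cancel k (hk.trans e.symm))
  by_contra hg
  rcases fixed_pair h n2 (mem_twoStab.2 ⟨f1, conj b fb⟩) (fun e => hg (conj_eq_one_iff.1 e))
    (conj c fc) with e | e
  · exact n3 e
  · exact hbc (smul_left_cancel k e).symm

theorem card_points : Nat.card (G ⧸ M) = Nat.card ↥H + 1 := by
  classical
  haveI := Fintype.ofFinite (G ⧸ M)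
  have h1 := card_others h
  rw [Nat.card_eq_fintype_card, Fintype.card_subtype_compl, Fintype.card_subtype_eq] at h1
  have h2 : 0 < Fintype.card (G ⧸ M) := Fintype.card_pos
  rw [Nat.card_eq_fintype_card (α := G ⧸ M)]
  omega

theorem odd_index : Odd M.index := by
  haveI : Fact (Nat.Prime 2) := ⟨Nat.prime_two⟩
  obtain ⟨P⟩ : Nonempty (Sylow 2 ↥M) := inferInstance
  set P' := (P : Subgroup ↥M).map M.subtype with hP'
  obtain ⟨Q, hQ⟩ := (show IsPGroup 2 ↥P' from P.isPGroup'.map _).exists_le_sylow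
  have heq : (Q : Subgroup G) = P' := by
    by_contra hne
    obtain ⟨x, hxQ, hxP, hxN⟩ :=
      exists_mem_normalizer_notMem Q.isPGroup' (lt_of_le_of_ne hQ (Ne.symm hne))
    have heven : Even (Nat.card ↥P') := by
      have h2 : 2 ∣ Nat.card (P : Subgroup ↥M) :=
        P.dvd_card_of_dvd_card (even_iff_two_dvd.1 h.se.2.1)
      rw [even_iff_two_dvd, hP', Subgroup.card_map_of_injective M.subtype_injective]
      exact h2
    have hxM := se_normalizer_le h.se (Subgroup.map_subtype_le _) heven hxN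
    have hle : ((Q : Subgroup G) ⊓ M).subgroupOf M = (P : Subgroup ↥M) := by
      refine P.is_maximal' ?_ ?_
      · exact (Q.isPGroup'.to_le inf_le_left).comap_of_injective M.subtype M.subtype_injective
      · intro w hw
        exact ⟨hQ ⟨w, hw, rfl⟩, w.2⟩
    exact hxP ⟨⟨x, hxM⟩, hle ▸ (Subgroup.mem_subgroupOf.2 ⟨hxQ, hxM⟩), rfl⟩
  have h2 := Q.not_dvd_index
  rw [heq] at h2
  rw [Nat.odd_iff]
  by_contra hev
  exact h2 (((Nat.dvd_of_mod_eq_zero (by omega)) : 2 ∣ M.index).trans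
    (Subgroup.index_dvd_of_le (Subgroup.map_subtype_le _)))

theorem isZassenhaus : Cfsg.IsZassenhausGroup G (G ⧸ M) := by
  classical
  obtain ⟨y, hy⟩ := exists_ne_base h
  have hH := two_le_H h
  haveI : Fintype (G ⧸ M) := Fintype.ofFinite _
  have hcard := card_points h
  rw [Nat.card_eq_fintype_card (α := G ⧸ M)] at hcard
  refine ⟨⟨fun {a b} e => ?_⟩, ?_, fun g a b c hab hbc hac fa fb fc =>
    eq_one_of_three h hab hbc hac fa fb fc, ?_, ?_⟩
  · obtain ⟨c, hc, d, hd, hcd⟩ := Finset.one_lt_card.1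
      (show 1 < (Finset.univ.erase (base M)).card by
        rw [Finset.card_erase_of_mem (Finset.mem_univ _), Finset.card_univ]; omega)
    have h1 : ∀ z : G ⧸ M, (b⁻¹ * a) • z = z := fun z => by rw [mul_smul, e z, inv_smul_smul]
    exact (inv_mul_eq_one.1 (eq_one_of_three h (Finset.ne_of_mem_erase hc).symm hcd
      (Finset.ne_of_mem_erase hd).symm (h1 _) (h1 _) (h1 _))).symm
  · rw [is_two_pretransitive_iff]
    intro a b c d hab hcd
    obtain ⟨g, hg⟩ := exists_to_base (M := M) a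
    obtain ⟨k, hk⟩ := exists_to_base (M := M) c
    have n1 : g • b ≠ base M := fun e => hab (smul_left_cancel g (hg.trans e.symm))
    have n2 : k • d ≠ base M := fun e => hcd (smul_left_cancel k (hk.trans e.symm))
    obtain ⟨x, hx, hxe⟩ := transitive_others h n1 n2
    refine ⟨k⁻¹ * x * g, ?_, ?_⟩
    · rw [mul_smul, mul_smul, hg, mem_iff.1 (h.le hx), inv_smul_eq_iff, hk]
    · rw [mul_smul, mul_smul, hxe, inv_smul_smul]
  · haveI : Nontrivial (twoStab M y) := by
      rw [← Finite.one_lt_card_iff_nontrivial, card_twoStab h hy]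
      exact two_le_inv h
    obtain ⟨⟨d, hd⟩, hd1⟩ := exists_ne (1 : twoStab M y)
    exact ⟨d, fun e => hd1 (Subtype.ext e), base M, y, hy.symm,
      (mem_twoStab.1 hd).1, (mem_twoStab.1 hd).2⟩
  · intro N hN htr
    by_contra hcon
    push Not at hcon
    have hNM : ∀ n ∈ N, n ∈ M → n = 1 := fun n hn hnM => by
      have h1 := (hcon (base M)).le (show (⟨n, hn⟩ : ↥N) ∈ _ from mem_iff.1 hnM)
      exact congrArg Subtype.val (Subgroup.mem_bot.1 h1)
    have hinv : ∀ r : G, orderOf r = 2 → r ∈ M → ∀ n ∈ N, r * n * r⁻¹ = n⁻¹ := by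
      intro r hr hrM
      haveI := Fintype.ofFinite ↥N
      let φ : ↥N → ↥N := fun n => ⟨(n : G)⁻¹ * (r * n * r⁻¹),
        mul_mem (inv_mem n.2) (hN.conj_mem _ n.2 r)⟩
      have hφ : Function.Injective φ := by
        intro a b e
        have e' : (a : G)⁻¹ * (r * a * r⁻¹) = (b : G)⁻¹ * (r * b * r⁻¹) := congrArg Subtype.val e
        have hc : Commute ((b : G) * (a : G)⁻¹) r := by
          show (b : G) * (a : G)⁻¹ * r = r * ((b : G) * (a : G)⁻¹)
          calc (b : G) * (a : G)⁻¹ * r = b * ((a : G)⁻¹ * (r * a * r⁻¹)) * r * (a : G)⁻¹ := by group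
            _ = _ := by rw [e']; group
        have hm := h.le (h.cent r (h.two r hrM hr) (ne_one_of_involution hr) _ hc)
        exact Subtype.ext (mul_inv_eq_one.1 (hNM _ (mul_mem b.2 (inv_mem a.2)) hm)).symm
      intro n hn
      obtain ⟨⟨m, hm'⟩, hm⟩ := (Finite.injective_iff_surjective.1 hφ) ⟨n, hn⟩
      have hm2 : n = m⁻¹ * (r * m * r⁻¹) := (congrArg Subtype.val hm).symm
      rw [hm2, inv_eq_self_of_involution hr, mul_inv_rev, mul_inv_rev, mul_inv_rev, inv_inv,
        inv_eq_self_of_involution hr]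
      calc r * (m⁻¹ * (r * m * r)) * r = r * m⁻¹ * r * m * (r * r) := by group
        _ = _ := by rw [mul_self_eq_one hr]; group
    obtain ⟨s, t, hsM, htM, hs, ht, hst⟩ := h.many
    obtain ⟨n, hn⟩ := htr.exists_smul_eq (base M) y
    have hstH : s * t ∈ H := mul_mem (h.two s hsM hs) (h.two t htM ht)
    have hst1 : s * t ≠ 1 := fun e => hst
      ((mul_eq_one_iff_eq_inv.1 e).trans (inv_eq_self_of_involution ht))
    have hc : Commute (n : G) (s * t) := by
      have e1 : s * t * (n : G) * (s * t)⁻¹ = n := by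
        calc s * t * (n : G) * (s * t)⁻¹ = s * (t * n * t⁻¹) * s⁻¹ := by group
          _ = n := by rw [hinv t ht htM n n.2, hinv s hs hsM _ (inv_mem n.2), inv_inv]
      exact (mul_inv_eq_iff_eq_mul.1 e1).symm
    have := hNM n n.2 (h.le (h.cent _ hstH hst1 n hc))
    apply hy
    rw [← hn]
    show (n : G) • base M = base M
    rw [this, one_smul]

/-- The group is simple, `PSL₂` or of Suzuki order, and `H` is a 2-group. -/
theorem main : IsSimpleGroup G ∧ IsPGroup 2 ↥H ∧
    Nat.card G = (Nat.card ↥H + 1) * (Nat.card ↥H * Nat.card (Inv M)) ∧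
    ((∃ (F : Type) (_ : Field F) (_ : Fintype F),
        Nonempty (G ≃* Matrix.ProjectiveSpecialLinearGroup (Fin 2) F)) ∨ Cfsg.IsSuzuki G) := by
  haveI : Fintype (G ⧸ M) := Fintype.ofFinite _
  have hZ := isZassenhaus h
  have hc := card_points h
  rw [Nat.card_eq_fintype_card (α := G ⧸ M)] at hc
  have hodd : Odd (Fintype.card (G ⧸ M)) := by
    rw [← Nat.card_eq_fintype_card]; exact odd_index h
  haveI : IsSimpleGroup G := Cfsg.Agent.S0338.result hZ hodd
  refine ⟨inferInstance, ?_, ?_, Cfsg.Agent.S0340.result hZ⟩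
  · have hp : IsPrimePow (Fintype.card (G ⧸ M) - 1) := Cfsg.Agent.S0346.result hZ
    rw [hc, Nat.add_sub_cancel, isPrimePow_nat_iff] at hp
    obtain ⟨p, k, hp, -, hpk⟩ := hp
    obtain ⟨s, -, hsM, -, hs, -, -⟩ := h.many
    have h2 : 2 ∣ p ^ k := by rw [hpk, ← hs]; exact H.orderOf_dvd_natCard (h.two s hsM hs)
    obtain rfl := (Nat.prime_dvd_prime_iff_eq Nat.prime_two hp).1 (Nat.prime_two.dvd_of_dvd_pow h2)
    exact IsPGroup.of_card hpk.symm
  · rw [Subgroup.card_eq_card_quotient_mul_card_subgroup M, Nat.card_eq_fintype_card (α := G ⧸ M),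
      hc, card_M h]

end CfsgLib.CIT.TI
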