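import Mathlib
import Cfsg.Agent.Lib.CIT.Basic
import Cfsg.Agent.Lib.CIT.TI
import Cfsg.Agent.Lib.Involutions.BaerSuzuki
import Cfsg.Agent.Lib.Involutions.StronglyEmbedded
import Cfsg.Agent.Lib.StrongEmbedding.Swap

/-!
# A strongly embedded subgroup with a nontrivial normal 2-subgroup

Its Sylow 2-subgroup is normal and is a TI-subgroup containing the centralisers of its elements.
-/

set_option autoImplicit false
set_option linter.style.haveILetI false

namespace CfsgLib.CIT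

open Subgroup CfsgLib.Involutions CfsgLib.StrongEmbedding

universe u

variable {G : Type u} [Group G] [Finite G]

/-- If all involutions lie in `O₂(G)`, a Sylow 2-subgroup is normal. -/
theorem IsCIT.sylow_eq_pCore (hG : IsCIT G)
    (hinv : ∀ t : G, orderOf t = 2 → t ∈ Cfsg.pCore 2 G) (P : Sylow 2 G) :
    (P : Subgroup G) = Cfsg.pCore 2 G := by
  haveI : Fact (Nat.Prime 2) := ⟨Nat.prime_two⟩
  set O := Cfsg.pCore 2 G with hOdef
  by_contra hne
  have hOP : O ≤ (P : Subgroup G) := CfsgLib.PCore.pCore_le_sylow P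
  obtain ⟨x, hx, hxO⟩ := SetLike.not_le_iff_exists.1 fun h => hne (le_antisymm h hOP)
  set π := QuotientGroup.mk' O with hπ
  -- an involution of the quotient
  obtain ⟨α, hα⟩ : ∃ α : G ⧸ O, orderOf α = 2 := by
    have h2 : IsTwo (x : G ⧸ O) := by
      obtain ⟨k, hk⟩ := isTwo_of_mem P.isPGroup' hx
      exact ⟨k, by rw [← QuotientGroup.mk_pow, hk]; rfl⟩
    obtain ⟨t, -, ht⟩ := exists_involution_zpowers h2 (fun e => hxO ((QuotientGroup.eq_one_iff x).1 e))
    exact ⟨t, ht⟩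
  -- an inverted element of odd prime order
  obtain ⟨η, p, hp, hp2, hη, hinvη⟩ : ∃ η : G ⧸ O, ∃ p : ℕ, p.Prime ∧ p ≠ 2 ∧ orderOf η = p ∧
      α * η * α⁻¹ = η⁻¹ := by
    obtain ⟨g, hg⟩ : ∃ g : G ⧸ O, ¬ IsPGroup 2 ↥(closure ({α, g * α * g⁻¹} : Set (G ⧸ O))) := by
      by_contra hcon
      push Not at hcon
      obtain ⟨N, hN, hN2, haN⟩ := exists_normal_isPGroup_of_mem hcon
      have h1 := CfsgLib.PCore.le_pCore hN hN2 haN
      rw [CfsgLib.PCore.pCore_quotient_pCore, mem_bot] at h1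
      exact ne_one_of_involution hα h1
    have hβ : orderOf (g * α * g⁻¹) = 2 := by rw [orderOf_conj_eq, hα]
    set z := α * (g * α * g⁻¹) with hz
    obtain ⟨p, hp, hp2, hpz⟩ : ∃ p : ℕ, p.Prime ∧ p ≠ 2 ∧ p ∣ orderOf z := by
      by_contra hcon
      push Not at hcon
      exact hg (isPGroup_two_closure_pair hα hβ (k := (orderOf z).primeFactorsList.length)
        (Nat.eq_prime_pow_of_unique_prime_dvd (orderOf_pos z).ne' fun {d} hd hdz =>
          by_contra fun h2 => hcon d hd h2 hdz))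
    exact ⟨z ^ (orderOf z / p), p, hp, hp2, orderOf_pow_orderOf_div (orderOf_pos z).ne' hpz,
      inverts_pow (left_inverts_prod hα hβ) _⟩
  haveI : Fact p.Prime := ⟨hp⟩
  -- its Sylow subgroup in the preimage
  set L := (zpowers η).comap π with hL
  have hOL : O ≤ L := fun o ho => by
    rw [hL, mem_comap, show π o = 1 from (QuotientGroup.eq_one_iff o).2 ho]
    exact one_mem _
  have hcL : Nat.card ↥L = p * Nat.card ↥O := by
    rw [← (O.subgroupOf L).card_mul_index, mul_comm]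
    congr 1
    · show O.relIndex L = _
      conv_lhs => rw [← QuotientGroup.ker_mk' O]
      rw [Subgroup.relIndex_ker, hL, map_comap_eq_self_of_surjective (QuotientGroup.mk'_surjective _),
        Nat.card_zpowers, hη]
    · exact Nat.card_congr (subgroupOfEquivOfLe hOL).toEquiv
  have hO2 : IsPGroup 2 O := CfsgLib.PCore.pCore_isPGroup
  obtain ⟨Q⟩ : Nonempty (Sylow p ↥L) := inferInstance
  have hQ : Nat.card Q = p := by
    obtain ⟨k, hk⟩ := hO2.exists_card_eq
    rw [Q.card_eq_multiplicity, hcL, hk, Nat.factorization_mul hp.ne_zero (by positivity),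
      Finsupp.add_apply, hp.factorization_self, Nat.factorization_eq_zero_of_not_dvd, add_zero,
      pow_one]
    intro h
    exact hp2 ((Nat.prime_dvd_prime_iff_eq hp Nat.prime_two).1 (hp.dvd_of_dvd_pow h))
  set R := (Q : Subgroup ↥L).map L.subtype with hR
  have hRc : Nat.card ↥R = p := by rw [hR, card_map_of_injective L.subtype_injective]; exact hQ
  obtain ⟨a, ha⟩ := QuotientGroup.mk_surjective α
  -- `a` normalises `L`
  have hLn : ∀ l : G, l ∈ L → a * l * a⁻¹ ∈ L := by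
    intro l hl
    rw [hL, mem_comap] at hl ⊢
    obtain ⟨i, hi⟩ := hl
    have hi' : π l = η ^ i := hi.symm
    rw [map_mul, map_mul, map_inv, hi', show π a = α from ha, inverts_zpow hinvη]
    exact inv_mem (zpow_mem (mem_zpowers η) _)
  have hLn' : ∀ l : G, a * l * a⁻¹ ∈ L → l ∈ L := by
    intro l hl
    have h1 := hLn _ hl
    have e : π (a * (a * l * a⁻¹) * a⁻¹) = π l := by
      simp only [map_mul, map_inv, show π a = α from ha]
      calc α * (α * π l * α⁻¹) * α⁻¹ = α * α * π l * (α * α)⁻¹ := by group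
        _ = π l := by rw [mul_self_eq_one hα, one_mul, inv_one, mul_one]
    rw [hL, mem_comap] at h1 ⊢
    rwa [e] at h1
  let φ : ↥L ≃* ↥L :=
    { toFun := fun l => ⟨a * l * a⁻¹, hLn l l.2⟩
      invFun := fun l => ⟨a⁻¹ * l * a, hLn' _ (by simpa [mul_assoc] using l.2)⟩
      left_inv := fun l => by apply Subtype.ext; simp [mul_assoc]
      right_inv := fun l => by apply Subtype.ext; simp [mul_assoc]
      map_mul' := fun l m => by apply Subtype.ext; simp [mul_assoc] }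
  obtain ⟨l, hl⟩ := MulAction.exists_smul_eq ↥L (Q.mapSurjective (show Function.Surjective φ.toMonoidHom from φ.surjective)) Q
  set w := (l : G) * a with hw
  have hwR : ∀ r ∈ R, w * r * w⁻¹ ∈ R := by
    rintro _ ⟨r, hr, rfl⟩
    have h1 : φ r ∈ ((Q.mapSurjective (show Function.Surjective φ.toMonoidHom from φ.surjective) : Sylow p ↥L) : Subgroup ↥L) := by
      rw [Sylow.coe_mapSurjective]
      exact mem_map_of_mem _ hr
    have h2 : l * φ r * l⁻¹ ∈ (Q : Subgroup ↥L) := by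
      rw [← hl, Sylow.coe_subgroup_smul, Subgroup.mem_pointwise_smul_iff_inv_smul_mem]
      simpa [mul_assoc] using h1
    refine ⟨_, h2, ?_⟩
    show (l : G) * (a * r * a⁻¹) * (l : G)⁻¹ = w * r * w⁻¹
    rw [hw]; group
  obtain ⟨i, hi⟩ := (mem_comap.1 l.2 : π (l : G) ∈ zpowers η)
  have hπw : orderOf (π w) = 2 := by
    rw [map_mul, ← hi, show π a = α from ha, orderOf_eq_two_iff_mul]
    have e := inverts_zpow hinvη i
    refine ⟨fun e1 => ?_, ?_⟩
    · have hodd : Odd (orderOf (η ^ i)) :=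
        (hη ▸ hp.odd_of_ne_two hp2 : Odd (orderOf η)).of_dvd_nat
          (Nat.dvd_of_mod_eq_zero (Nat.mod_eq_zero_of_dvd (orderOf_dvd_of_mem_zpowers (zpow_mem_zpowers η i))))
      rw [mul_eq_one_iff_eq_inv, inv_eq_self_of_involution hα] at e1
      rw [show η ^ i = α from e1, hα] at hodd
      exact absurd hodd (by decide)
    · calc η ^ i * α * (η ^ i * α) = η ^ i * (α * η ^ i * α⁻¹) * (α * α) := by group
        _ = 1 := by rw [e, mul_self_eq_one hα, mul_inv_cancel, one_mul]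
  -- the 2-part of `w` and its involution
  obtain ⟨k, m, hm, hkm⟩ := Nat.exists_eq_two_pow_mul_odd (orderOf_pos w).ne'
  have hw'2 : IsTwo (w ^ m) := ⟨k, by rw [← pow_mul, mul_comm, ← hkm, pow_orderOf_eq_one]⟩
  have hπw' : π (w ^ m) = π w := by
    obtain ⟨c, rfl⟩ := hm
    rw [map_pow, pow_succ, pow_mul, pow_two, mul_self_eq_one hπw, one_pow, one_mul]
  have hw'1 : w ^ m ≠ 1 := fun e => by
    rw [e, map_one] at hπw'
    exact ne_one_of_involution hπw hπw'.symm
  obtain ⟨t, htw, ht⟩ := exists_involution_zpowers hw'2 hw'1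
  have htN : t ∈ normalizer (R : Set G) := by
    refine zpowers_le.2 (pow_mem ?_ m) htw
    rw [mem_normalizer_iff]
    have hsub : R.map (MulAut.conj w).toMonoidHom = R := by
      refine eq_of_le_of_card_ge ?_ ?_
      · rintro _ ⟨r, hr, rfl⟩
        exact hwR r hr
      · rw [card_map_of_injective (K := R) (MulAut.conj w).injective]
    intro r
    refine ⟨hwR r, fun hr => ?_⟩
    rw [← hsub] at hr
    obtain ⟨r', hr', e⟩ := hr
    have e' : w * r' * w⁻¹ = w * r * w⁻¹ := e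
    rwa [← mul_left_cancel (mul_right_cancel e')]
  obtain ⟨y, hy, hy1⟩ := (bot_or_exists_ne_one R).resolve_left fun e => hp.ne_one (by
    rw [← hRc, e, card_bot])
  have hyo : Odd (orderOf y) := (hp.odd_of_ne_two hp2).of_dvd_nat (hRc ▸ R.orderOf_dvd_natCard hy)
  refine hy1 (hG.eq_one_of_commute (IsTwo.of_orderOf_two ht) (ne_one_of_involution ht) hyo ?_)
  have h1 : y * t * y⁻¹ * t⁻¹ ∈ R := by
    rw [show y * t * y⁻¹ * t⁻¹ = y * (t * y⁻¹ * t⁻¹) by group]
    exact mul_mem hy ((mem_normalizer_iff.1 htN _).1 (inv_mem hy))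
  have h2 : y * t * y⁻¹ * t⁻¹ ∈ O :=
    mul_mem (Normal.conj_mem inferInstance _ (hinv t ht) y) (inv_mem (hinv t ht))
  have h3 := eq_one_of_isTwo_of_odd (isTwo_of_mem hO2 h2)
    ((hp.odd_of_ne_two hp2).of_dvd_nat (hRc ▸ R.orderOf_dvd_natCard h1))
  exact mul_inv_eq_iff_eq_mul.1 (mul_inv_eq_one.1 h3)

/-- The Frobenius-type data of a strongly embedded subgroup with a normal 2-subgroup. -/
theorem hyp_of_stronglyEmbedded (hG : IsCIT G) {M D : Subgroup G} (hse : Cfsg.IsStronglyEmbedded M)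
    (hD2 : IsPGroup 2 D) (hD1 : D ≠ ⊥) (hDM : D ≤ M) (hMD : M ≤ normalizer (D : Set G))
    (hmany : ∃ s t : G, s ∈ M ∧ t ∈ M ∧ orderOf s = 2 ∧ orderOf t = 2 ∧ s ≠ t) :
    ∃ H : Subgroup G, TI.Hyp M H ∧ IsPGroup 2 H ∧ ∀ x ∈ M, IsTwo x → x ∈ H := by
  haveI : Fact (Nat.Prime 2) := ⟨Nat.prime_two⟩
  obtain ⟨z, hzD, hz⟩ : ∃ z ∈ D, orderOf z = 2 := by
    obtain ⟨x, hx, hx1⟩ := (bot_or_exists_ne_one D).resolve_left hD1
    obtain ⟨t, ht, ht2⟩ := exists_involution_zpowers (isTwo_of_mem hD2 hx) hx1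
    exact ⟨t, zpowers_le.2 hx ht, ht2⟩
  have hall : ∀ t ∈ M, orderOf t = 2 → t ∈ D := by
    intro t htM ht
    obtain ⟨g, hg⟩ := isConj_iff.1 (isConj_involutions hse hz ht)
    have hgM : g ∈ M := se_mem_of_conj_mem hse htM ht (by
      rw [← hg]; simpa [mul_assoc] using hDM hzD)
    rw [← hg]
    exact (mem_normalizer_iff.1 (hMD hgM) z).1 hzD
  have hDn : (D.subgroupOf M).Normal := ⟨fun n hn g => (mem_normalizer_iff.1 (hMD g.2) n).1 hn⟩
  have hDO : D.subgroupOf M ≤ Cfsg.pCore 2 ↥M :=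
    CfsgLib.PCore.le_pCore hDn (hD2.comap_of_injective M.subtype M.subtype_injective)
  obtain ⟨P⟩ : Nonempty (Sylow 2 ↥M) := inferInstance
  have hP := (hG.subgroup M).sylow_eq_pCore (fun t ht => hDO (hall t t.2
    (by rwa [Subgroup.orderOf_coe]))) P
  set H := (P : Subgroup ↥M).map M.subtype with hH
  have hH2 : IsPGroup 2 H := P.isPGroup'.map M.subtype
  have hHM : H ≤ M := map_subtype_le _
  have htwo : ∀ x ∈ M, IsTwo x → x ∈ H := by
    intro x hx ⟨k, hk⟩
    obtain ⟨Q, hQ⟩ := IsPGroup.exists_le_sylow (p := 2) (P := zpowers (⟨x, hx⟩ : ↥M)) (by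
      obtain ⟨j, -, hj⟩ := (Nat.dvd_prime_pow Nat.prime_two).1 (orderOf_dvd_of_pow_eq_one hk)
      refine IsPGroup.of_card (n := j) ?_
      rw [Nat.card_zpowers, ← Subgroup.orderOf_coe, hj])
    have h1 : (⟨x, hx⟩ : ↥M) ∈ (P : Subgroup ↥M) := by
      rw [hP, ← (hG.subgroup M).sylow_eq_pCore (fun t ht => hDO (hall t t.2
        (by rwa [Subgroup.orderOf_coe]))) Q]
      exact hQ (mem_zpowers _)
    exact ⟨_, h1, rfl⟩
  refine ⟨H, ⟨hse, hHM, ?_, hH2.isNilpotent, fun x hx hx2 => htwo x hx (.of_orderOf_two hx2),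
    ?_, ?_, hmany⟩, hH2, htwo⟩
  · intro g hg
    haveI hPn : (P : Subgroup ↥M).Normal := hP ▸ inferInstance
    rw [mem_normalizer_iff]
    intro x
    constructor
    · rintro ⟨y, hy, rfl⟩
      exact ⟨_, hPn.conj_mem y hy ⟨g, hg⟩, rfl⟩
    · rintro ⟨y, hy, e⟩
      refine ⟨_, hPn.conj_mem y hy ⟨g, hg⟩⁻¹, ?_⟩
      show g⁻¹ * (y : G) * g⁻¹⁻¹ = x
      rw [show (y : G) = g * x * g⁻¹ from e]; group
  · intro g x hx hx1 hgx
    obtain ⟨t, htx, ht⟩ := exists_involution_zpowers (isTwo_of_mem hH2 hx) hx1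
    refine se_mem_of_conj_mem hse (zpowers_le.2 (hHM hx) htx) ht ?_
    obtain ⟨i, rfl⟩ := htx
    show g⁻¹ * x ^ i * g ∈ M
    rw [show g⁻¹ * x ^ i * g = (g⁻¹ * x * g) ^ i by simpa using (conj_zpow (a := g⁻¹) (b := x) (i := i)).symm]
    exact zpow_mem (hHM hgx) _
  · intro x hx hx1 c hc
    obtain ⟨t, htx, ht⟩ := exists_involution_zpowers (isTwo_of_mem hH2 hx) hx1
    refine htwo c (se_centralizer_le hse (zpowers_le.2 (hHM hx) htx) ht ?_)
      (isTwo_of_mem (hG.centralizer_two (isTwo_of_mem hH2 hx) hx1)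
        (mem_centralizer_singleton_iff.2 hc.eq))
    obtain ⟨i, rfl⟩ := htx
    exact mem_centralizer_singleton_iff.2 (hc.zpow_right i).eq

end CfsgLib.CIT
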