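import Mathlib
import Cfsg.Prelude.Def_Solvable
import Cfsg.Agent.Lib.CIT.Basic
import Cfsg.Agent.Lib.PCore.Basic
import Cfsg.Agent.Lib.Involutions.BaerSuzuki
import Cfsg.Agent.Lib.PSL2.Borel
import Cfsg.Agent.Lib.PSL2.Basic

/-!
# The module `Ω₁(Z(O₂(G)))` of a group whose involution centralizers are 2-groups

An element outside `O₂(G)` squaring into it fixes exactly the square root of the module, subgroups of odd
order of the quotient act semiregularly, and cyclic 2-groups acting with small codimension are involutions.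
-/

set_option autoImplicit false
set_option linter.style.haveILetI false

namespace CfsgLib.CIT

open Subgroup

universe u

variable {G : Type u} [Group G]

/-- The elements of order at most 2 of the centre of `O₂(G)`. -/
def vSub (G : Type u) [Group G] : Subgroup G where
  carrier := {x | x ∈ Cfsg.pCore 2 G ∧ x ∈ centralizer (Cfsg.pCore 2 G : Set G) ∧ x * x = 1}
  one_mem' := ⟨one_mem _, one_mem _, one_mul 1⟩
  mul_mem' := by
    rintro x y ⟨hx, hxc, hx2⟩ ⟨hy, hyc, hy2⟩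
    refine ⟨mul_mem hx hy, mul_mem hxc hyc, ?_⟩
    have h := mem_centralizer_iff.1 hxc y hy
    calc x * y * (x * y) = x * (y * x) * y := by group
      _ = x * x * (y * y) := by rw [h]; group
      _ = 1 := by rw [hx2, hy2, one_mul]
  inv_mem' := by
    rintro x ⟨hx, hxc, hx2⟩
    exact ⟨inv_mem hx, inv_mem hxc, by rw [← mul_inv_rev, hx2, inv_one]⟩

theorem mem_vSub {x : G} : x ∈ vSub G ↔
    x ∈ Cfsg.pCore 2 G ∧ x ∈ centralizer (Cfsg.pCore 2 G : Set G) ∧ x * x = 1 := Iff.rfl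

theorem vSub_le : vSub G ≤ Cfsg.pCore 2 G := fun _ hx => hx.1

theorem vSub_sq {x : G} (hx : x ∈ vSub G) : x * x = 1 := hx.2.2

theorem vSub_inv {x : G} (hx : x ∈ vSub G) : x⁻¹ = x :=
  inv_eq_of_mul_eq_one_right (vSub_sq hx)

theorem vSub_comm {x d : G} (hx : x ∈ vSub G) (hd : d ∈ Cfsg.pCore 2 G) : Commute x d :=
  (mem_centralizer_iff.1 hx.2.1 d hd).symm

variable [Finite G]

instance pCore_two_normal : (Cfsg.pCore 2 G).Normal := inferInstance

omit [Finite G] in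
theorem vSub_normal : (vSub G).Normal := by
  constructor
  rintro x ⟨hx, hxc, hx2⟩ g
  refine ⟨Normal.conj_mem inferInstance x hx g, Normal.conj_mem inferInstance x hxc g, ?_⟩
  calc g * x * g⁻¹ * (g * x * g⁻¹) = g * (x * x) * g⁻¹ := by group
    _ = 1 := by rw [hx2]; group

theorem conj_mem_vSub {x : G} (g : G) (hx : x ∈ vSub G) : g * x * g⁻¹ ∈ vSub G :=
  vSub_normal.conj_mem x hx g

theorem vSub_isPGroup : IsPGroup 2 (vSub G) :=
  haveI : Fact (Nat.Prime 2) := ⟨Nat.prime_two⟩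
  CfsgLib.PCore.pCore_isPGroup.to_le vSub_le

theorem vSub_ne_bot (hD : Cfsg.pCore 2 G ≠ ⊥) : vSub G ≠ ⊥ := by
  haveI : Fact (Nat.Prime 2) := ⟨Nat.prime_two⟩
  haveI : Nontrivial ↥(Cfsg.pCore 2 G) := (Subgroup.nontrivial_iff_ne_bot _).2 hD
  have hP : IsPGroup 2 ↥(Cfsg.pCore 2 G) := CfsgLib.PCore.pCore_isPGroup
  haveI := hP.center_nontrivial
  obtain ⟨z, hz1⟩ := exists_ne (1 : Subgroup.center ↥(Cfsg.pCore 2 G))
  have hz2 : IsTwo ((z.1 : ↥(Cfsg.pCore 2 G)) : G) := isTwo_of_mem hP z.1.2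
  obtain ⟨t, htz, ht⟩ := exists_involution_zpowers hz2
    (fun e => hz1 (Subtype.ext (Subtype.ext e)))
  obtain ⟨k, rfl⟩ := htz
  intro e
  have h1 : ((z.1 : ↥(Cfsg.pCore 2 G)) : G) ^ k ∈ vSub G := by
    refine ⟨zpow_mem z.1.2 _, zpow_mem (mem_centralizer_iff.2 fun d hd => ?_) _,
      Involutions.mul_self_eq_one ht⟩
    exact congrArg Subtype.val (Subgroup.mem_center_iff.1 z.2 ⟨d, hd⟩)
  rw [e, mem_bot] at h1
  exact Involutions.ne_one_of_involution ht h1

/-- The module is self-centralizing modulo `O₂(G)`. -/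
theorem centralizer_vSub (hG : IsCIT G) (hD : Cfsg.pCore 2 G ≠ ⊥) :
    centralizer (vSub G : Set G) = Cfsg.pCore 2 G := by
  haveI : Fact (Nat.Prime 2) := ⟨Nat.prime_two⟩
  haveI := vSub_normal (G := G)
  refine le_antisymm (CfsgLib.PCore.le_pCore inferInstance
    (hG.centralizer_isPGroup vSub_isPGroup (vSub_ne_bot hD))) fun d hd => ?_
  exact mem_centralizer_iff.2 fun x hx => vSub_comm hx hd

theorem one_lt_card_vSub (hD : Cfsg.pCore 2 G ≠ ⊥) : 1 < Nat.card (vSub G) := by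
  haveI : Nontrivial ↥(vSub G) := (Subgroup.nontrivial_iff_ne_bot _).2 (vSub_ne_bot hD)
  exact Finite.one_lt_card

/-- The fixed points of `a` in the module. -/
def fixV (a : G) : Subgroup G := vSub G ⊓ centralizer ({a} : Set G)

omit [Finite G] in
theorem mem_fixV {a x : G} : x ∈ fixV a ↔ x ∈ vSub G ∧ Commute x a := by
  rw [fixV, mem_inf, mem_centralizer_singleton_iff]
  exact Iff.rfl

/-- The endomorphism `x ↦ x ⬝ s x s⁻¹` of the module. -/
def phiV (s : G) : ↥(vSub G) →* ↥(vSub G) where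
  toFun x := ⟨x * (s * x * s⁻¹), mul_mem x.2 (conj_mem_vSub s x.2)⟩
  map_one' := by apply Subtype.ext; simp
  map_mul' x y := by
    apply Subtype.ext
    have h : Commute (y : G) (s * x * s⁻¹) :=
      vSub_comm y.2 (vSub_le (conj_mem_vSub s x.2))
    show (x : G) * y * (s * (x * y) * s⁻¹) = x * (s * x * s⁻¹) * (y * (s * y * s⁻¹))
    calc (x : G) * y * (s * (x * y) * s⁻¹) = x * (y * (s * x * s⁻¹)) * (s * y * s⁻¹) := by group
      _ = _ := by rw [h.eq]; group

theorem phiV_val (s : G) (x : ↥(vSub G)) : (phiV s x : G) = x * (s * x * s⁻¹) := rfl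

theorem phiV_eq_one_iff (s : G) (x : ↥(vSub G)) : phiV s x = 1 ↔ Commute (x : G) s := by
  rw [Subtype.ext_iff, phiV_val, OneMemClass.coe_one, mul_eq_one_iff_eq_inv', vSub_inv x.2,
    mul_inv_eq_iff_eq_mul]
  exact ⟨fun h => h.symm, fun h => h.eq.symm⟩

theorem card_ker_phiV (s : G) : Nat.card (phiV s).ker = Nat.card (fixV s) := by
  refine Nat.card_congr ⟨fun x => ⟨x.1.1, mem_fixV.2 ⟨x.1.2, (phiV_eq_one_iff s x.1).1 x.2⟩⟩,
    fun x => ⟨⟨x.1, (mem_fixV.1 x.2).1⟩, (phiV_eq_one_iff s _).2 (mem_fixV.1 x.2).2⟩,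
    fun x => rfl, fun x => rfl⟩

theorem phiV_phiV (s : G) (x : ↥(vSub G)) :
    (phiV s (phiV s x) : G) = x * (s * s * x * (s * s)⁻¹) := by
  rw [phiV_val, phiV_val]
  have h2 : s * (x : G) * s⁻¹ * (s * x * s⁻¹) = 1 := vSub_sq (conj_mem_vSub s x.2)
  calc (x : G) * (s * x * s⁻¹) * (s * (x * (s * x * s⁻¹)) * s⁻¹)
      = x * (s * x * s⁻¹ * (s * x * s⁻¹)) * (s * s * x * (s * s)⁻¹) := by group
    _ = _ := by rw [h2, mul_one]

theorem card_vSub_le_sq (hG : IsCIT G) (hD : Cfsg.pCore 2 G ≠ ⊥) {a : G}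
    (ha : a * a ∈ Cfsg.pCore 2 G) : Nat.card (vSub G) ≤ Nat.card (fixV a) * Nat.card (fixV a) := by
  have hr : (phiV a).range ≤ (phiV a).ker := by
    rintro _ ⟨x, rfl⟩
    rw [MonoidHom.mem_ker, Subtype.ext_iff, phiV_phiV, ← (vSub_comm x.2 ha).eq,
      mul_inv_cancel_right, vSub_sq x.2]
    rfl
  have h1 := Subgroup.card_eq_card_quotient_mul_card_subgroup (phiV a).ker
  rw [Nat.card_congr (QuotientGroup.quotientKerEquivRange (phiV a)).toEquiv] at h1
  rw [h1, ← card_ker_phiV]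
  exact Nat.mul_le_mul_right _ (Subgroup.card_le_of_le hr)

/-- An element outside `O₂(G)` fixes at most the square root of the module (Baer–Suzuki). -/
theorem sq_le_card_vSub (hG : IsCIT G) (hD : Cfsg.pCore 2 G ≠ ⊥) {a : G} (ha : a ∉ Cfsg.pCore 2 G) :
    Nat.card (fixV a) * Nat.card (fixV a) ≤ Nat.card (vSub G) := by
  haveI : Fact (Nat.Prime 2) := ⟨Nat.prime_two⟩
  set π := QuotientGroup.mk' (Cfsg.pCore 2 G)
  obtain ⟨g, hg⟩ : ∃ g : G, ¬ IsPGroup 2 ↥(closure ({a, g * a * g⁻¹} : Set G)) := by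
    by_contra hcon
    push Not at hcon
    obtain ⟨N, hN, hN2, haN⟩ := CfsgLib.Involutions.exists_normal_isPGroup_of_mem hcon
    exact ha (CfsgLib.PCore.le_pCore hN hN2 haN)
  obtain ⟨y, hy, p, hp, hp2, hyp⟩ := exists_odd_prime_order hg
  have hyo : Odd (orderOf y) := hyp ▸ hp.odd_of_ne_two hp2
  have hy1 : y ≠ 1 := fun e => hp.ne_one (by rw [← hyp, e, orderOf_one])
  have key : ∀ v ∈ fixV a, v ∈ fixV (g * a * g⁻¹) → v = 1 := by
    intro v hv hv'
    by_contra hv1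
    have hle : closure ({a, g * a * g⁻¹} : Set G) ≤ centralizer ({v} : Set G) := by
      rw [closure_le]
      rintro w (rfl | rfl)
      · exact mem_centralizer_singleton_iff.2 (mem_fixV.1 hv).2.eq.symm
      · exact mem_centralizer_singleton_iff.2 (mem_fixV.1 hv').2.eq.symm
    exact hy1 (hG.eq_one_of_commute (isTwo_of_mem vSub_isPGroup (mem_fixV.1 hv).1) hv1 hyo
      (mem_centralizer_singleton_iff.1 (hle hy)))
  have hcard : Nat.card (fixV (g * a * g⁻¹)) = Nat.card (fixV a) := by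
    refine Nat.card_congr ⟨fun x => ⟨g⁻¹ * x * g, ?_⟩, fun x => ⟨g * x * g⁻¹, ?_⟩, fun x => ?_,
      fun x => ?_⟩
    · obtain ⟨h1, h2⟩ := mem_fixV.1 x.2
      refine mem_fixV.2 ⟨by simpa using conj_mem_vSub g⁻¹ h1, ?_⟩
      show g⁻¹ * x * g * a = a * (g⁻¹ * x * g)
      calc g⁻¹ * x * g * a = g⁻¹ * (x * (g * a * g⁻¹)) * g := by group
        _ = g⁻¹ * (g * a * g⁻¹ * x) * g := by rw [h2.eq]
        _ = _ := by group
    · obtain ⟨h1, h2⟩ := mem_fixV.1 x.2
      refine mem_fixV.2 ⟨conj_mem_vSub g h1, ?_⟩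
      show g * x * g⁻¹ * (g * a * g⁻¹) = g * a * g⁻¹ * (g * x * g⁻¹)
      calc g * x * g⁻¹ * (g * a * g⁻¹) = g * (x * a) * g⁻¹ := by group
        _ = _ := by rw [h2.eq]; group
    · exact Subtype.ext (by simp [mul_assoc])
    · exact Subtype.ext (by simp [mul_assoc])
  calc Nat.card (fixV a) * Nat.card (fixV a)
      = Nat.card (fixV a) * Nat.card (fixV (g * a * g⁻¹)) := by rw [hcard]
    _ = Nat.card (↥(fixV a) × ↥(fixV (g * a * g⁻¹))) := (Nat.card_prod _ _).symm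
    _ ≤ _ := Nat.card_le_card_of_injective
        (fun p => (⟨p.1 * p.2, mul_mem (mem_fixV.1 p.1.2).1 (mem_fixV.1 p.2.2).1⟩ : ↥(vSub G)))
        (fun p q e => by
          have e' : (p.1 : G) * p.2 = q.1 * q.2 := congrArg Subtype.val e
          have h1 : (q.1 : G)⁻¹ * p.1 = q.2 * (p.2 : G)⁻¹ := by
            calc (q.1 : G)⁻¹ * p.1 = (q.1 : G)⁻¹ * (p.1 * p.2) * (p.2 : G)⁻¹ := by group
              _ = _ := by rw [e']; group
          have h2 := key _ (mul_mem (inv_mem q.1.2) p.1.2) (h1 ▸ mul_mem q.2.2 (inv_mem p.2.2))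
          rw [h2] at h1
          exact Prod.ext (Subtype.ext (inv_mul_eq_one.1 h2).symm)
            (Subtype.ext (mul_inv_eq_one.1 h1.symm).symm))

theorem sq_card_fixV (hG : IsCIT G) (hD : Cfsg.pCore 2 G ≠ ⊥) {a : G} (ha : a ∉ Cfsg.pCore 2 G)
    (ha2 : a * a ∈ Cfsg.pCore 2 G) : Nat.card (fixV a) * Nat.card (fixV a) = Nat.card (vSub G) :=
  le_antisymm (sq_le_card_vSub hG hD ha) (card_vSub_le_sq hG hD ha2)

/-- Subgroups of odd order of `G / O₂(G)` act semiregularly on the nontrivial elements of the module. -/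
theorem odd_card_dvd (hG : IsCIT G) (hD : Cfsg.pCore 2 G ≠ ⊥)
    (K : Subgroup (G ⧸ Cfsg.pCore 2 G)) (hK : Odd (Nat.card K)) :
    Nat.card K ∣ Nat.card (vSub G) - 1 := by
  classical
  set L := K.comap (QuotientGroup.mk' (Cfsg.pCore 2 G)) with hL
  set X := {x : ↥(vSub G) // x ≠ 1}
  letI : MulAction ↥L X :=
    { smul := fun l x => ⟨⟨l * x.1.1 * (l : G)⁻¹, conj_mem_vSub _ x.1.2⟩, fun e => x.2 (Subtype.ext
        (conj_eq_one_iff.1 (congrArg Subtype.val e)))⟩
      one_smul := fun x => Subtype.ext (Subtype.ext (by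
        show (1 : G) * x.1.1 * (1 : G)⁻¹ = x.1.1; group))
      mul_smul := fun l m x => Subtype.ext (Subtype.ext (by
        show ((l : G) * m) * x.1.1 * ((l : G) * m)⁻¹ = l * (m * x.1.1 * (m : G)⁻¹) * (l : G)⁻¹; group)) }
  have hst : ∀ x : X, MulAction.stabilizer ↥L x = (Cfsg.pCore 2 G).subgroupOf L := by
    intro x
    ext l
    rw [MulAction.mem_stabilizer_iff, mem_subgroupOf]
    constructor
    · intro h
      have h' : (l : G) * x.1.1 * (l : G)⁻¹ = x.1.1 := congrArg (fun z : X => z.1.1) h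
      have hl : IsTwo (l : G) := isTwo_of_mem
        (hG.centralizer_two (isTwo_of_mem vSub_isPGroup x.1.2) (fun e => x.2 (Subtype.ext e)))
        (mem_centralizer_singleton_iff.2 (mul_inv_eq_iff_eq_mul.1 h'))
      rw [← QuotientGroup.eq_one_iff]
      refine eq_one_of_isTwo_of_odd ?_ ?_
      · obtain ⟨k, hk⟩ := hl
        exact ⟨k, by rw [← QuotientGroup.mk_pow, hk]; rfl⟩
      · exact hK.of_dvd_nat (K.orderOf_dvd_natCard l.2)
    · intro h
      refine Subtype.ext (Subtype.ext ?_)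
      show (l : G) * x.1.1 * (l : G)⁻¹ = x.1.1
      rw [← (vSub_comm x.1.2 h).eq, mul_inv_cancel_right]
  have hidx : ((Cfsg.pCore 2 G).subgroupOf L).index = Nat.card K := by
    show (Cfsg.pCore 2 G).relIndex L = _
    conv_lhs => rw [← QuotientGroup.ker_mk' (Cfsg.pCore 2 G)]
    rw [Subgroup.relIndex_ker, hL,
      map_comap_eq_self_of_surjective (QuotientGroup.mk'_surjective _)]
  have hX : Nat.card X = Nat.card (vSub G) - 1 := by
    haveI := Fintype.ofFinite ↥(vSub G)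
    rw [Nat.card_eq_fintype_card, Nat.card_eq_fintype_card, Fintype.card_subtype_compl,
      Fintype.card_subtype_eq]
  haveI : Fintype (MulAction.orbitRel.Quotient ↥L X) := Fintype.ofFinite _
  rw [← hX, Nat.card_congr (MulAction.selfEquivSigmaOrbits ↥L X), Nat.card_sigma]
  refine Finset.dvd_sum fun ω _ => ?_
  rw [Nat.card_coe_set_eq, ← MulAction.index_stabilizer, hst, hidx]

theorem dvd_of_odd (hG : IsCIT G) (hD : Cfsg.pCore 2 G ≠ ⊥) {m : ℕ} (hm : Odd m)
    (hdvd : m ∣ Nat.card (G ⧸ Cfsg.pCore 2 G)) : m ∣ Nat.card (vSub G) - 1 := by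
  refine (Nat.dvd_iff_prime_pow_dvd_dvd _ _).2 fun p k hp hpk => ?_
  haveI : Fact p.Prime := ⟨hp⟩
  obtain ⟨K, hK⟩ := Sylow.exists_subgroup_card_pow_prime p (hpk.trans hdvd)
  rw [← hK]
  exact odd_card_dvd hG hD K (hK ▸ hm.of_dvd_nat hpk)

/-- The iterated kernels of `phiV s`. -/
def kerV (s : G) : ℕ → Subgroup ↥(vSub G)
  | 0 => ⊥
  | i + 1 => (kerV s i).comap (phiV s)

theorem mem_kerV (s : G) : ∀ (i : ℕ) (x : ↥(vSub G)), x ∈ kerV s i ↔ (phiV s)^[i] x = 1
  | 0, x => by simp [kerV]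
  | i + 1, x => by rw [kerV, mem_comap, mem_kerV s i, Function.iterate_succ_apply]

theorem kerV_mono (s : G) : ∀ i : ℕ, kerV s i ≤ kerV s (i + 1)
  | 0 => bot_le
  | i + 1 => comap_mono (kerV_mono s i)

theorem iterate_phiV (s : G) : ∀ (j : ℕ) (x : ↥(vSub G)),
    (((phiV s)^[2 ^ j] x : ↥(vSub G)) : G) = (phiV (s ^ 2 ^ j) x : G)
  | 0, x => by simp [phiV_val]
  | j + 1, x => by
    rw [pow_succ 2 j, mul_two, Function.iterate_add_apply, iterate_phiV s j,
      show (phiV s)^[2 ^ j] x = phiV (s ^ 2 ^ j) x from Subtype.ext (iterate_phiV s j x),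
      phiV_phiV, phiV_val, pow_add]

theorem kerV_two_pow (s : G) (j : ℕ) : kerV s (2 ^ j) = (phiV (s ^ 2 ^ j)).ker := by
  ext x
  rw [mem_kerV, MonoidHom.mem_ker, Subtype.ext_iff, Subtype.ext_iff, iterate_phiV]

/-- The numerical data of a cyclic 2-group `⟨s⟩` of order `2 ^ (c + 1)` modulo `O₂(G)` acting on the
module: the fixed points of the involution are much bigger than those of `s`, unless `c = 0`. -/
theorem kerV_bound (hG : IsCIT G) (hD : Cfsg.pCore 2 G ≠ ⊥) {s : G} {c : ℕ}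
    (hs : s ^ 2 ^ (c + 1) ∈ Cfsg.pCore 2 G) (hs' : s ^ 2 ^ c ∉ Cfsg.pCore 2 G) :
    2 ^ (2 ^ c - 1) * Nat.card (fixV s) ≤ Nat.card (fixV (s ^ 2 ^ c)) ∧
      2 ≤ Nat.card (fixV s) := by
  have htop : kerV s (2 ^ (c + 1)) = ⊤ := by
    rw [eq_top_iff, kerV_two_pow]
    intro x _
    exact (phiV_eq_one_iff _ x).2 (vSub_comm x.2 hs)
  have hne : ∀ i, i ≤ 2 ^ c → kerV s i ≠ ⊤ := by
    intro i hi e
    have h1 : kerV s (2 ^ c) = ⊤ := top_le_iff.1 (e ▸ monotone_nat_of_le_succ (kerV_mono s) hi)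
    apply hs'
    rw [← centralizer_vSub hG hD, mem_centralizer_iff]
    intro x hx
    exact ((phiV_eq_one_iff _ ⟨x, hx⟩).1 (MonoidHom.mem_ker.1 (kerV_two_pow s c ▸ h1 ▸ mem_top _))).eq
  have hlt : ∀ i, i < 2 ^ c → kerV s i < kerV s (i + 1) := by
    intro i hi
    refine lt_of_le_of_ne (kerV_mono s i) fun e => hne i hi.le ?_
    have hst : ∀ k, kerV s (i + k) = kerV s i := by
      intro k
      induction k with
      | zero => rfl
      | succ k ih =>
        show (kerV s (i + k)).comap (phiV s) = _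
        rw [ih]
        exact e.symm
    rw [← hst (2 ^ (c + 1) - i), Nat.add_sub_cancel' (le_trans hi.le
      (Nat.pow_le_pow_right two_pos c.le_succ)), htop]
  have hdouble : ∀ i, i < 2 ^ c → 2 * Nat.card (kerV s i) ≤ Nat.card (kerV s (i + 1)) := by
    intro i hi
    obtain ⟨k, hk⟩ := Subgroup.card_dvd_of_le (hlt i hi).le
    rcases k with _ | _ | k
    · have := Nat.card_pos (α := kerV s (i + 1)); omega
    · exact absurd (Subgroup.eq_of_le_of_card_ge (hlt i hi).le (by omega)) (hlt i hi).ne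
    · rw [hk, mul_comm 2]
      exact Nat.mul_le_mul_left _ (by omega)
  have hgrow : ∀ i, i + 1 ≤ 2 ^ c → 2 ^ i * Nat.card (kerV s 1) ≤ Nat.card (kerV s (i + 1)) := by
    intro i
    induction i with
    | zero => intro _; simp
    | succ i ih =>
      intro hi
      calc 2 ^ (i + 1) * Nat.card (kerV s 1) = 2 * (2 ^ i * Nat.card (kerV s 1)) := by
            rw [pow_succ]; ring
        _ ≤ 2 * Nat.card (kerV s (i + 1)) := Nat.mul_le_mul_left _ (ih (by omega))
        _ ≤ _ := hdouble _ (by omega)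
  have h1 : Nat.card (kerV s 1) = Nat.card (fixV s) := by
    rw [← card_ker_phiV]
    rfl
  refine ⟨?_, ?_⟩
  · have h := hgrow (2 ^ c - 1) (by have := Nat.two_pow_pos c; omega)
    rwa [h1, Nat.sub_add_cancel Nat.one_le_two_pow, kerV_two_pow, card_ker_phiV] at h
  · rw [← h1]
    have h := hdouble 0 (Nat.two_pow_pos c)
    rw [show (0 : ℕ) + 1 = 1 from rfl] at h
    have := Nat.card_pos (α := kerV s 0)
    omega

/-- A cyclic 2-group modulo `O₂(G)` centralising a subgroup of index at most its order is an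
involution. -/
theorem eq_zero_of_card_le (hG : IsCIT G) (hD : Cfsg.pCore 2 G ≠ ⊥) {s : G} {c : ℕ}
    (hs : s ^ 2 ^ (c + 1) ∈ Cfsg.pCore 2 G) (hs' : s ^ 2 ^ c ∉ Cfsg.pCore 2 G)
    (hle : Nat.card (vSub G) ≤ Nat.card (fixV s) * 2 ^ (c + 1)) : c = 0 := by
  obtain ⟨h1, h2⟩ := kerV_bound hG hD hs hs'
  have h3 := sq_card_fixV hG hD hs' (by rwa [← pow_add, ← two_mul, ← pow_succ'])
  set A := Nat.card (fixV s)
  set B := Nat.card (fixV (s ^ 2 ^ c))
  by_contra hc
  have hh : 2 ≤ 2 ^ c := Nat.le_self_pow hc 2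
  -- `B ^ 2 ≤ A 2^(c+1)` and `2^(h-1) A ≤ B` give `2^(2h-1) ≤ 2^(c+1)`
  have h4 : 2 ^ (2 ^ c - 1) * A * (2 ^ (2 ^ c - 1) * A) ≤ A * 2 ^ (c + 1) :=
    (Nat.mul_le_mul h1 h1).trans (h3.le.trans hle)
  have h5 : 2 ^ (2 ^ c - 1 + (2 ^ c - 1)) * A ≤ 2 ^ (c + 1) := by
    refine Nat.le_of_mul_le_mul_left ?_ (show 0 < A by omega)
    calc A * (2 ^ (2 ^ c - 1 + (2 ^ c - 1)) * A) = _ := by rw [pow_add]; ring
      _ ≤ _ := h4
  have h6 : 2 ^ (2 ^ c - 1 + (2 ^ c - 1) + 1) ≤ 2 ^ (c + 1) := by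
    rw [pow_succ]
    exact (Nat.mul_le_mul_left _ h2).trans h5
  have h7 := (Nat.pow_le_pow_iff_right (by norm_num)).1 h6
  have h8 : c + 1 ≤ 2 ^ c := Nat.lt_two_pow_self
  omega

/-- If the module is the square of the fixed points of `s`, then `s` squares into `O₂(G)`. -/
theorem mul_self_mem_of_card_le (hG : IsCIT G) (hD : Cfsg.pCore 2 G ≠ ⊥) {s : G} (hs : IsTwo s)
    (hle : Nat.card (vSub G) ≤ Nat.card (fixV s) * Nat.card (fixV s)) :
    s * s ∈ Cfsg.pCore 2 G := by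
  classical
  have hex : ∃ n, s ^ 2 ^ n ∈ Cfsg.pCore 2 G := by
    obtain ⟨n, hn⟩ := hs
    exact ⟨n, hn ▸ one_mem _⟩
  have hn := Nat.find_spec hex
  rcases hcase : Nat.find hex with _ | _ | c
  · rw [hcase] at hn
    simp only [pow_zero, pow_one] at hn
    exact mul_mem hn hn
  · rw [hcase] at hn
    simpa [pow_two] using hn
  · exfalso
    rw [hcase] at hn
    have hnot := Nat.find_min hex (show c + 1 < Nat.find hex by omega)
    obtain ⟨h1, h2⟩ := kerV_bound hG hD hn hnot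
    have h3 := sq_card_fixV hG hD hnot (by rwa [← pow_add, ← two_mul, ← pow_succ'])
    have hh : 1 ≤ 2 ^ (c + 1) - 1 := by
      have := Nat.le_self_pow (show c + 1 ≠ 0 by omega) 2
      omega
    have h4 : 2 * Nat.card (fixV s) ≤ Nat.card (fixV (s ^ 2 ^ (c + 1))) :=
      (Nat.mul_le_mul_right _ (Nat.le_self_pow (by omega) 2)).trans h1
    have h5 := Nat.mul_le_mul h4 h4
    nlinarith

/-- A group with a module of order 4 whose quotient by `O₂(G)` is not a 2-group is an extension of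
`PSL₂(2)`. -/
theorem exists_psl_two (hG : IsCIT G) (hD : Cfsg.pCore 2 G ≠ ⊥) (hV : Nat.card (vSub G) = 4)
    {a : G} (ha : a ∉ Cfsg.pCore 2 G) (ha2 : IsTwo a) :
    ∃ (F : Type) (_ : Field F) (_ : Fintype F), Fintype.card F = 2 ∧
      Nonempty (G ⧸ Cfsg.pCore 2 G ≃* Matrix.ProjectiveSpecialLinearGroup (Fin 2) F) := by
  classical
  haveI : Fact (Nat.Prime 2) := ⟨Nat.prime_two⟩
  set X := {x : ↥(vSub G) // x ≠ 1}
  letI : MulAction G X :=
    { smul := fun l x => ⟨⟨l * x.1.1 * l⁻¹, conj_mem_vSub _ x.1.2⟩, fun e => x.2 (Subtype.ext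
        (conj_eq_one_iff.1 (congrArg Subtype.val e)))⟩
      one_smul := fun x => Subtype.ext (Subtype.ext (by
        show (1 : G) * x.1.1 * (1 : G)⁻¹ = x.1.1; group))
      mul_smul := fun l m x => Subtype.ext (Subtype.ext (by
        show (l * m) * x.1.1 * (l * m)⁻¹ = l * (m * x.1.1 * m⁻¹) * l⁻¹; group)) }
  have hker : (MulAction.toPermHom G X).ker = Cfsg.pCore 2 G := by
    ext l
    rw [MonoidHom.mem_ker]
    constructor
    · intro h
      rw [← centralizer_vSub hG hD, mem_centralizer_iff]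
      intro x hx
      by_cases hx1 : x = 1
      · rw [hx1, one_mul, mul_one]
      · have h' := congrArg (fun z : X => z.1.1)
          (Equiv.ext_iff.1 h ⟨⟨x, hx⟩, fun e => hx1 (congrArg Subtype.val e)⟩)
        have h'' : l * x * l⁻¹ = x := h'
        exact (mul_inv_eq_iff_eq_mul.1 h'').symm
    · intro h
      refine Equiv.ext fun x => Subtype.ext (Subtype.ext ?_)
      show l * x.1.1 * l⁻¹ = x.1.1
      rw [← (vSub_comm x.1.2 h).eq, mul_inv_cancel_right]
  have hX : Nat.card X = 3 := by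
    haveI := Fintype.ofFinite ↥(vSub G)
    rw [Nat.card_eq_fintype_card, Fintype.card_subtype_compl, Fintype.card_subtype_eq,
      ← Nat.card_eq_fintype_card, hV]
  have hP : Nat.card (Equiv.Perm X) = 6 := by
    rw [Nat.card_perm, hX]
    rfl
  set Q := G ⧸ Cfsg.pCore 2 G
  set f : Q →* Equiv.Perm X := QuotientGroup.lift _ (MulAction.toPermHom G X) hker.ge
  have hf : Function.Injective f := (QuotientGroup.injective_lift_iff _ _ hker.ge).2 hker.symm
  have h6 : Nat.card Q ∣ 6 := hP ▸ Subgroup.card_dvd_of_injective f hf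
  have hQ2 : ¬ IsPGroup 2 Q := by
    intro h
    have h1 := CfsgLib.PCore.pCore_eq_self_of_isPGroup h
    rw [CfsgLib.PCore.pCore_quotient_pCore] at h1
    exact ha ((QuotientGroup.eq_one_iff a).1 (mem_bot.1 (h1 ▸ mem_top _)))
  have h2 : 2 ∣ Nat.card Q := by
    obtain ⟨k, hk⟩ := ha2
    have h1 : orderOf (a : Q) ∣ 2 ^ k :=
      orderOf_dvd_of_pow_eq_one (by rw [← QuotientGroup.mk_pow, hk]; rfl)
    obtain ⟨j, -, hj⟩ := (Nat.dvd_prime_pow Nat.prime_two).1 h1
    rcases j with _ | j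
    · exact absurd ((QuotientGroup.eq_one_iff a).1 (orderOf_eq_one_iff.1 (by simpa using hj))) ha
    · exact (hj ▸ dvd_pow_self 2 j.succ_ne_zero).trans (orderOf_dvd_natCard _)
  have hQ : Nat.card Q = 6 := by
    have := Nat.le_of_dvd (by norm_num) h6
    interval_cases hc : Nat.card Q <;> try omega
    exact absurd (IsPGroup.of_card (n := 1) (by rw [hc]; rfl)) hQ2
  haveI : Fintype (ZMod 2) := inferInstance
  haveI : Finite (OnePoint (ZMod 2)) := inferInstanceAs (Finite (Option (ZMod 2)))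
  haveI : Fact (Fintype.card (ZMod 2) = 2) := ⟨ZMod.card 2⟩
  have h3 : Nat.card (OnePoint (ZMod 2)) = 3 := by rw [CfsgLib.PSL2.card_onePoint, ZMod.card]
  have hP' : Nat.card (Equiv.Perm (OnePoint (ZMod 2))) = 6 := by
    rw [Nat.card_perm, h3]
    rfl
  have hpsl : Nat.card (Matrix.ProjectiveSpecialLinearGroup (Fin 2) (ZMod 2)) = 6 := by
    have := CfsgLib.PSL2.card_psl (F := ZMod 2)
    rw [ZMod.card] at this
    simpa using this
  obtain ⟨e⟩ : Nonempty (X ≃ OnePoint (ZMod 2)) :=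
    Finite.card_eq.1 (hX.trans h3.symm)
  exact ⟨ZMod 2, inferInstance, inferInstance, ZMod.card 2,
    ⟨((MulEquiv.ofBijective f (hf.bijective_of_nat_card_le (by rw [hP, hQ]))).trans
      e.permCongrHom).trans (MulEquiv.ofBijective (CfsgLib.PSL2.pslPerm (ZMod 2))
        (CfsgLib.PSL2.pslPerm_injective.bijective_of_nat_card_le (by rw [hP', hpsl]))).symm⟩⟩

end CfsgLib.CIT
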