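import Mathlib
import Cfsg.Agent.Lib.CIT.Defs
import Cfsg.Agent.Lib.CIT.TI
import Cfsg.Agent.Lib.CIT.Fixed
import Cfsg.Agent.Lib.Tech46.SymplecticRank

/-!
# Offenders in groups with a nontrivial normal 2-subgroup

If a largest abelian subgroup of a Sylow 2-subgroup is not contained in `O₂(G)`, then the quotient is
`PSL₂(q)`, `q` even, and the module has order `q ^ 2`.
-/

set_option autoImplicit false
set_option linter.style.haveILetI false

namespace CfsgLib.CIT

open Subgroup CfsgLib.Involutions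

universe u

variable {G : Type u} [Group G]

/-- The groups that occur. -/
def ShapeAny (G : Type u) [Group G] : Prop :=
  ShapeEven G ∨ (Cfsg.IsSuzuki G ∧ ∃ M H : Subgroup G, TI.Hyp M H) ∨
    ((ShapeOdd G ∨ ShapeNine G ∨ ShapeFour G) ∧ ∀ S : Sylow 2 G, ¬ IsMulCommutative ↥(S : Subgroup G))

/-- The data of an offender. -/
structure OffData (T A : Subgroup G) (F : Type) [Field F] [Fintype F] (n : ℕ) : Prop where
  one_le : 1 ≤ n
  card_F : Fintype.card F = 2 ^ n
  iso : Nonempty (G ⧸ Cfsg.pCore 2 G ≃* Matrix.ProjectiveSpecialLinearGroup (Fin 2) F)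
  card_V : Nat.card ↥(vSub G) = 2 ^ (2 * n)
  card_T : Nat.card ↥T = 2 ^ n * Nat.card ↥(Cfsg.pCore 2 G)
  card_inter : Nat.card ↥(vSub G ⊓ A) = 2 ^ n
  fix : ∀ a ∈ T, a ∉ Cfsg.pCore 2 G → fixV a = vSub G ⊓ A

theorem dvd_two_pow_of_dvd_mul {j k m : ℕ} (hm : Odd m) (h : 2 ^ j ∣ 2 ^ k * m) : j ≤ k :=
  (Nat.pow_dvd_pow_iff_le_right (by norm_num)).1
    ((Nat.Coprime.pow_left _ (Nat.coprime_two_left.2 hm)).dvd_of_dvd_mul_right h)

theorem gcd_exponent {a b : ℕ} (h : 2 ^ a - 1 ∣ 2 ^ b - 1) : a ∣ b := by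
  have h1 := Nat.gcd_eq_left h
  rw [Nat.pow_sub_one_gcd_pow_sub_one] at h1
  have h2 : 2 ^ Nat.gcd a b = 2 ^ a := by
    have := Nat.one_le_two_pow (n := Nat.gcd a b)
    have := Nat.one_le_two_pow (n := a)
    omega
  rw [← Nat.pow_right_injective le_rfl h2]
  exact Nat.gcd_dvd_right a b

/-- A divisor `2 ^ a + 1` of `2 ^ b - 1` forces `2 a ∣ b`. -/
theorem two_mul_dvd_exponent {a b : ℕ} (ha : 1 ≤ a) (h : 2 ^ a + 1 ∣ 2 ^ b - 1) : 2 * a ∣ b := by
  have h1 : 2 ^ a + 1 ∣ 2 ^ (2 * a) - 1 := ⟨2 ^ a - 1, by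
    rw [show 2 ^ (2 * a) = 2 ^ a * 2 ^ a by rw [two_mul, pow_add]]
    obtain ⟨x, hx⟩ : ∃ x, 2 ^ a = x + 1 := ⟨2 ^ a - 1, by have := Nat.one_le_two_pow (n := a); omega⟩
    rw [hx, show (x + 1) * (x + 1) = (x + 1 + 1) * x + 1 by ring, Nat.add_sub_cancel,
      Nat.add_sub_cancel]⟩
  have h2 := Nat.dvd_gcd h1 h
  rw [Nat.pow_sub_one_gcd_pow_sub_one] at h2
  set g := Nat.gcd (2 * a) b with hg
  have hg0 : 0 < g := Nat.pos_of_ne_zero fun e => by
    have := Nat.eq_zero_of_gcd_eq_zero_left e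
    omega
  have h3 : a < g := by
    by_contra hle
    push Not at hle
    have h4 := Nat.le_of_dvd (by have := Nat.lt_two_pow_self (n := g); omega) h2
    have h5 := Nat.pow_le_pow_right two_pos hle
    have h6 : 0 < 2 ^ a := Nat.two_pow_pos a
    omega
  obtain ⟨c, hc⟩ : g ∣ 2 * a := Nat.gcd_dvd_left _ _
  have : c = 1 := by
    rcases c with _ | _ | c
    · omega
    · rfl
    · have := Nat.mul_le_mul_left g (show 2 ≤ c + 1 + 1 by omega); omega
  subst this
  rw [mul_one] at hc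
  rw [hc]
  exact Nat.gcd_dvd_right _ _

variable [Finite G]

/-- An involution of a group whose core of odd order meets its centraliser trivially inverts it. -/
theorem IsCIT.inverts_pPrimeCore (h : IsCIT G) {t : G} (ht : orderOf t = 2) :
    ∀ k ∈ Cfsg.pPrimeCore 2 G, t * k * t⁻¹ = k⁻¹ := by
  haveI : Fact (Nat.Prime 2) := ⟨Nat.prime_two⟩
  intro k hk
  have hKn : (Cfsg.pPrimeCore 2 G).Normal := inferInstance
  have hodd : ∀ x ∈ Cfsg.pPrimeCore 2 G, Odd (orderOf x) := fun x hx => by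
    rw [← Nat.coprime_two_right]
    exact CfsgLib.PCore.pPrimeCore_coprime.coprime_dvd_left (orderOf_dvd_natCard _ hx)
  let φ : ↥(Cfsg.pPrimeCore 2 G) → ↥(Cfsg.pPrimeCore 2 G) := fun n =>
    ⟨(n : G)⁻¹ * (t * n * t⁻¹), mul_mem (inv_mem n.2) (hKn.conj_mem _ n.2 t)⟩
  have hφ : Function.Injective φ := by
    intro a b e
    have e' : (a : G)⁻¹ * (t * a * t⁻¹) = (b : G)⁻¹ * (t * b * t⁻¹) := congrArg Subtype.val e
    have hc : Commute ((b : G) * (a : G)⁻¹) t := by
      show (b : G) * (a : G)⁻¹ * t = t * ((b : G) * (a : G)⁻¹)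
      calc (b : G) * (a : G)⁻¹ * t = b * ((a : G)⁻¹ * (t * a * t⁻¹)) * t * (a : G)⁻¹ := by group
        _ = _ := by rw [e']; group
    have hm := h.eq_one_of_commute (IsTwo.of_orderOf_two ht) (ne_one_of_involution ht)
      (hodd _ (mul_mem b.2 (inv_mem a.2))) hc
    exact Subtype.ext (mul_inv_eq_one.1 hm).symm
  obtain ⟨⟨m, hm'⟩, hm⟩ := (Finite.injective_iff_surjective.1 hφ) ⟨k, hk⟩
  have hm2 : k = m⁻¹ * (t * m * t⁻¹) := (congrArg Subtype.val hm).symm
  rw [hm2, inv_eq_self_of_involution ht, mul_inv_rev, mul_inv_rev, mul_inv_rev, inv_inv,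
    inv_eq_self_of_involution ht]
  calc t * (m⁻¹ * (t * m * t)) * t = t * m⁻¹ * t * m * (t * t) := by group
    _ = _ := by rw [mul_self_eq_one ht]; group

/-- With a nontrivial core of odd order, commuting involutions are equal. -/
theorem IsCIT.eq_of_commute_involutions (h : IsCIT G) (hK : Cfsg.pPrimeCore 2 G ≠ ⊥) {s t : G}
    (hs : orderOf s = 2) (ht : orderOf t = 2) (hst : Commute s t) : s = t := by
  haveI : Fact (Nat.Prime 2) := ⟨Nat.prime_two⟩
  obtain ⟨k, hk, hk1⟩ := (bot_or_exists_ne_one _).resolve_left hK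
  by_contra hne
  have h2 : orderOf (s * t) = 2 := by
    rw [orderOf_eq_two_iff_mul]
    refine ⟨fun e => hne ?_, ?_⟩
    · rw [mul_eq_one_iff_eq_inv, inv_eq_self_of_involution ht] at e
      exact e
    · rw [hst.symm.mul_mul_mul_comm, mul_self_eq_one hs, mul_self_eq_one ht, one_mul]
  refine hk1 (h.eq_one_of_commute (IsTwo.of_orderOf_two h2) (ne_one_of_involution h2) ?_ ?_)
  · rw [← Nat.coprime_two_right]
    exact CfsgLib.PCore.pPrimeCore_coprime.coprime_dvd_left (orderOf_dvd_natCard _ hk)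
  · have e : s * t * k * (s * t)⁻¹ = k := by
      calc s * t * k * (s * t)⁻¹ = s * (t * k * t⁻¹) * s⁻¹ := by group
        _ = _ := by rw [h.inverts_pPrimeCore ht k hk, h.inverts_pPrimeCore hs _ (inv_mem hk), inv_inv]
    exact (mul_inv_eq_iff_eq_mul.1 e).symm

/-- The numerical analysis of the possible quotients. -/
theorem shape_exponent {Q : Type u} [Group Q] [Finite Q] {e : ℕ} (he : 1 ≤ e) (hQ : ShapeAny Q)
    (hodd : ∀ m, Odd m → m ∣ Nat.card Q → m ∣ 2 ^ (2 * e) - 1) {B : Subgroup Q}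
    (hBc : IsMulCommutative ↥B) (hB : IsPGroup 2 B) (hle : 2 ^ e ≤ Nat.card B)
    (hsq : Nat.card B = 2 ^ e → ∀ b ∈ B, b * b = 1) :
    Nat.card B = 2 ^ e ∧ ∃ (F : Type) (_ : Field F) (_ : Fintype F), Fintype.card F = 2 ^ e ∧
      Nat.card Q = 2 ^ e * (2 ^ (2 * e) - 1) ∧
      Nonempty (Q ≃* Matrix.ProjectiveSpecialLinearGroup (Fin 2) F) := by
  haveI : Fact (Nat.Prime 2) := ⟨Nat.prime_two⟩
  obtain ⟨j, hj⟩ := hB.exists_card_eq
  have hej : e ≤ j := (Nat.pow_le_pow_iff_right (by norm_num)).1 (hj ▸ hle)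
  have hdvd : ∀ {k m : ℕ}, Odd m → Nat.card Q = 2 ^ k * m → j ≤ k := fun hm h =>
    dvd_two_pow_of_dvd_mul hm (h ▸ hj ▸ B.card_subgroup_dvd_card)
  -- a largest abelian 2-subgroup is smaller than a nonabelian Sylow subgroup
  have hlt : ∀ {k m : ℕ}, Odd m → Nat.card Q = 2 ^ k * m →
      (∀ S : Sylow 2 Q, ¬ IsMulCommutative ↥(S : Subgroup Q)) → j < k := by
    intro k m hm h hS
    refine lt_of_le_of_ne (hdvd hm h) fun ejk => ?_
    subst ejk
    have hf : (Nat.card Q).factorization 2 = j := by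
      rw [h, Nat.factorization_mul (by positivity) hm.pos.ne', Finsupp.add_apply,
        Nat.factorization_pow_self Nat.prime_two,
        Nat.factorization_eq_zero_of_not_dvd hm.not_two_dvd_nat, add_zero]
    exact hS (Sylow.ofCard B (by rw [hf, hj])) hBc
  rcases hQ with ⟨-, F, hFf, hFt, ⟨n, hn2, hFn⟩, ⟨ε⟩⟩ | ⟨⟨-, m, hm, hcard⟩, M, H, hH⟩ | ⟨hQ, hS⟩
  · have hc := CfsgLib.PSL2.card_psl (F := F)
    have hpow : 4 ≤ 2 ^ n := le_trans (by norm_num) (Nat.pow_le_pow_right two_pos hn2)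
    rw [← Nat.card_congr ε.toEquiv, CfsgLib.PSL2.gcd_eq_one (by
      rw [hFn]; exact Nat.even_pow.2 ⟨even_two, by omega⟩), one_mul, hFn] at hc
    have hm' : (2 ^ n + 1) * (2 ^ n * (2 ^ n - 1)) = 2 ^ n * (2 ^ (2 * n) - 1) := by
      rw [show 2 ^ (2 * n) = 2 ^ n * 2 ^ n by rw [two_mul, pow_add]]
      obtain ⟨x, hx⟩ : ∃ x, 2 ^ n = x + 1 := ⟨2 ^ n - 1, by omega⟩
      rw [hx, show (x + 1) * (x + 1) = (x + 1 + 1) * x + 1 by ring, Nat.add_sub_cancel,
        Nat.add_sub_cancel]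
      ring
    have ho : Odd (2 ^ (2 * n) - 1) := by
      rw [Nat.odd_sub Nat.one_le_two_pow]
      simp [Nat.even_pow, show n ≠ 0 by omega]
    rw [hm'] at hc
    have h1 := hdvd ho hc
    have h2 : n ∣ e := Nat.dvd_of_mul_dvd_mul_left two_pos
      (gcd_exponent (hodd _ ho (hc ▸ dvd_mul_left _ _)))
    have h3 := Nat.le_of_dvd (by omega) h2
    have h4 : e = n := by omega
    exact ⟨by rw [hj, show j = e by omega], F, hFf, hFt, h4 ▸ hFn, h4 ▸ hc, ⟨ε⟩⟩
  · exfalso
    set N := 2 * m + 1 with hN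
    have ho1 : Odd ((2 ^ N) ^ 2 + 1) := by
      rw [Nat.odd_add_one, Nat.not_odd_iff_even]; simp [Nat.even_pow, show N ≠ 0 by omega]
    have ho2 : Odd (2 ^ N - 1) := by
      rw [Nat.odd_sub Nat.one_le_two_pow]; simp [Nat.even_pow, show N ≠ 0 by omega]
    have hc : Nat.card Q = 2 ^ (2 * N) * (((2 ^ N) ^ 2 + 1) * (2 ^ N - 1)) := by
      rw [hcard, show 2 ^ (2 * N) = (2 ^ N) ^ 2 by rw [← pow_mul, mul_comm]]; ring
    have h1 := hdvd (ho1.mul ho2) hc
    have h2 := hodd _ ho1 (hc ▸ Dvd.dvd.mul_left (dvd_mul_right _ _) _)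
    rw [← pow_mul, mul_comm N 2] at h2
    have h3 := two_mul_dvd_exponent (by omega) h2
    have h4 := Nat.le_of_dvd (by omega) h3
    have hBe : Nat.card B = 2 ^ e := by rw [hj, show j = e by omega]
    have helem := hsq hBe
    -- the TI subgroup is then elementary abelian
    obtain ⟨-, hH2, hGc, -⟩ := TI.main hH
    have hf : (Nat.card Q).factorization 2 = j := by
      rw [hc, Nat.factorization_mul (by positivity) (ho1.mul ho2).pos.ne', Finsupp.add_apply,
        Nat.factorization_pow_self Nat.prime_two,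
        Nat.factorization_eq_zero_of_not_dvd (ho1.mul ho2).not_two_dvd_nat, add_zero]
      omega
    set S := Sylow.ofCard B (by rw [hf, hj]) with hS
    have hel : ∀ x ∈ H, x * x = 1 := by
      obtain ⟨S', hS'⟩ := hH2.exists_le_sylow
      obtain ⟨g, hg⟩ := MulAction.exists_smul_eq Q S S'
      intro x hx
      have hx' : g⁻¹ * x * g ∈ B := by
        have h5 : x ∈ ((g • S : Sylow 2 Q) : Subgroup Q) := hg ▸ hS' hx
        rw [Sylow.coe_subgroup_smul, Subgroup.mem_pointwise_smul_iff_inv_smul_mem, hS,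
          Sylow.coe_ofCard] at h5
        simpa using h5
      have h6 := helem _ hx'
      calc x * x = g * (g⁻¹ * x * g * (g⁻¹ * x * g)) * g⁻¹ := by group
        _ = 1 := by rw [h6]; group
    have hk : Nat.card (TI.Inv M) = Nat.card ↥H - 1 := by
      haveI := Fintype.ofFinite ↥H
      classical
      rw [show Nat.card ↥H - 1 = Nat.card {x : ↥H // x ≠ 1} by
        rw [Nat.card_eq_fintype_card, Nat.card_eq_fintype_card, Fintype.card_subtype_compl,
          Fintype.card_subtype_eq]]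
      refine Nat.card_congr ⟨fun t => ⟨⟨t.1, hH.two _ t.2.2 t.2.1⟩, fun e =>
          ne_one_of_involution t.2.1 (congrArg Subtype.val e)⟩, fun x => ⟨x.1.1,
          orderOf_eq_two_iff_mul.2 ⟨fun e => x.2 (Subtype.ext e), hel _ x.1.2⟩, hH.le x.1.2⟩,
        fun t => rfl, fun x => rfl⟩
    obtain ⟨i, hi⟩ := hH2.exists_card_eq
    rw [hk, hi, hc] at hGc
    have hi1 : i ≠ 0 := fun e0 => by
      have := TI.two_le_H hH
      rw [hi, e0] at this
      omega
    have hodd' : Odd ((2 ^ i + 1) * (2 ^ i - 1)) := by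
      refine Odd.mul ?_ ?_
      · rw [Nat.odd_add_one, Nat.not_odd_iff_even]; simp [Nat.even_pow, hi1]
      · rw [Nat.odd_sub Nat.one_le_two_pow]; simp [Nat.even_pow, hi1]
    have hi2 : i = 2 * N := le_antisymm
      (dvd_two_pow_of_dvd_mul (ho1.mul ho2) ⟨(2 ^ i + 1) * (2 ^ i - 1), by rw [hGc]; ring⟩)
      (dvd_two_pow_of_dvd_mul hodd' ⟨((2 ^ N) ^ 2 + 1) * (2 ^ N - 1),
        by rw [show 2 ^ i * ((2 ^ i + 1) * (2 ^ i - 1)) = (2 ^ i + 1) * (2 ^ i * (2 ^ i - 1)) by ring,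
          ← hGc]⟩)
    rw [hi2, show 2 ^ (2 * N) = 2 ^ N * 2 ^ N by rw [two_mul, pow_add], sq] at hGc
    have h8 : 8 ≤ 2 ^ N := le_trans (by norm_num) (Nat.pow_le_pow_right two_pos (show 3 ≤ N by omega))
    obtain ⟨x, hx⟩ : ∃ x, 2 ^ N = x + 1 := ⟨2 ^ N - 1, by omega⟩
    rw [hx, show (x + 1) * (x + 1) - 1 = x * (x + 2) by
      rw [show (x + 1) * (x + 1) = x * (x + 2) + 1 by ring, Nat.add_sub_cancel],
      Nat.add_sub_cancel] at hGc
    have h7 : ((x + 1) * (x + 1)) * ((((x + 1) * (x + 1)) + 1) * x) * 1 =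
        ((x + 1) * (x + 1)) * ((((x + 1) * (x + 1)) + 1) * x) * (x + 2) := by
      linear_combination hGc
    have := Nat.eq_of_mul_eq_mul_left (by
      have : 0 < x := by omega
      positivity) h7
    omega
  · exfalso
    rcases hQ with ⟨-, F, hFf, hFt, h7, hF, ⟨ε⟩⟩ | ⟨N, hNn, hN2, F, hFf, hFt, h9, ⟨ε⟩⟩ |
        ⟨-, h20, -⟩
    · have hc := CfsgLib.PSL2.card_psl (F := F)
      rw [← Nat.card_congr ε.toEquiv] at hc
      rcases hF with h9 | ⟨hp, k, hk | hk⟩
      · rw [h9] at hc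
        have hQc : Nat.card Q = 2 ^ 3 * 45 := by norm_num at hc ⊢; omega
        have h1 := hlt (by decide) hQc hS
        have h2 := hodd 45 (by decide) (hQc ▸ dvd_mul_left _ _)
        have he' : e ≤ 2 := by omega
        interval_cases e <;> norm_num at h2
      · -- Fermat primes
        rw [CfsgLib.PSL2.gcd_eq_two (hp.odd_of_ne_two (by omega)), hk] at hc
        have hk2 : 2 ≤ k := by
          by_contra hcon
          interval_cases k <;> omega
        obtain ⟨i, rfl⟩ : ∃ i, k = i + 1 := ⟨k - 1, by omega⟩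
        have hQc : Nat.card Q = 2 ^ (i + 1) * ((2 ^ (i + 1) + 1) * (2 ^ i + 1)) := by
          rw [Nat.add_sub_cancel, pow_succ] at hc
          rw [pow_succ]
          refine Nat.eq_of_mul_eq_mul_left two_pos ?_
          linear_combination hc
        have ho : Odd ((2 ^ (i + 1) + 1) * (2 ^ i + 1)) := by
          refine Odd.mul ?_ ?_ <;> rw [Nat.odd_add_one, Nat.not_odd_iff_even] <;>
            simp [Nat.even_pow, show i ≠ 0 by omega]
        have h1 := hlt ho hQc hS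
        have h2 := hodd (2 ^ (i + 1) + 1) (Nat.Odd.of_mul_left ho)
          (hQc ▸ Dvd.dvd.mul_left (dvd_mul_right _ _) _)
        have h3 := Nat.le_of_dvd (by omega) (two_mul_dvd_exponent (by omega) h2)
        omega
      · -- Mersenne primes
        have hk3 : 3 ≤ k := by
          by_contra hcon
          interval_cases k <;> omega
        rw [CfsgLib.PSL2.gcd_eq_two (hp.odd_of_ne_two (by omega))] at hc
        obtain ⟨i, rfl⟩ : ∃ i, k = i + 1 := ⟨k - 1, by omega⟩
        have hi1 : 2 ≤ 2 ^ i := Nat.le_self_pow (by omega) 2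
        have hp' : Fintype.card F = 2 ^ (i + 1) - 1 := by omega
        obtain ⟨x, hx⟩ : ∃ x, 2 ^ i = x + 1 := ⟨2 ^ i - 1, by omega⟩
        have hp'' : Fintype.card F = 2 * x + 1 := by rw [pow_succ] at hk; omega
        have hQc : Nat.card Q = 2 ^ (i + 1) * (Fintype.card F * (2 ^ i - 1)) := by
          refine Nat.eq_of_mul_eq_mul_left two_pos ?_
          rw [pow_succ, hx, hc, hp'', Nat.add_sub_cancel, Nat.add_sub_cancel]
          ring
        have ho : Odd (Fintype.card F * (2 ^ i - 1)) := by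
          refine Odd.mul (hp.odd_of_ne_two (by omega)) ?_
          rw [Nat.odd_sub Nat.one_le_two_pow]; simp [Nat.even_pow, show i ≠ 0 by omega]
        have h1 := hlt ho hQc hS
        have h2 := hodd (Fintype.card F) (Nat.Odd.of_mul_left ho)
          (hQc ▸ Dvd.dvd.mul_left (dvd_mul_right _ _) _)
        have h3 := gcd_exponent (hp' ▸ h2)
        rcases Nat.even_or_odd (i + 1) with ⟨c, hc2⟩ | hodd'
        · -- an even exponent gives a composite number
          have hc1 : 2 ≤ c := by omega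
          have h5 : 4 ≤ 2 ^ c := le_trans (by norm_num) (Nat.pow_le_pow_right two_pos hc1)
          have h4 : Fintype.card F = (2 ^ c + 1) * (2 ^ c - 1) := by
            rw [hp', hc2, pow_add]
            obtain ⟨y, hy⟩ : ∃ y, 2 ^ c = y + 1 := ⟨2 ^ c - 1, by omega⟩
            rw [hy, show (y + 1) * (y + 1) = (y + 1 + 1) * y + 1 by ring, Nat.add_sub_cancel,
              Nat.add_sub_cancel]
          exact Nat.not_prime_mul (by omega) (by omega) (h4 ▸ hp)
        · have h4 := Nat.le_of_dvd (by omega)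
            ((Nat.coprime_two_right.2 hodd').dvd_of_dvd_mul_left h3)
          omega
    · have hc := CfsgLib.PSL2.card_psl (F := F)
      rw [← Nat.card_congr ε.toEquiv, h9] at hc
      have hN360 : Nat.card ↥N = 360 := by norm_num at hc ⊢; omega
      have hQc : Nat.card Q = 2 ^ 4 * 45 := by rw [← N.card_mul_index, hN2, hN360]; norm_num
      have h1 := hdvd (by decide) hQc
      have h2 := hodd 45 (by decide) (hQc ▸ dvd_mul_left _ _)
      have he' : e ≤ 4 := by omega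
      interval_cases e <;> norm_num at h2
    · have hQc : Nat.card Q = 2 ^ 6 * 315 := by rw [h20]; norm_num
      have h1 := hlt (by decide) hQc hS
      have h2 := hodd 315 (by decide) (hQc ▸ dvd_mul_left _ _)
      have he' : e ≤ 5 := by omega
      interval_cases e <;> norm_num at h2

/-- The offender theorem, given the possible quotients. -/
theorem offender (hG : IsCIT G) (hD : Cfsg.pCore 2 G ≠ ⊥) (T : Sylow 2 G) {A : Subgroup G}
    (hAT : A ≤ (T : Subgroup G)) (hAc : IsMulCommutative ↥A)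
    (hAmax : ∀ B : Subgroup G, B ≤ (T : Subgroup G) → IsMulCommutative ↥B →
      Nat.card ↥B ≤ Nat.card ↥A)
    (hAD : ¬ A ≤ Cfsg.pCore 2 G)
    (hIH : Cfsg.pPrimeCore 2 (G ⧸ Cfsg.pCore 2 G) = ⊥ → ShapeAny (G ⧸ Cfsg.pCore 2 G)) :
    ∃ (F : Type) (_ : Field F) (_ : Fintype F) (n : ℕ), OffData (T : Subgroup G) A F n := by
  classical
  haveI : Fact (Nat.Prime 2) := ⟨Nat.prime_two⟩
  have hDT : Cfsg.pCore 2 G ≤ (T : Subgroup G) := CfsgLib.PCore.pCore_le_sylow T
  have hA2 : IsPGroup 2 A := T.isPGroup'.to_le hAT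
  set D := Cfsg.pCore 2 G with hDdef
  set V := vSub G with hV
  set π := QuotientGroup.mk' D with hπ
  set B := A.map π with hB
  have hB2 : IsPGroup 2 B := hA2.map π
  have hBc : IsMulCommutative ↥B := Subgroup.map_isMulCommutative A π
  -- the orders
  have hcardA : Nat.card ↥A = Nat.card ↥B * Nat.card ↥(A ⊓ D) := by
    rw [← (D.subgroupOf A).card_mul_index, mul_comm]
    congr 1
    · show D.relIndex A = _
      conv_lhs => rw [← QuotientGroup.ker_mk' D]
      rw [Subgroup.relIndex_ker]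
    · rw [← inf_subgroupOf_left, Nat.card_congr (subgroupOfEquivOfLe inf_le_left).toEquiv]
  have hkey : Nat.card ↥V ≤ Nat.card ↥(V ⊓ A) * Nat.card ↥B := by
    have hcomm : ∀ (v : ↥V) (w : ↥(A ⊓ D)), Commute (V.subtype v) ((A ⊓ D).subtype w) :=
      fun v w => vSub_comm v.2 w.2.2
    set f := MonoidHom.noncommCoprod V.subtype (A ⊓ D).subtype hcomm with hf
    have hrT : f.range ≤ (T : Subgroup G) := by
      rintro _ ⟨⟨v, w⟩, rfl⟩
      exact mul_mem (hDT (vSub_le v.2)) (hDT w.2.2)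
    have hrc : IsMulCommutative ↥f.range := by
      haveI := hAc
      refine ⟨⟨?_⟩⟩
      rintro ⟨_, ⟨v, w⟩, rfl⟩ ⟨_, ⟨v', w'⟩, rfl⟩
      apply Subtype.ext
      show ((v : G) * (w : G)) * ((v' : G) * (w' : G)) = (v' : G) * w' * ((v : G) * w)
      have h1 : Commute (v : G) v' := vSub_comm v.2 (vSub_le v'.2)
      have h2 : Commute (w : G) w' :=
        congrArg Subtype.val (mul_comm' (⟨w, w.2.1⟩ : ↥A) ⟨w', w'.2.1⟩)
      exact ((h1.mul_right (hcomm v w')).mul_left ((hcomm v' w).symm.mul_right h2)).eq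
    have h1 := f.ker.card_mul_index
    rw [Subgroup.index_ker, Nat.card_prod] at h1
    have h2 : Nat.card f.ker ≤ Nat.card ↥(V ⊓ A) := by
      have hval : ∀ x : f.ker, (x.1.1 : G) = (x.1.2 : G)⁻¹ := fun x => by
        have h : (x.1.1 : G) * x.1.2 = 1 := x.2
        exact mul_eq_one_iff_eq_inv.1 h
      refine Nat.card_le_card_of_injective
        (fun x => (⟨(x.1.1 : G), x.1.1.2, by rw [hval x]; exact A.inv_mem x.1.2.2.1⟩ : ↥(V ⊓ A))) ?_
      intro x y e
      have e' : (x.1.1 : G) = y.1.1 := congrArg (fun z : ↥(V ⊓ A) => (z : G)) e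
      refine Subtype.ext (Prod.ext (Subtype.ext e') (Subtype.ext (inv_injective ?_)))
      rw [← hval x, ← hval y, e']
    have h3 : Nat.card ↥V * Nat.card ↥(A ⊓ D) ≤
        Nat.card ↥(V ⊓ A) * Nat.card ↥B * Nat.card ↥(A ⊓ D) := by
      calc Nat.card ↥V * Nat.card ↥(A ⊓ D) = Nat.card f.ker * Nat.card f.range := h1.symm
        _ ≤ Nat.card ↥(V ⊓ A) * Nat.card ↥A := Nat.mul_le_mul h2 (hAmax _ hrT hrc)
        _ = _ := by rw [hcardA, mul_assoc]
    exact Nat.le_of_mul_le_mul_right h3 Nat.card_pos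
  -- fixed points
  have hsub : ∀ a ∈ A, V ⊓ A ≤ fixV a := by
    intro a ha v hv
    haveI := hAc
    exact mem_fixV.2 ⟨hv.1, congrArg Subtype.val (mul_comm' (⟨v, hv.2⟩ : ↥A) ⟨a, ha⟩)⟩
  obtain ⟨a, haA, haD⟩ := SetLike.not_le_iff_exists.1 hAD
  obtain ⟨a₀, ha₀A, ha₀D, ha₀2⟩ : ∃ b ∈ A, b ∉ D ∧ b * b ∈ D := by
    obtain ⟨N, hN⟩ := isTwo_of_mem hA2 haA
    have hex : ∃ i, a ^ 2 ^ i ∈ D := ⟨N, hN ▸ one_mem _⟩
    obtain ⟨i, hi⟩ : ∃ i, Nat.find hex = i + 1 := Nat.exists_eq_succ_of_ne_zero fun e0 => haD (by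
      simpa [e0] using Nat.find_spec hex)
    refine ⟨a ^ 2 ^ i, pow_mem haA _, Nat.find_min hex (by omega), ?_⟩
    rw [← pow_add, ← two_mul, ← pow_succ', ← hi]
    exact Nat.find_spec hex
  have hsq0 := sq_card_fixV hG hD ha₀D ha₀2
  obtain ⟨e, he⟩ : ∃ e, Nat.card ↥(fixV a₀) = 2 ^ e :=
    (vSub_isPGroup.to_le (inf_le_left : fixV a₀ ≤ V)).exists_card_eq
  have hVe : Nat.card ↥V = 2 ^ (2 * e) := by rw [← hsq0, he, two_mul, pow_add]
  have he1 : 1 ≤ e := by
    by_contra hcon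
    have := one_lt_card_vSub (G := G) hD
    rw [← hV, hVe, show 2 * e = 0 by omega] at this
    omega
  have hVA : Nat.card ↥(V ⊓ A) ≤ 2 ^ e := he ▸ Subgroup.card_le_of_le (hsub a₀ ha₀A)
  have hBle : 2 ^ e ≤ Nat.card ↥B := by
    have h := hkey.trans (Nat.mul_le_mul_right _ hVA)
    rw [hVe, two_mul, pow_add] at h
    exact Nat.le_of_mul_le_mul_left h (by positivity)
  have hodd : ∀ m, Odd m → m ∣ Nat.card (G ⧸ D) → m ∣ 2 ^ (2 * e) - 1 :=
    fun m hm hd => hVe ▸ dvd_of_odd hG hD hm hd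
  have hVAge : Nat.card ↥B = 2 ^ e → 2 ^ e ≤ Nat.card ↥(V ⊓ A) := fun hBe => by
    rw [hBe, hVe, two_mul, pow_add] at hkey
    exact Nat.le_of_mul_le_mul_right hkey (by positivity)
  have hsq : Nat.card ↥B = 2 ^ e → ∀ b ∈ B, b * b = 1 := by
    rintro hBe _ ⟨b, hb, rfl⟩
    rw [← map_mul]
    refine (QuotientGroup.eq_one_iff _).2 (mul_self_mem_of_card_le hG hD (isTwo_of_mem hA2 hb) ?_)
    have h := (hVAge hBe).trans (Subgroup.card_le_of_le (hsub b hb))
    rw [← hV, hVe, two_mul, pow_add]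
    exact Nat.mul_le_mul h h
  -- the quotient
  obtain ⟨hBe, F, hFf, hFt, hFc, hQc, hiso⟩ : Nat.card ↥B = 2 ^ e ∧
      ∃ (F : Type) (_ : Field F) (_ : Fintype F), Fintype.card F = 2 ^ e ∧
        Nat.card (G ⧸ D) = 2 ^ e * (2 ^ (2 * e) - 1) ∧
        Nonempty (G ⧸ D ≃* Matrix.ProjectiveSpecialLinearGroup (Fin 2) F) := by
    have hQ : IsCIT (G ⧸ D) := hG.quotient D CfsgLib.PCore.pCore_isPGroup
    by_cases hO : Cfsg.pPrimeCore 2 (G ⧸ D) = ⊥
    · exact shape_exponent he1 (hIH hO) hodd hBc hB2 hBle hsq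
    haveI := hBc
    letI : CommGroup ↥B := { (inferInstance : Group ↥B) with mul_comm := mul_comm' }
    haveI : IsCyclic ↥B := Cfsg.Tech46.Sympl.isCyclic_of_unique_involution hB2 fun b c hb hc =>
      Subtype.ext (hQ.eq_of_commute_involutions hO (by rwa [Subgroup.orderOf_coe])
        (by rwa [Subgroup.orderOf_coe]) (congrArg Subtype.val (mul_comm b c)))
    obtain ⟨j, hj⟩ := hB2.exists_card_eq
    obtain ⟨c, rfl⟩ : ∃ c, j = c + 1 := Nat.exists_eq_succ_of_ne_zero fun e0 => by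
      rw [hj, e0, pow_zero] at hBle
      exact absurd hBle (not_le.2 (Nat.one_lt_two_pow (by omega)))
    obtain ⟨⟨_, s, hsA, rfl⟩, hgen⟩ := IsCyclic.exists_ofOrder_eq_natCard (α := ↥B)
    rw [← Subgroup.orderOf_coe] at hgen
    have hs : s ^ 2 ^ (c + 1) ∈ D := by
      rw [← QuotientGroup.eq_one_iff, QuotientGroup.mk_pow, ← hj, ← hgen]
      exact pow_orderOf_eq_one _
    have hs' : s ^ 2 ^ c ∉ D := by
      rw [← QuotientGroup.eq_one_iff, QuotientGroup.mk_pow]
      intro h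
      have := Nat.le_of_dvd (by positivity) (orderOf_dvd_of_pow_eq_one h)
      rw [show orderOf (s : G ⧸ D) = 2 ^ (c + 1) from hgen.trans hj, pow_succ] at this
      have := Nat.two_pow_pos c
      omega
    have hc := eq_zero_of_card_le hG hD hs hs' (hkey.trans (by
      rw [hj]; exact Nat.mul_le_mul_right _ (Subgroup.card_le_of_le (hsub s hsA))))
    subst hc
    have he' : e = 1 := by
      rw [hj] at hBle
      have := (Nat.pow_le_pow_iff_right (by norm_num)).1 hBle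
      omega
    subst he'
    obtain ⟨F, hFf, hFt, hF2, ⟨ε⟩⟩ := exists_psl_two hG hD hVe ha₀D (isTwo_of_mem hA2 ha₀A)
    refine ⟨hj, F, hFf, hFt, hF2, ?_, ⟨ε⟩⟩
    have h := CfsgLib.PSL2.card_psl (F := F)
    rw [hF2, ← Nat.card_congr ε.toEquiv] at h
    simpa using h
  have ho : Odd (2 ^ (2 * e) - 1) := by
    rw [Nat.odd_sub Nat.one_le_two_pow]; simp [Nat.even_pow, show e ≠ 0 by omega]
  have hVA' : Nat.card ↥(V ⊓ A) = 2 ^ e := le_antisymm hVA (hVAge hBe)
  -- `T` maps onto `B`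
  have hTB : (T : Subgroup G).map π = B := by
    refine (Subgroup.eq_of_le_of_card_ge (Subgroup.map_mono hAT) ?_).symm
    obtain ⟨i, hi⟩ := (T.isPGroup'.map π).exists_card_eq
    rw [hBe, hi]
    exact Nat.pow_le_pow_right two_pos (dvd_two_pow_of_dvd_mul ho
      (hQc ▸ hi ▸ ((T : Subgroup G).map π).card_subgroup_dvd_card))
  refine ⟨F, hFf, hFt, e, he1, hFc, hiso, hVe, ?_, hVA', ?_⟩
  · rw [← (D.subgroupOf (T : Subgroup G)).card_mul_index, mul_comm]
    congr 1
    · show D.relIndex (T : Subgroup G) = _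
      conv_lhs => rw [← QuotientGroup.ker_mk' D]
      rw [Subgroup.relIndex_ker, hTB, hBe]
    · exact Nat.card_congr (subgroupOfEquivOfLe hDT).toEquiv
  · intro t ht htD
    have htB : π t ∈ B := hTB ▸ mem_map_of_mem π ht
    obtain ⟨b, hb, hbt⟩ := htB
    have hd : b⁻¹ * t ∈ D := QuotientGroup.eq.1 hbt
    have hfix : fixV t = fixV b := by
      ext x
      simp only [mem_fixV, and_congr_right_iff]
      intro hx
      have hxd : Commute x (b⁻¹ * t) := vSub_comm hx hd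
      constructor
      · intro h
        have h2 : Commute x (t * (b⁻¹ * t)⁻¹) := h.mul_right hxd.inv_right
        simpa [mul_assoc] using h2
      · intro h
        simpa using h.mul_right hxd
    rw [hfix]
    have hbD : b ∉ D := fun h => htD (by simpa using mul_mem h hd)
    refine (Subgroup.eq_of_le_of_card_ge (hsub b hb) ?_).symm
    rw [hVA']
    by_contra hcon
    push Not at hcon
    have := Nat.mul_lt_mul'' hcon hcon
    rw [← pow_add, ← two_mul, ← hVe] at this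
    exact absurd (sq_le_card_vSub hG hD hbD) (not_le.2 this)

end CfsgLib.CIT
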