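import Mathlib
import Cfsg.Agent.Lib.CIT.Offender
import Cfsg.Agent.Lib.PushingUp.Family.Pairs
import Cfsg.Agent.Lib.PushingUp.UniqueMax
import Cfsg.Agent.Lib.PGroup.Frattini
import Cfsg.Agent.Lib.Coprime.Action

/-!
# Groups with a nontrivial normal 2-subgroup and a given Sylow 2-subgroup

Either the Sylow 2-subgroup is outside the exceptional class, and then a fixed characteristic subgroup of
it is normal, or it is exceptional and the group is an extension of an elementary abelian group of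
order `q ^ 2` by `PSL₂(q)`.
-/

set_option autoImplicit false
set_option linter.style.haveILetI false

namespace CfsgLib.CIT

open Subgroup CfsgLib.PushingUp.Family

universe u

/-- The data of an exceptional group. -/
structure ExcSide {H : Type u} [Group H] (P : Subgroup H) (F : Type) [Field F] [Fintype F] (n : ℕ) :
    Prop where
  one_le : 1 ≤ n
  card_F : Fintype.card F = 2 ^ n
  iso : Nonempty (H ⧸ Cfsg.pCore 2 H ≃* Matrix.ProjectiveSpecialLinearGroup (Fin 2) F)
  elem : ∀ x ∈ Cfsg.pCore 2 H, x * x = 1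
  card_D : Nat.card ↥(Cfsg.pCore 2 H) = 2 ^ (2 * n)
  card_P : Nat.card ↥P = 2 ^ (3 * n)
  commutator_le : ∀ x ∈ P, ∀ y ∈ P, ∀ z ∈ P, Commute (x * y * x⁻¹ * y⁻¹) z
  sq_central : ∀ x ∈ P, ∀ z ∈ P, Commute (x * x) z
  abelian_le : ∀ B : Subgroup H, B ≤ P → IsMulCommutative ↥B → Nat.card ↥B ≤ (2 ^ n) ^ 2
  card_center : Nat.card ↥(P ⊓ centralizer (P : Set H)) = 2 ^ n

variable {S : Type u} [Group S] [Finite S] {H : Type u} [Group H] [Finite H]

/-- The image of a characteristic subgroup of a subgroup with normal image is normal. -/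
theorem normal_map_of_char_subgroupOf {τ : S →* H} (hτ : Function.Injective τ) {C S₂ : Subgroup S}
    (hC : (C.map τ).Normal) (hS₂ : S₂ ≤ C) (hchar : (S₂.subgroupOf C).Characteristic) :
    (S₂.map τ).Normal := by
  constructor
  rintro _ ⟨x, hx, rfl⟩ h
  set e := C.equivMapOfInjective τ hτ
  let c : MulAut ↥(C.map τ) := haveI := hC; MulAut.conjNormal h
  let φ : MulAut ↥C := (e.trans c).trans e.symm
  have h1 : φ ⟨x, hS₂ hx⟩ ∈ S₂.subgroupOf C :=
    Subgroup.characteristic_iff_map_le.1 hchar φ ⟨⟨x, hS₂ hx⟩, hx, rfl⟩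
  refine ⟨_, h1, ?_⟩
  have h2 : ((e (φ ⟨x, hS₂ hx⟩) : ↥(C.map τ)) : H) = h * τ x * h⁻¹ := by
    simp only [φ, c, MulEquiv.trans_apply, MulEquiv.apply_symm_apply, MulAut.conjNormal_apply]
    rfl
  rw [← h2]
  rfl

/-- If all abelian subgroups of largest order lie in `O₂(H)`, so does `C(Z(J))`, and it is normal. -/
theorem jt_normal (hH : IsCIT H) (hD : Cfsg.pCore 2 H ≠ ⊥) (τ : S →* H) (hτ : Function.Injective τ)
    (hP : ∃ P : Sylow 2 H, (P : Subgroup H) = τ.range)
    (hno : ∀ A ∈ Cfsg.maxAbelianSubgroups S, A.map τ ≤ Cfsg.pCore 2 H) :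
    ((centralizer (zj S : Set S)).map τ).Normal ∧
      (centralizer (zj S : Set S)).map τ ≤ Cfsg.pCore 2 H := by
  haveI : Fact (Nat.Prime 2) := ⟨Nat.prime_two⟩
  set D := Cfsg.pCore 2 H
  have hDR : D ≤ τ.range := by
    obtain ⟨P, hP⟩ := hP
    exact hP ▸ CfsgLib.PCore.pCore_le_sylow P
  set J := (Cfsg.thompsonSubgroupA S).map τ with hJ
  have hmem : ∀ A ∈ Cfsg.maxAbelianSubgroups S, A ≤ Cfsg.thompsonSubgroupA S := fun A hA =>
    le_sSup hA
  have hJD : J ≤ D := map_le_iff_le_comap.2 (sSup_le fun A hA => map_le_iff_le_comap.1 (hno A hA))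
  -- `J` is invariant
  have hJn : J.Normal := by
    constructor
    intro x hx h
    suffices hle : J ≤ J.comap (MulAut.conj h).toMonoidHom from hle hx
    refine map_le_iff_le_comap.2 (sSup_le fun A hA => ?_)
    intro a ha
    have hcm : ((A.map τ).map (MulAut.conj h).toMonoidHom) ≤ D := by
      rintro _ ⟨y, hy, rfl⟩
      exact Normal.conj_mem inferInstance _ (hno A hA hy) h
    set B := ((A.map τ).map (MulAut.conj h).toMonoidHom).comap τ with hB
    have hBm : B.map τ = (A.map τ).map (MulAut.conj h).toMonoidHom :=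
      map_comap_eq_self (hcm.trans hDR)
    have hBA : B ∈ Cfsg.maxAbelianSubgroups S := by
      refine ⟨?_, fun C hC => ?_⟩
      · haveI := hA.1
        haveI : IsMulCommutative ↥((A.map τ).map (MulAut.conj h).toMonoidHom) := inferInstance
        exact Subgroup.comap_injective_isMulCommutative _ hτ
      · rw [show Nat.card ↥B = Nat.card ↥A by
          rw [← card_map_of_injective hτ, hBm, card_map_of_injective (MulAut.conj h).injective,
            card_map_of_injective hτ]]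
        exact hA.2 C hC
    show h * τ a * h⁻¹ ∈ J
    have : h * τ a * h⁻¹ ∈ B.map τ := hBm ▸ ⟨τ a, mem_map_of_mem τ ha, rfl⟩
    exact map_mono (hmem B hBA) this
  -- the module lies in `J`
  have hVA : ∀ A ∈ Cfsg.maxAbelianSubgroups S, vSub H ≤ A.map τ := by
    intro A hA
    have hc : ∀ x ∈ A.map τ, ∀ v ∈ vSub H, Commute v x := fun x hx v hv =>
      vSub_comm hv (hno A hA hx)
    set W := A.map τ ⊔ vSub H
    haveI := hA.1
    have hWc : W ≤ centralizer (W : Set H) := by
      have h1 : ∀ x ∈ A.map τ, ∀ y ∈ A.map τ, x * y = y * x := fun x hx y hy =>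
        congrArg Subtype.val (mul_comm' (⟨x, hx⟩ : ↥(A.map τ)) ⟨y, hy⟩)
      refine sup_le ?_ ?_ <;> rw [le_centralizer_iff] <;> refine sup_le ?_ ?_ <;> intro x hx <;>
        rw [mem_centralizer_iff] <;> intro y hy
      · exact h1 y hy x hx
      · exact ((hc y hy x hx)).eq.symm
      · exact (hc x hx y hy).eq
      · exact (vSub_comm hy (vSub_le hx)).eq
    haveI : IsMulCommutative ↥W := ⟨⟨fun a b => Subtype.ext (mem_centralizer_iff.1 (hWc b.2) a a.2)⟩⟩
    have hWR : W ≤ τ.range := sup_le (map_le_range _ _) (vSub_le.trans hDR)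
    have h2 := hA.2 (W.comap τ) (Subgroup.comap_injective_isMulCommutative _ hτ)
    rw [← card_map_of_injective hτ (K := W.comap τ), map_comap_eq_self hWR,
      ← card_map_of_injective hτ (K := A)] at h2
    exact (eq_of_le_of_card_ge (show A.map τ ≤ W from le_sup_left) h2) ▸ le_sup_right
  obtain ⟨A₀, hA₀⟩ : ∃ A, A ∈ Cfsg.maxAbelianSubgroups S := by
    obtain ⟨A, hA, hmax⟩ := Set.exists_max_image {B : Subgroup S | IsMulCommutative ↥B}
      (fun B => Nat.card ↥B) (Set.toFinite _) ⟨⊥, ⟨⟨fun a b => Subsingleton.elim _ _⟩⟩⟩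
    exact ⟨A, hA, fun B hB => hmax B hB⟩
  have hzj : (zj S).map τ = J ⊓ centralizer (J : Set H) := by
    rw [zj, map_inf _ _ _ hτ, map_centralizer_eq hτ, ← hJ, ← inf_assoc,
      inf_eq_left.2 (map_le_range τ (Cfsg.thompsonSubgroupA S))]
  have hVzj : vSub H ≤ (zj S).map τ := by
    rw [hzj]
    refine le_inf ((hVA A₀ hA₀).trans (map_mono (hmem A₀ hA₀))) ?_
    rw [le_centralizer_iff, hJ, map_le_iff_le_comap]
    refine sSup_le fun A hA => map_le_iff_le_comap.1 ?_
    intro x hx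
    exact mem_centralizer_iff.2 fun v hv => (vSub_comm hv (hno A hA hx)).eq
  have hCm : (centralizer (zj S : Set S)).map τ = D ⊓ centralizer ((zj S).map τ : Set H) := by
    rw [map_centralizer_eq hτ]
    refine le_antisymm (le_inf ?_ inf_le_right) (inf_le_inf_right _ hDR)
    exact (inf_le_right.trans (centralizer_le hVzj)).trans (centralizer_vSub hH hD).le
  refine ⟨?_, hCm ▸ inf_le_left⟩
  rw [hCm]
  haveI := hJn
  haveI : ((zj S).map τ).Normal := by rw [hzj]; infer_instance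
  infer_instance

/-- The offender situation of a large abelian subgroup outside `O₂(H)`. -/
theorem exists_offData (hH : IsCIT H) (hD : Cfsg.pCore 2 H ≠ ⊥) (τ : S →* H)
    (hτ : Function.Injective τ) (P : Sylow 2 H) (hP : (P : Subgroup H) = τ.range)
    (hIH : Cfsg.pPrimeCore 2 (H ⧸ Cfsg.pCore 2 H) = ⊥ → ShapeAny (H ⧸ Cfsg.pCore 2 H))
    {A : Subgroup S} (hA : A ∈ Cfsg.maxAbelianSubgroups S) (hAD : ¬ A.map τ ≤ Cfsg.pCore 2 H) :
    ∃ (F : Type) (_ : Field F) (_ : Fintype F) (n : ℕ),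
      OffData (P : Subgroup H) (A.map τ) F n ∧ Cfsg.IsPushingUpSituation 2 τ.range := by
  haveI : Fact (Nat.Prime 2) := ⟨Nat.prime_two⟩
  haveI := hA.1
  obtain ⟨F, hFf, hFt, n, hd⟩ := offender hH hD P (A := A.map τ) (hP ▸ map_le_range τ A)
    inferInstance (fun B hB hBc => by
      haveI := hBc
      rw [← map_comap_eq_self (hB.trans hP.le), card_map_of_injective hτ, card_map_of_injective hτ]
      exact hA.2 _ (Subgroup.comap_injective_isMulCommutative _ hτ)) hAD hIH
  refine ⟨F, hFf, hFt, n, hd, ?_⟩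
  obtain ⟨e⟩ := hd.iso
  refine ⟨?_, ⟨P, hP⟩, hH.centralizer_pCore_le hD,
    hP ▸ CfsgLib.PushingUp.existsUnique_coatom P _ (CfsgLib.PCore.pCore_le_sylow P) hd.card_F e,
    Cfsg.pCore 2 H, inferInstance, F, hFf, hFt, n, hd.card_F, ⟨e⟩⟩
  intro e0
  exact hD (le_bot_iff.1 (le_top.trans e0.le))

/-- Outside the exceptional class a chosen characteristic subgroup is normal. -/
theorem pair_normal (hH : IsCIT H) (hD : Cfsg.pCore 2 H ≠ ⊥) (τ : S →* H) (hτ : Function.Injective τ)
    (P : Sylow 2 H) (hP : (P : Subgroup H) = τ.range)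
    (hIH : Cfsg.pPrimeCore 2 (H ⧸ Cfsg.pCore 2 H) = ⊥ → ShapeAny (H ⧸ Cfsg.pCore 2 H))
    (hn : ¬ (P : Subgroup H).Normal) {S₁ S₂ : Subgroup S} (h₁ : S₁ ≠ ⊥) (h₁c : S₁ ≤ center S)
    (h₂ : S₂ ≤ centralizer (zj S : Set S))
    (h₂c : (S₂.subgroupOf (centralizer (zj S : Set S))).Characteristic) (hgood : Good 2 S₁ S₂) :
    (S₂.map τ).Normal := by
  haveI : Fact (Nat.Prime 2) := ⟨Nat.prime_two⟩
  by_cases hno : ∀ A ∈ Cfsg.maxAbelianSubgroups S, A.map τ ≤ Cfsg.pCore 2 H
  · exact normal_map_of_char_subgroupOf hτ (jt_normal hH hD τ hτ ⟨P, hP⟩ hno).1 h₂ h₂c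
  push Not at hno
  obtain ⟨A, hA, hAD⟩ := hno
  obtain ⟨F, hFf, hFt, n, -, hsit⟩ := exists_offData hH hD τ hτ P hP hIH hA hAD
  refine (hgood H τ hτ hsit).resolve_left fun h1 => hn ?_
  haveI := h1
  have hle : (P : Subgroup H) ≤ centralizer (S₁.map τ : Set H) := by
    rw [hP, le_centralizer_iff]
    rintro _ ⟨x, hx, rfl⟩
    rw [mem_centralizer_iff]
    rintro _ ⟨s, rfl⟩
    rw [← map_mul, ← map_mul, Subgroup.mem_center_iff.1 (h₁c hx) s]
  have h2 : IsPGroup 2 (S₁.map τ) := P.isPGroup'.to_le (hP ▸ map_le_range τ S₁)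
  have hne : S₁.map τ ≠ ⊥ := fun e => h₁ ((map_eq_bot_iff_of_injective _ hτ).1 e)
  have hD' : (P : Subgroup H) = Cfsg.pCore 2 H := le_antisymm
    (hle.trans (CfsgLib.PCore.le_pCore inferInstance (hH.centralizer_isPGroup h2 hne)))
    (CfsgLib.PCore.pCore_le_sylow P)
  rw [hD']
  infer_instance

/-- The exceptional class forces the structure `2 ^ (2 n) : PSL₂(2 ^ n)`. -/
theorem exc_side (hH : IsCIT H) (hD : Cfsg.pCore 2 H ≠ ⊥) (τ : S →* H) (hτ : Function.Injective τ)
    (P : Sylow 2 H) (hP : (P : Subgroup H) = τ.range)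
    (hIH : Cfsg.pPrimeCore 2 (H ⧸ Cfsg.pCore 2 H) = ⊥ → ShapeAny (H ⧸ Cfsg.pCore 2 H))
    (hn : ¬ (P : Subgroup H).Normal) (hexc : Exc 2 S) :
    ∃ (F : Type) (_ : Field F) (_ : Fintype F) (n : ℕ), ExcSide (P : Subgroup H) F n := by
  haveI : Fact (Nat.Prime 2) := ⟨Nat.prime_two⟩
  obtain ⟨-, hJ, hZ, -, hΦ, -, -, hcard⟩ := hexc
  set D := Cfsg.pCore 2 H with hDdef
  have hDP : D ≤ (P : Subgroup H) := CfsgLib.PCore.pCore_le_sylow P
  have hS2 : IsPGroup 2 S := fun s => by
    obtain ⟨k, hk⟩ := P.isPGroup' ⟨τ s, hP ▸ ⟨s, rfl⟩⟩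
    exact ⟨k, hτ (by rw [map_pow, map_one]; exact congrArg Subtype.val hk)⟩
  -- some large abelian subgroup is outside
  obtain ⟨A, hA, hAD⟩ : ∃ A ∈ Cfsg.maxAbelianSubgroups S, ¬ A.map τ ≤ D := by
    by_contra hno
    push Not at hno
    apply hn
    have h1 : (⊤ : Subgroup S).map τ ≤ D := by
      rw [← hJ]
      exact map_le_iff_le_comap.2 (sSup_le fun A hA => map_le_iff_le_comap.1 (hno A hA))
    rw [← MonoidHom.range_eq_map, ← hP] at h1
    rw [le_antisymm h1 hDP]
    infer_instance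
  obtain ⟨F, hFf, hFt, n, hd, -⟩ := exists_offData hH hD τ hτ P hP hIH hA hAD
  -- the centre lies in the module
  have hZV : (center S).map τ ≤ vSub H := by
    rintro _ ⟨z, hz, rfl⟩
    have hc : τ z ∈ centralizer (D : Set H) := mem_centralizer_iff.2 fun d hdD => by
      obtain ⟨s, rfl⟩ := (hP ▸ hDP hdD : d ∈ τ.range)
      rw [← map_mul, ← map_mul, Subgroup.mem_center_iff.1 hz s]
    refine ⟨hH.centralizer_pCore_le hD hc, hc, ?_⟩
    rw [← map_mul, ← pow_two, hZ.2 z hz, map_one]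
  have hcomm : ∀ s t : S, s * t * s⁻¹ * t⁻¹ ∈ center S := fun s t =>
    hΦ rfl (CfsgLib.PGroup.commutator_le_frattini hS2 (commutator_def S ▸
      commutator_mem_commutator (mem_top s) (mem_top t)))
  have hsq : ∀ s : S, s * s ∈ center S := fun s => by
    rw [← pow_two]; exact hΦ rfl (CfsgLib.PGroup.pow_mem_frattini hS2 s)
  -- `H` centralises `D / V`
  let K : Subgroup H :=
    { carrier := {g | ∀ d ∈ D, g * d * g⁻¹ * d⁻¹ ∈ vSub H}
      one_mem' := fun d _ => by simp
      mul_mem' := by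
        intro a b ha hb d hdD
        have h1 := ha _ (Normal.conj_mem (inferInstance : D.Normal) d hdD b)
        rw [show a * b * d * (a * b)⁻¹ * d⁻¹ =
          a * (b * d * b⁻¹) * a⁻¹ * (b * d * b⁻¹)⁻¹ * (b * d * b⁻¹ * d⁻¹) by group]
        exact mul_mem h1 (hb d hdD)
      inv_mem' := by
        intro a ha d hdD
        have h1 := inv_mem (ha _ (Normal.conj_mem (inferInstance : D.Normal) d hdD a⁻¹))
        rw [inv_inv, show (a * (a⁻¹ * d * a) * a⁻¹ * (a⁻¹ * d * a)⁻¹)⁻¹ = a⁻¹ * d * a * d⁻¹ by group]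
          at h1
        simpa using h1 }
  have hKn : K.Normal := by
    constructor
    intro g hg h d hdD
    have h1 := conj_mem_vSub h (hg _ (Normal.conj_mem (inferInstance : D.Normal) d hdD h⁻¹))
    simp only [inv_inv] at h1
    convert h1 using 1
    group
  have hPK : (P : Subgroup H) ≤ K := by
    intro g hg d hdD
    obtain ⟨s, rfl⟩ := (hP ▸ hg : g ∈ τ.range)
    obtain ⟨t, rfl⟩ := (hP ▸ hDP hdD : d ∈ τ.range)
    rw [← map_inv, ← map_inv, ← map_mul, ← map_mul, ← map_mul]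
    exact hZV (mem_map_of_mem τ (hcomm s t))
  obtain ⟨ε⟩ := hd.iso
  have hKtop : K = ⊤ := by
    set φ := ε.toMonoidHom.comp (QuotientGroup.mk' D) with hφ'
    have hφ : Function.Surjective φ := ε.surjective.comp (QuotientGroup.mk'_surjective D)
    obtain ⟨-, hnum, -, -, hsup⟩ := CfsgLib.PushingUp.psl_two_sylow (p := 2) hd.card_F
    set R := P.mapSurjective hφ
    haveI : Nontrivial (Sylow 2 (Matrix.ProjectiveSpecialLinearGroup (Fin 2) F)) :=
      Finite.one_lt_card_iff_nontrivial.1 (by have := Fintype.card_pos (α := F); omega)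
    obtain ⟨R', hR'⟩ := exists_ne R
    obtain ⟨x, hx⟩ := MulAction.exists_smul_eq (Matrix.ProjectiveSpecialLinearGroup (Fin 2) F) R R'
    obtain ⟨g, rfl⟩ := hφ x
    have h1 : K.map φ = ⊤ := by
      rw [eq_top_iff, ← (hsup _ _ hR').1]
      refine sup_le ?_ ((Sylow.coe_mapSurjective hφ P).le.trans (map_mono hPK))
      rw [← hx]
      rintro _ ⟨_, ⟨s, hs, rfl⟩, rfl⟩
      exact ⟨g * s * g⁻¹, hKn.conj_mem _ (hPK hs) g, by simp⟩
    have hker : φ.ker = D := by
      ext x
      rw [MonoidHom.mem_ker]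
      show ε (QuotientGroup.mk' D x) = 1 ↔ _
      rw [MulEquiv.map_eq_one_iff]
      exact QuotientGroup.eq_one_iff x
    rw [← comap_map_eq_self (f := φ) (H := K) (hker.le.trans (hDP.trans hPK)), h1, comap_top]
  have hDV : D ≤ vSub H := by
    obtain ⟨y, -, p, hp, hp2, hyp⟩ : ∃ y ∈ (⊤ : Subgroup H), ∃ p : ℕ, p.Prime ∧ p ≠ 2 ∧ orderOf y = p := by
      refine exists_odd_prime_order fun h => hn ?_
      rw [← P.is_maximal' h le_top]
      infer_instance
    have hyo : Odd (orderOf y) := hyp ▸ hp.odd_of_ne_two hp2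
    intro d hdD
    haveI := vSub_normal (G := H)
    have hD2 : IsPGroup 2 D := CfsgLib.PCore.pCore_isPGroup
    obtain ⟨c, ⟨hcD, hcy⟩, hdc⟩ := CfsgLib.Coprime.exists_centralizing_rep (zpowers y) D
      le_normalizer_of_normal (by
        obtain ⟨k, hk⟩ := hD2.exists_card_eq
        rw [hk, Nat.card_zpowers]
        exact Nat.Coprime.pow_right _ (Nat.coprime_two_right.2 hyo))
      (Or.inl inferInstance) (vSub H) vSub_le le_normalizer_of_normal hdD (fun a _ => by
        have ha : a ∈ K := hKtop ▸ mem_top a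
        have h1 := conj_mem_vSub d⁻¹ (ha d hdD)
        rw [show d⁻¹ * (a * d * a⁻¹) = d⁻¹ * (a * d * a⁻¹ * d⁻¹) * d⁻¹⁻¹ by group]
        exact h1)
    have hc1 : c = 1 := by
      by_contra hc
      exact absurd (hH.eq_one_of_commute (isTwo_of_mem hD2 hcD) hc hyo
        (mem_centralizer_iff.1 hcy y (mem_zpowers y))) (fun e => hp.ne_one (by rw [← hyp, e, orderOf_one]))
    rw [hc1, mul_one] at hdc
    exact inv_mem_iff.1 hdc
  have hDV' : D = vSub H := le_antisymm hDV vSub_le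
  have hcD : Nat.card ↥D = 2 ^ (2 * n) := by rw [hDV', hd.card_V]
  have hcP : Nat.card ↥(P : Subgroup H) = 2 ^ (3 * n) := by
    rw [hd.card_T, ← hDdef, hcD, ← pow_add]; congr 1; omega
  have hcA : Nat.card ↥A = 2 ^ n * 2 ^ n := by
    rw [← card_map_of_injective hτ (K := A), ← (D.subgroupOf (A.map τ)).card_mul_index]
    congr 1
    · rw [← inf_subgroupOf_left, Nat.card_congr (subgroupOfEquivOfLe inf_le_left).toEquiv, hDV',
        inf_comm]
      exact hd.card_inter
    · have h1 : D.relIndex (A.map τ) ∣ 2 ^ n := by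
        have hAT : (A.map τ) ⊔ D ≤ (P : Subgroup H) := sup_le (hP ▸ map_le_range τ A) hDP
        have h3 : D.relIndex (A.map τ) ∣ D.relIndex (P : Subgroup H) := by
          rw [← Subgroup.relIndex_sup_right (A.map τ) D]
          exact Dvd.intro _ (Subgroup.relIndex_mul_relIndex D _ _ le_sup_right hAT)
        refine h3.trans ?_
        have h4 := (D.subgroupOf (P : Subgroup H)).card_mul_index
        rw [Nat.card_congr (subgroupOfEquivOfLe hDP).toEquiv, hd.card_T, ← hDdef, mul_comm] at h4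
        exact (Nat.eq_of_mul_eq_mul_right Nat.card_pos h4).dvd
      obtain ⟨j, hj, hj'⟩ := (Nat.dvd_prime_pow Nat.prime_two).1 h1
      show D.relIndex (A.map τ) = _
      rw [hj']
      congr 1
      by_contra hne
      -- the fixed points of the quotient are too small
      have hjn : j < n := lt_of_le_of_ne hj hne
      have hAc : Nat.card ↥(D ⊓ A.map τ) * 2 ^ j = Nat.card ↥(A.map τ) := by
        rw [← hj', ← (D.subgroupOf (A.map τ)).card_mul_index]
        congr 1
        rw [← inf_subgroupOf_right, Nat.card_congr (subgroupOfEquivOfLe inf_le_right).toEquiv]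
      have hmax := hA.2 (D.comap τ) ⟨⟨fun a b => Subtype.ext (hτ (by
        show τ (a.1 * b.1) = τ (b.1 * a.1)
        rw [map_mul, map_mul]
        exact (vSub_comm (hDV a.2) b.2).eq))⟩⟩
      rw [← card_map_of_injective hτ (K := D.comap τ), map_comap_eq_self (hP ▸ hDP),
        ← card_map_of_injective hτ (K := A), ← hAc, hDV', hd.card_inter, ← hDV', hcD, two_mul,
        pow_add] at hmax
      have := Nat.le_of_mul_le_mul_left hmax (by positivity)
      have := (Nat.pow_le_pow_iff_right (by norm_num)).1 this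
      omega
  have hcS : Nat.card S = 2 ^ (3 * n) := by
    rw [← hcP, hP, Nat.card_congr (MonoidHom.ofInjective hτ).toEquiv]
  have hcZ : Nat.card ↥(center S) = 2 ^ n := by
    have h := (hcard A hA A hA ⊥).1
    rw [hcA, hcS] at h
    refine Nat.eq_of_mul_eq_mul_left (show 0 < 2 ^ (3 * n) by positivity) ?_
    rw [← h]
    ring
  refine ⟨F, hFf, hFt, n, hd.one_le, hd.card_F, hd.iso, fun x hx => vSub_sq (hDV hx), hcD, hcP,
    ?_, ?_, ?_, ?_⟩
  · intro x hx y hy z hz
    obtain ⟨s, rfl⟩ := (hP ▸ hx : x ∈ τ.range)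
    obtain ⟨t, rfl⟩ := (hP ▸ hy : y ∈ τ.range)
    obtain ⟨r, rfl⟩ := (hP ▸ hz : z ∈ τ.range)
    have := Subgroup.mem_center_iff.1 (hcomm s t) r
    show _ * τ r = τ r * _
    rw [← map_inv, ← map_inv, ← map_mul, ← map_mul, ← map_mul, ← map_mul, ← map_mul, this]
  · intro x hx z hz
    obtain ⟨s, rfl⟩ := (hP ▸ hx : x ∈ τ.range)
    obtain ⟨r, rfl⟩ := (hP ▸ hz : z ∈ τ.range)
    have := Subgroup.mem_center_iff.1 (hsq s) r
    show _ * τ r = τ r * _
    rw [← map_mul, ← map_mul, ← map_mul, this]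
  · intro B hB hBc
    haveI := hBc
    rw [← map_comap_eq_self (hB.trans hP.le), card_map_of_injective hτ]
    refine (hA.2 _ (Subgroup.comap_injective_isMulCommutative _ hτ)).trans (le_of_eq ?_)
    rw [hcA, sq]
  · rw [hP, ← map_center_eq hτ, card_map_of_injective hτ, hcZ]

end CfsgLib.CIT
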