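import Mathlib
import Cfsg.Agent.Lib.CIT.Local
import Cfsg.Agent.Lib.CIT.Defs

/-!
# A characteristic subgroup normal in every local subgroup, outside one configuration
-/

set_option autoImplicit false
set_option linter.style.haveILetI false

namespace CfsgLib.CIT

open Subgroup CfsgLib.PushingUp.Family

universe u

variable {G : Type u} [Group G] [Finite G]

/-- The groups of smaller order satisfy the classification. -/
def Smaller (G : Type u) [Group G] : Prop :=
  ∀ (Q : Type u) [Group Q] [Finite Q], Nat.card Q < Nat.card G → IsCIT Q → Cfsg.pCore 2 Q = ⊥ →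
    Cfsg.pPrimeCore 2 Q = ⊥ → Nontrivial Q → ShapeAny Q

/-- `T` is a Sylow 2-subgroup of `X`. -/
def SylowIn (X T : Subgroup G) : Prop :=
  IsPGroup 2 T ∧ T ≤ X ∧ ∀ Q : Subgroup G, IsPGroup 2 Q → T ≤ Q → Q ≤ X → Q = T

open scoped Classical in
/-- A characteristic subgroup of a 2-subgroup: itself in the exceptional class. -/
noncomputable def functor (T : Subgroup G) : Subgroup G :=
  if h : IsPGroup 2 T ∧ Nontrivial ↥T ∧ ¬ Exc 2 ↥T then
    haveI := h.2.1
    haveI : Fact (Nat.Prime 2) := ⟨Nat.prime_two⟩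
    ((pair_exists h.1 h.2.2).choose_spec.choose).map T.subtype
  else T

theorem functor_le (T : Subgroup G) : functor T ≤ T := by
  rw [functor]
  split
  · exact map_subtype_le _
  · exact le_rfl

theorem functor_of_exc {T : Subgroup G} (h : Exc 2 ↥T) : functor T = T := by
  rw [functor, dif_neg fun hh => hh.2.2 h]

theorem functor_ne_bot {T : Subgroup G} (hT : T ≠ ⊥) : functor T ≠ ⊥ := by
  rw [functor]
  split
  next h =>
    haveI := h.2.1
    haveI : Fact (Nat.Prime 2) := ⟨Nat.prime_two⟩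
    rw [Ne, map_eq_bot_iff_of_injective _ T.subtype_injective]
    exact (pair_exists h.1 h.2.2).choose_spec.choose_spec.2.1
  next => exact hT

theorem normalizer_le_functor (T : Subgroup G) :
    normalizer (T : Set G) ≤ normalizer (functor T : Set G) := by
  rw [functor]
  split
  next h =>
    haveI := h.2.1
    haveI : Fact (Nat.Prime 2) := ⟨Nat.prime_two⟩
    have hc := (pair_exists h.1 h.2.2).choose_spec.choose_spec.2.2.2.1
    set C := (pair_exists h.1 h.2.2).choose_spec.choose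
    intro g hg
    let φ : ↥T ≃* ↥T :=
      { toFun := fun x => ⟨g * x * g⁻¹, (mem_normalizer_iff.1 hg _).1 x.2⟩
        invFun := fun x => ⟨g⁻¹ * x * g, by
          simpa using (mem_normalizer_iff.1 (inv_mem hg) _).1 x.2⟩
        left_inv := fun x => by apply Subtype.ext; simp [mul_assoc]
        right_inv := fun x => by apply Subtype.ext; simp [mul_assoc]
        map_mul' := fun x y => by apply Subtype.ext; simp [mul_assoc] }
    rw [mem_normalizer_iff]
    intro x
    constructor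
    · rintro ⟨y, hy, rfl⟩
      exact ⟨φ y, characteristic_iff_map_le.1 hc φ ⟨y, hy, rfl⟩, rfl⟩
    · rintro ⟨y, hy, e⟩
      refine ⟨φ.symm y, characteristic_iff_map_le.1 hc φ.symm ⟨y, hy, rfl⟩, ?_⟩
      show g⁻¹ * (y : G) * g = x
      rw [show (y : G) = g * x * g⁻¹ from e]; group
  next => exact le_rfl

/-- A side of an exceptional configuration. -/
structure Side (V T : Subgroup G) (F : Type) [Field F] [Fintype F] (n : ℕ) : Prop where
  one_le : 1 ≤ n
  card_F : Fintype.card F = 2 ^ n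
  q : QSide V T F
  commutator_le : ∀ x ∈ T, ∀ y ∈ T, ∀ z ∈ T, Commute (x * y * x⁻¹ * y⁻¹) z
  sq_central : ∀ x ∈ T, ∀ z ∈ T, Commute (x * x) z
  abelian_le : ∀ B : Subgroup G, B ≤ T → IsMulCommutative ↥B → Nat.card ↥B ≤ (2 ^ n) ^ 2
  card_center : Nat.card ↥(T ⊓ centralizer (T : Set G)) = 2 ^ n

theorem sylow_subgroupOf {X T : Subgroup G} (h : SylowIn X T) :
    ∃ P : Sylow 2 ↥X, (P : Subgroup ↥X) = T.subgroupOf X := by
  obtain ⟨hT, hTX, hmax⟩ := h
  obtain ⟨P, hP⟩ := (hT.comap_of_injective X.subtype X.subtype_injective :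
    IsPGroup 2 (T.subgroupOf X)).exists_le_sylow
  refine ⟨P, le_antisymm ?_ hP⟩
  have h1 := hmax ((P : Subgroup ↥X).map X.subtype) (P.isPGroup'.map _) (by
    rw [← map_subgroupOf_eq_of_le hTX]; exact map_mono hP) (map_subtype_le _)
  intro x hx
  exact mem_subgroupOf.2 (h1 ▸ mem_map_of_mem X.subtype hx)

/-- In a local subgroup the functor is normal, or the configuration appears. -/
theorem local_cases (hG : IsCIT G) (hS : Smaller G) {X T D : Subgroup G} (hT : SylowIn X T)
    (hD : IsPGroup 2 D) (hD1 : D ≠ ⊥) (hDX : D ≤ X) (hXD : X ≤ normalizer (D : Set G)) :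
    X ≤ normalizer (functor T : Set G) ∨ (functor T = T ∧
      ∃ (F : Type) (_ : Field F) (_ : Fintype F) (n : ℕ), ExcSide (T.subgroupOf X) F n) := by
  classical
  haveI : Fact (Nat.Prime 2) := ⟨Nat.prime_two⟩
  obtain ⟨P, hP⟩ := sylow_subgroupOf hT
  by_cases hn : (P : Subgroup ↥X).Normal
  · left
    refine le_trans (fun x hx => ?_) (normalizer_le_functor T)
    rw [hP] at hn
    rw [mem_normalizer_iff]
    intro y
    constructor
    · exact fun hy => hn.conj_mem ⟨y, hT.2.1 hy⟩ hy ⟨x, hx⟩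
    · intro hy
      have h1 := hn.conj_mem ⟨x * y * x⁻¹, hT.2.1 hy⟩ hy ⟨x, hx⟩⁻¹
      have e : x⁻¹ * (x * y * x⁻¹) * x⁻¹⁻¹ = y := by group
      rw [mem_subgroupOf] at h1
      simpa [mul_assoc] using h1
  have hDn : (D.subgroupOf X).Normal := ⟨fun d hd g => (mem_normalizer_iff.1 (hXD g.2) d).1 hd⟩
  have hO : Cfsg.pCore 2 ↥X ≠ ⊥ := by
    intro e
    have h1 := CfsgLib.PCore.le_pCore hDn (hD.comap_of_injective X.subtype X.subtype_injective)
    rw [e, le_bot_iff, subgroupOf_eq_bot, disjoint_iff, inf_eq_left.2 hDX] at h1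
    exact hD1 h1
  have hX := hG.subgroup X
  set τ := Subgroup.inclusion hT.2.1 with hτdef
  have hτ : Function.Injective τ := Subgroup.inclusion_injective _
  have hrange : (P : Subgroup ↥X) = τ.range := hP.trans (Subgroup.inclusion_range hT.2.1).symm
  have hIH : Cfsg.pPrimeCore 2 (↥X ⧸ Cfsg.pCore 2 ↥X) = ⊥ → ShapeAny (↥X ⧸ Cfsg.pCore 2 ↥X) := by
    intro hO'
    refine hS _ ?_ (hX.quotient _ CfsgLib.PCore.pCore_isPGroup) CfsgLib.PCore.pCore_quotient_pCore
      hO' ?_
    · refine lt_of_lt_of_le ?_ (Subgroup.card_le_card_group X)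
      rw [Subgroup.card_eq_card_quotient_mul_card_subgroup (Cfsg.pCore 2 ↥X)]
      haveI : Nontrivial ↥(Cfsg.pCore 2 ↥X) := (Subgroup.nontrivial_iff_ne_bot _).2 hO
      exact Nat.lt_mul_iff_one_lt_right Nat.card_pos |>.2 Finite.one_lt_card
    · by_contra hsub
      rw [not_nontrivial_iff_subsingleton] at hsub
      apply hn
      rw [show (P : Subgroup ↥X) = ⊤ from top_le_iff.1 fun x _ =>
        CfsgLib.PCore.pCore_le_sylow P ((QuotientGroup.eq_one_iff x).1 (Subsingleton.elim _ _))]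
      infer_instance
  have hTnt : Nontrivial ↥T := by
    rw [Subgroup.nontrivial_iff_ne_bot]
    intro e
    apply hn
    rw [hP, e, bot_subgroupOf]
    infer_instance
  by_cases hexc : Exc 2 ↥T
  · exact Or.inr ⟨functor_of_exc hexc, hP ▸ exc_side hX hO τ hτ P hrange hIH hn hexc⟩
  left
  rw [functor, dif_pos ⟨hT.1, hTnt, hexc⟩]
  haveI := hTnt
  obtain ⟨h1, h2, -, -, h1c, h2c, h2k, -, hgood⟩ :=
    (pair_exists hT.1 hexc).choose_spec.choose_spec
  have hN := pair_normal hX hO τ hτ P hrange hIH hn h1 h1c h2c h2k hgood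
  set C := (pair_exists hT.1 hexc).choose_spec.choose
  intro x hx
  rw [mem_normalizer_iff]
  intro y
  constructor
  · rintro ⟨z, hz, rfl⟩
    obtain ⟨w, hw, e⟩ := hN.conj_mem (τ z) (mem_map_of_mem τ hz) ⟨x, hx⟩
    exact ⟨w, hw, congrArg Subtype.val e⟩
  · rintro ⟨z, hz, hze⟩
    obtain ⟨w, hw, e⟩ := hN.conj_mem (τ z) (mem_map_of_mem τ hz) ⟨x, hx⟩⁻¹
    refine ⟨w, hw, ?_⟩
    have e' : (w : G) = x⁻¹ * (z : G) * x⁻¹⁻¹ := congrArg Subtype.val e
    show (w : G) = y
    rw [e', show (z : G) = x * y * x⁻¹ from hze]; group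

/-- The exceptional side of a normalizer. -/
theorem side_of_excSide (hG : IsCIT G) {V T : Subgroup G} (hV1 : V ≠ ⊥)
    (hT : SylowIn (normalizer (V : Set G)) T)
    (hV : (Cfsg.pCore 2 ↥(normalizer (V : Set G))).map (normalizer (V : Set G)).subtype = V)
    {F : Type} [Field F] [Fintype F] {n : ℕ}
    (h : ExcSide (T.subgroupOf (normalizer (V : Set G))) F n) : Side V T F n := by
  haveI : Fact (Nat.Prime 2) := ⟨Nat.prime_two⟩
  set X := normalizer (V : Set G) with hX
  obtain ⟨hT2, hTX, hmax⟩ := hT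
  have hVX : V ≤ X := le_normalizer
  have hsub : V.subgroupOf X = Cfsg.pCore 2 ↥X := by
    rw [subgroupOf]
    conv_lhs => rw [← hV]
    exact comap_map_eq_self_of_injective X.subtype_injective _
  have hVO : ∀ x ∈ V, ∃ x' : ↥X, x' ∈ Cfsg.pCore 2 ↥X ∧ (x' : G) = x := fun x hx =>
    ⟨⟨x, hVX hx⟩, hsub ▸ mem_subgroupOf.2 hx, rfl⟩
  obtain ⟨P, hP⟩ := sylow_subgroupOf ⟨hT2, hTX, hmax⟩
  have helem : ∀ x ∈ V, x * x = 1 := by
    intro x hx
    obtain ⟨x', hx', rfl⟩ := hVO x hx
    exact congrArg Subtype.val (h.elem x' hx')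
  have hVT : V ≤ T := by
    intro x hx
    obtain ⟨x', hx', rfl⟩ := hVO x hx
    exact mem_subgroupOf.1 (hP ▸ CfsgLib.PCore.pCore_le_sylow P hx')
  have hVc : V ≤ centralizer (V : Set G) := by
    intro x hx
    rw [mem_centralizer_iff]
    intro y hy
    have h1 := helem _ (mul_mem hx hy)
    calc y * x = x * x * (y * x) * (y * y) := by rw [helem x hx, helem y hy, one_mul, mul_one]
      _ = x * (x * y * (x * y)) * y := by group
      _ = _ := by rw [h1, mul_one]
  have hV2 : IsPGroup 2 V := hT2.to_le hVT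
  have hC : centralizer (V : Set G) = V := by
    refine le_antisymm ?_ hVc
    have hCX : centralizer (V : Set G) ≤ X := centralizer_le_normalizer _
    have hn : ((centralizer (V : Set G)).subgroupOf X).Normal := by
      constructor
      intro c hc g
      rw [mem_subgroupOf, mem_centralizer_iff] at hc ⊢
      intro v hv
      have h1 := hc _ ((mem_normalizer_iff''.1 g.2 v).1 hv)
      show v * ((g : G) * c * (g : G)⁻¹) = (g : G) * c * (g : G)⁻¹ * v
      calc v * ((g : G) * c * (g : G)⁻¹) = g * ((g : G)⁻¹ * v * g * c) * (g : G)⁻¹ := by group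
        _ = _ := by rw [h1]; group
    intro c hc
    rw [← hV]
    exact ⟨⟨c, hCX hc⟩, CfsgLib.PCore.le_pCore hn
      ((hG.centralizer_isPGroup hV2 hV1).comap_of_injective X.subtype X.subtype_injective) hc, rfl⟩
  have hcast : ∀ B : Subgroup G, B ≤ X → Nat.card ↥(B.subgroupOf X) = Nat.card ↥B := fun B hB =>
    Nat.card_congr (subgroupOfEquivOfLe hB).toEquiv
  have hcardV : Nat.card ↥V = Fintype.card F ^ 2 := by
    rw [← hcast V hVX, hsub, h.card_D, h.card_F, ← pow_mul, mul_comm]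
  have hcardT : Nat.card ↥T = Fintype.card F ^ 3 := by
    rw [← hcast T hTX, h.card_P, h.card_F, ← pow_mul, mul_comm]
  have hmem : ∀ x, x ∈ T → ∃ x' : ↥X, x' ∈ T.subgroupOf X ∧ (x' : G) = x :=
    fun x hx => ⟨⟨x, hTX hx⟩, mem_subgroupOf.2 hx, rfl⟩
  obtain ⟨e⟩ := h.iso
  refine ⟨h.one_le, h.card_F, ⟨helem, hcardV, hC, hVT, hTX, hcardT, hmax, ?_⟩, ?_, ?_, ?_, ?_⟩
  · exact ⟨(QuotientGroup.quotientMulEquivOfEq hsub).trans e⟩
  · intro x hx y hy z hz
    obtain ⟨x', hx', rfl⟩ := hmem x hx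
    obtain ⟨y', hy', rfl⟩ := hmem y hy
    obtain ⟨z', hz', rfl⟩ := hmem z hz
    exact (h.commutator_le x' hx' y' hy' z' hz').map X.subtype
  · intro x hx z hz
    obtain ⟨x', hx', rfl⟩ := hmem x hx
    obtain ⟨z', hz', rfl⟩ := hmem z hz
    exact (h.sq_central x' hx' z' hz').map X.subtype
  · intro B hB hBc
    haveI := hBc
    rw [← hcast B (hB.trans hTX)]
    exact h.abelian_le _ (comap_mono hB) inferInstance
  · rw [← h.card_center, ← hcast _ (inf_le_left.trans hTX)]
    congr 2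
    ext x
    simp only [mem_subgroupOf, mem_inf, mem_centralizer_iff, SetLike.mem_coe]
    refine and_congr_right fun _ => ⟨fun hc y hy => Subtype.ext (hc y hy), fun hc y hy => ?_⟩
    exact congrArg Subtype.val (hc ⟨y, hTX hy⟩ hy)

end CfsgLib.CIT
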