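import Mathlib
import Cfsg.Agent.Lib.CIT.Functor
import Cfsg.Agent.Lib.Involutions.StronglyEmbedded
import Cfsg.Agent.Lib.ClassicalGroups.PermModel

/-!
# Control of 2-local subgroups

All normalizers of nontrivial 2-subgroups of `M` lie in `M`, unless a non-Sylow exceptional side occurs.
-/

set_option autoImplicit false
set_option linter.style.haveILetI false

namespace CfsgLib.CIT

open Subgroup CfsgLib.Involutions

universe u

variable {G : Type u} [Group G] [Finite G]

theorem two_sylow_conj {S : Sylow 2 G} {T : Subgroup G} (hT : IsPGroup 2 T)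
    (hc : Nat.card ↥T = Nat.card ↥(S : Subgroup G)) {M : Subgroup G} (hSM : (S : Subgroup G) ≤ M)
    (hTM : T ≤ M) : ∃ g ∈ M, ∀ x : G, x ∈ T ↔ g⁻¹ * x * g ∈ (S : Subgroup G) := by
  haveI : Fact (Nat.Prime 2) := ⟨Nat.prime_two⟩
  obtain ⟨Q, hQ⟩ := (hT.comap_of_injective M.subtype M.subtype_injective :
    IsPGroup 2 (T.subgroupOf M)).exists_le_sylow
  obtain ⟨g, hg⟩ := MulAction.exists_smul_eq ↥M (S.subtype hSM) Q
  have hTS : T ≤ (S : Subgroup G).map (MulAut.conj (g : G)).toMonoidHom := by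
    intro x hx
    have h1 : (⟨x, hTM hx⟩ : ↥M) ∈ ((g • S.subtype hSM : Sylow 2 ↥M) : Subgroup ↥M) :=
      hg ▸ hQ (mem_subgroupOf.2 hx)
    rw [Sylow.coe_subgroup_smul, mem_pointwise_smul_iff_inv_smul_mem, Sylow.coe_subtype,
      mem_subgroupOf] at h1
    refine ⟨_, h1, ?_⟩
    simp [mul_assoc]
  have heq := eq_of_le_of_card_ge hTS (by
    rw [card_map_of_injective (K := (S : Subgroup G)) (MulAut.conj (g : G)).injective, hc])
  exact ⟨g, g.2, fun x => by rw [heq, mem_map_conj_iff]⟩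

theorem card_le_sylow (S : Sylow 2 G) {U : Subgroup G} (hU : IsPGroup 2 U) :
    Nat.card ↥U ≤ Nat.card ↥(S : Subgroup G) := by
  haveI : Fact (Nat.Prime 2) := ⟨Nat.prime_two⟩
  obtain ⟨Q, hQ⟩ := hU.exists_le_sylow
  exact (card_le_of_le hQ).trans (le_of_eq (Sylow.card_eq_multiplicity Q |>.trans
    (Sylow.card_eq_multiplicity S).symm))

theorem sylowIn_of_card (S : Sylow 2 G) {X T : Subgroup G} (hT : IsPGroup 2 T) (hTX : T ≤ X)
    (hc : Nat.card ↥T = Nat.card ↥(S : Subgroup G)) : SylowIn X T :=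
  ⟨hT, hTX, fun _ hQ hTQ _ => (eq_of_le_of_card_ge hTQ (hc ▸ card_le_sylow S hQ)).symm⟩

/-- The normalizer of the 2-core of a local subgroup. -/
theorem normalizer_cases (hG : IsCIT G) (hS : Smaller G) {X T D : Subgroup G} (hT : SylowIn X T)
    (hD : IsPGroup 2 D) (hD1 : D ≠ ⊥) (hDX : D ≤ X) (hXD : X ≤ normalizer (D : Set G)) :
    X ≤ normalizer (functor T : Set G) ∨ ∃ D₀ : Subgroup G, IsPGroup 2 D₀ ∧ D₀ ≠ ⊥ ∧
      X ≤ normalizer (D₀ : Set G) ∧ T ≤ normalizer (D₀ : Set G) ∧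
      (SylowIn (normalizer (D₀ : Set G)) T → X ≤ normalizer (functor T : Set G) ∨ (functor T = T ∧
        ∃ (F : Type) (_ : Field F) (_ : Fintype F) (n : ℕ), Side D₀ T F n)) := by
  haveI : Fact (Nat.Prime 2) := ⟨Nat.prime_two⟩
  rcases local_cases hG hS hT hD hD1 hDX hXD with h | ⟨-, F₀, i1, i2, n₀, h0⟩
  · exact Or.inl h
  right
  set D₀ := (Cfsg.pCore 2 ↥X).map X.subtype with hD₀
  have hD₀2 : IsPGroup 2 D₀ := CfsgLib.PCore.pCore_isPGroup.map _
  have hD₀1 : D₀ ≠ ⊥ := by
    rw [hD₀, Ne, map_eq_bot_iff_of_injective _ X.subtype_injective]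
    intro e
    have := h0.card_D
    rw [e, card_bot] at this
    have := Nat.one_lt_two_pow (n := 2 * n₀) (by have := h0.one_le; omega)
    omega
  have hXD₀ : X ≤ normalizer (D₀ : Set G) := by
    intro x hx
    rw [mem_normalizer_iff]
    intro y
    constructor
    · rintro ⟨z, hz, rfl⟩
      exact ⟨_, Normal.conj_mem inferInstance z hz ⟨x, hx⟩, rfl⟩
    · rintro ⟨z, hz, e⟩
      refine ⟨_, Normal.conj_mem inferInstance z hz ⟨x, hx⟩⁻¹, ?_⟩
      show x⁻¹ * (z : G) * x⁻¹⁻¹ = y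
      rw [show (z : G) = x * y * x⁻¹ from e]; group
  refine ⟨D₀, hD₀2, hD₀1, hXD₀, hT.2.1.trans hXD₀, fun hsyl => ?_⟩
  set Y := normalizer (D₀ : Set G) with hY
  have hD₀Y : D₀ ≤ Y := le_normalizer
  rcases local_cases hG hS hsyl hD₀2 hD₀1 hD₀Y le_rfl with h | ⟨hfun, F, i3, i4, n, h⟩
  · exact Or.inl (hXD₀.trans h)
  refine Or.inr ⟨hfun, F, i3, i4, n, side_of_excSide hG hD₀1 hsyl (le_antisymm ?_ ?_) h⟩
  · have hDT : (Cfsg.pCore 2 ↥Y).map Y.subtype ≤ T := by
      obtain ⟨P, hP⟩ := sylow_subgroupOf hsyl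
      rintro _ ⟨x, hx, rfl⟩
      exact mem_subgroupOf.1 (hP ▸ CfsgLib.PCore.pCore_le_sylow P hx)
    have hDX' := hDT.trans hT.2.1
    have hn : (((Cfsg.pCore 2 ↥Y).map Y.subtype).subgroupOf X).Normal := by
      constructor
      rintro d hd g
      obtain ⟨z, hz, e⟩ := mem_subgroupOf.1 hd
      refine mem_subgroupOf.2 ⟨_, Normal.conj_mem inferInstance z hz ⟨g, hXD₀ g.2⟩, ?_⟩
      show (g : G) * (z : G) * (g : G)⁻¹ = g * d * (g : G)⁻¹
      rw [show (z : G) = d from e]
    have h1 := CfsgLib.PCore.le_pCore hn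
      ((CfsgLib.PCore.pCore_isPGroup.map Y.subtype).comap_of_injective X.subtype X.subtype_injective)
    rw [← map_subgroupOf_eq_of_le hDX']
    exact map_mono h1
  · have hn : (D₀.subgroupOf Y).Normal := ⟨fun d hd g => (mem_normalizer_iff.1 (g.2 : (g : G) ∈ Y) d).1 hd⟩
    intro x hx
    exact ⟨⟨x, hD₀Y hx⟩, CfsgLib.PCore.le_pCore hn
      (hD₀2.comap_of_injective Y.subtype Y.subtype_injective) (mem_subgroupOf.2 hx), rfl⟩

/-- Control of all 2-local subgroups by `M`. -/
theorem control (hG : IsCIT G) (hS : Smaller G) (M : Subgroup G) (S : Sylow 2 G)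
    (hSM : (S : Subgroup G) ≤ M) (B1 : normalizer ((S : Subgroup G) : Set G) ≤ M)
    (B2 : ∀ X D : Subgroup G, SylowIn X (S : Subgroup G) → IsPGroup 2 D → D ≠ ⊥ → D ≤ X →
      X ≤ normalizer (D : Set G) → X ≤ M)
    (hno : ∀ (V T : Subgroup G) (F : Type) [Field F] [Fintype F] (n : ℕ), Side V T F n →
      Nat.card ↥T = Nat.card ↥(S : Subgroup G)) :
    ∀ U : Subgroup G, IsPGroup 2 U → U ≠ ⊥ → U ≤ M → normalizer (U : Set G) ≤ M := by
  haveI : Fact (Nat.Prime 2) := ⟨Nat.prime_two⟩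
  set N := Nat.card ↥(S : Subgroup G) with hN
  have conjM : ∀ g ∈ M, ∀ X : Subgroup G, X.map (MulAut.conj g).toMonoidHom ≤ M → X ≤ M := by
    intro g hg X hX x hx
    have h := mul_mem (mul_mem (inv_mem hg) (hX ⟨x, hx, rfl⟩)) hg
    simpa [mul_assoc] using h
  suffices key : ∀ k, ∀ U : Subgroup G, IsPGroup 2 U → U ≠ ⊥ → U ≤ M → N - Nat.card ↥U ≤ k →
      normalizer (U : Set G) ≤ M from fun U h1 h2 h3 => key _ U h1 h2 h3 le_rfl
  intro k
  induction k using Nat.strong_induction_on with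
  | _ k ih =>
  intro U hU hU1 hUM hk
  set m := Nat.card ↥U with hm
  have hA : ∀ W : Subgroup G, IsPGroup 2 W → W ≤ M → m < Nat.card ↥W →
      normalizer (W : Set G) ≤ M := by
    intro W hW hWM hmW
    have hWN := card_le_sylow S hW
    refine ih (N - Nat.card ↥W) (by omega) W hW ?_ hWM le_rfl
    intro e
    rw [e, card_bot] at hmW
    have := Nat.card_pos (α := ↥U)
    omega
  -- extension to a Sylow subgroup
  have hext : ∀ X W : Subgroup G, IsPGroup 2 W → W ≤ X → W ≤ M → m < Nat.card ↥W →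
      ∃ T : Subgroup G, SylowIn X T ∧ T ≤ M ∧ W ≤ T := by
    intro X W hW hWX hWM hmW
    obtain ⟨P, hP⟩ := (hW.comap_of_injective (X ⊓ M).subtype (X ⊓ M).subtype_injective :
      IsPGroup 2 (W.subgroupOf (X ⊓ M))).exists_le_sylow
    set T := (P : Subgroup ↥(X ⊓ M)).map (X ⊓ M).subtype with hT
    have hT2 : IsPGroup 2 T := P.isPGroup'.map _
    have hWT : W ≤ T := by
      rw [← map_subgroupOf_eq_of_le (le_inf hWX hWM)]; exact map_mono hP
    have hTXM : T ≤ X ⊓ M := map_subtype_le _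
    refine ⟨T, ⟨hT2, hTXM.trans inf_le_left, fun Q hQ hTQ hQX => ?_⟩, hTXM.trans inf_le_right, hWT⟩
    by_contra hne
    obtain ⟨x, hxQ, hxT, hxN⟩ :=
      exists_mem_normalizer_notMem hQ (lt_of_le_of_ne hTQ (Ne.symm hne))
    have hxM : x ∈ M := hA T hT2 (hTXM.trans inf_le_right) (lt_of_lt_of_le hmW (card_le_of_le hWT)) hxN
    set T' := T ⊔ zpowers x with hT'
    have hT'Q : T' ≤ Q := sup_le hTQ (zpowers_le.2 hxQ)
    have hT'XM : T' ≤ X ⊓ M := sup_le hTXM (zpowers_le.2 ⟨hQX hxQ, hxM⟩)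
    have h1 := P.is_maximal' ((hQ.to_le hT'Q).comap_of_injective (X ⊓ M).subtype
      (X ⊓ M).subtype_injective) (Q := T'.subgroupOf (X ⊓ M)) (by
        intro y hy
        exact mem_subgroupOf.2 (le_sup_left (b := zpowers x) (mem_map_of_mem _ hy)))
    have h2 : (⟨x, hQX hxQ, hxM⟩ : ↥(X ⊓ M)) ∈ (P : Subgroup ↥(X ⊓ M)) :=
      h1 ▸ mem_subgroupOf.2 (le_sup_right (a := T) (mem_zpowers x))
    exact hxT ⟨_, h2, rfl⟩
  -- local subgroups with a big Sylow subgroup
  have hP : ∀ j, ∀ X T D : Subgroup G, N - Nat.card ↥T ≤ j → SylowIn X T → T ≤ M →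
      m < Nat.card ↥T → IsPGroup 2 D → D ≠ ⊥ → D ≤ X → X ≤ normalizer (D : Set G) → X ≤ M := by
    intro j
    induction j using Nat.strong_induction_on with
    | _ j ihj =>
    intro X T D hj hT hTM hmT hD hD1 hDX hXD
    have hTN : Nat.card ↥T ≤ N := card_le_sylow S hT.1
    rcases hTN.lt_or_eq with hlt | heq
    swap
    · obtain ⟨g, hg, hgT⟩ := two_sylow_conj hT.1 heq hSM hTM
      have hinj : Function.Injective (MulAut.conj g⁻¹).toMonoidHom := (MulAut.conj g⁻¹).injective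
      refine conjM g⁻¹ (inv_mem hg) X (B2 _ (D.map (MulAut.conj g⁻¹).toMonoidHom) ?_ (hD.map _) ?_
        (map_mono hDX) ?_)
      · refine sylowIn_of_card S S.isPGroup' (fun s hs => ?_) rfl
        rw [mem_map_conj_iff]
        refine hT.2.1 ((hgT _).2 ?_)
        simpa [mul_assoc] using hs
      · rwa [Ne, map_eq_bot_iff_of_injective _ hinj]
      · exact (map_mono hXD).trans (le_normalizer_map _)
    obtain ⟨T₁, hTT₁, hT₁M, hT₁2, hT₁N⟩ : ∃ T₁ : Subgroup G, T < T₁ ∧ T₁ ≤ M ∧ IsPGroup 2 T₁ ∧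
        T₁ ≤ normalizer (T : Set G) := by
      obtain ⟨Q, hQ⟩ := (hT.1.comap_of_injective M.subtype M.subtype_injective :
        IsPGroup 2 (T.subgroupOf M)).exists_le_sylow
      set S' := (Q : Subgroup ↥M).map M.subtype with hS'
      have hTS' : T ≤ S' := by rw [← map_subgroupOf_eq_of_le hTM]; exact map_mono hQ
      have hS'c : Nat.card ↥S' = N := by
        rw [hS', card_map_of_injective (K := (Q : Subgroup ↥M)) M.subtype_injective,
          Q.card_eq_multiplicity, ← (S.subtype hSM).card_eq_multiplicity, Sylow.coe_subtype,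
          Nat.card_congr (subgroupOfEquivOfLe hSM).toEquiv]
      obtain ⟨x, hx, hxT, hxN⟩ := exists_mem_normalizer_notMem
        (show IsPGroup 2 S' from Q.isPGroup'.map _)
        (lt_of_le_of_ne hTS' fun e => by rw [e, hS'c] at hlt; omega)
      refine ⟨S' ⊓ normalizer (T : Set G), lt_of_le_of_ne (le_inf hTS' le_normalizer) fun e =>
        hxT ?_, inf_le_left.trans (map_subtype_le _), (Q.isPGroup'.map _).to_le inf_le_left,
        inf_le_right⟩
      rw [e]; exact ⟨hx, hxN⟩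
    have hcard : Nat.card ↥T < Nat.card ↥T₁ := lt_of_le_of_ne (card_le_of_le hTT₁.le) fun e =>
      hTT₁.ne (eq_of_le_of_card_ge hTT₁.le e.ge)
    have hFne : functor T ≠ ⊥ := functor_ne_bot fun e => by
      rw [e, card_bot] at hmT
      have := Nat.card_pos (α := ↥U)
      omega
    have hY : normalizer (functor T : Set G) ≤ M := by
      obtain ⟨T₂, hT₂, hT₂M, hle⟩ := hext (normalizer (functor T : Set G)) T₁ hT₁2
        (hT₁N.trans (normalizer_le_functor T)) hT₁M (hmT.trans hcard)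
      have h2 := card_le_of_le hle
      exact ihj (N - Nat.card ↥T₂) (by omega) _ T₂ (functor T) le_rfl hT₂ hT₂M (by omega)
        (hT.1.to_le (functor_le T)) hFne le_normalizer le_rfl
    rcases normalizer_cases hG hS hT hD hD1 hDX hXD with h | ⟨D₀, hD₀, hD₀1, hXD₀, hTD₀, hside⟩
    · exact h.trans hY
    obtain ⟨T₂, hT₂, hT₂M, hle⟩ := hext (normalizer (D₀ : Set G)) T hT.1 hTD₀ hTM hmT
    rcases (card_le_of_le hle).lt_or_eq with h2 | h2
    · exact hXD₀.trans (ihj (N - Nat.card ↥T₂) (by omega) _ T₂ D₀ le_rfl hT₂ hT₂M (by omega) hD₀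
        hD₀1 le_normalizer le_rfl)
    · have e := eq_of_le_of_card_ge hle h2.ge
      rcases hside (e ▸ hT₂) with h | ⟨-, F, i1, i2, n, hs⟩
      · exact h.trans hY
      · exact absurd (hno D₀ T F n hs) hlt.ne
  have hmN : m ≤ N := card_le_sylow S hU
  rcases hmN.lt_or_eq with hlt | heq
  swap
  · obtain ⟨g, hg, hgU⟩ := two_sylow_conj hU heq hSM hUM
    intro x hx
    have h1 : g⁻¹ * x * g ∈ normalizer ((S : Subgroup G) : Set G) := by
      rw [mem_normalizer_iff]
      intro y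
      have e : ∀ y : G, y ∈ (S : Subgroup G) ↔ g * y * g⁻¹ ∈ U := fun y => by
        rw [hgU]; simp [mul_assoc]
      rw [e, e, mem_normalizer_iff.1 hx (g * y * g⁻¹)]
      simp [mul_assoc]
    have h2 := mul_mem (mul_mem hg (B1 h1)) (inv_mem hg)
    simpa [mul_assoc] using h2
  obtain ⟨Q, hQ⟩ := (hU.comap_of_injective M.subtype M.subtype_injective :
    IsPGroup 2 (U.subgroupOf M)).exists_le_sylow
  set S' := (Q : Subgroup ↥M).map M.subtype with hS'
  have hUS' : U ≤ S' := by rw [← map_subgroupOf_eq_of_le hUM]; exact map_mono hQ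
  have hS'c : Nat.card ↥S' = N := by
    rw [hS', card_map_of_injective (K := (Q : Subgroup ↥M)) M.subtype_injective,
      Q.card_eq_multiplicity, ← (S.subtype hSM).card_eq_multiplicity, Sylow.coe_subtype,
      Nat.card_congr (subgroupOfEquivOfLe hSM).toEquiv]
  obtain ⟨x, hx, hxU, hxN⟩ := exists_mem_normalizer_notMem
    (show IsPGroup 2 S' from Q.isPGroup'.map _)
    (lt_of_le_of_ne hUS' fun e => by
      have : m = N := by rw [hm, e, hS'c]
      omega)
  have hle : U ≤ S' ⊓ normalizer (U : Set G) := le_inf hUS' le_normalizer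
  have hlt' : m < Nat.card ↥(S' ⊓ normalizer (U : Set G)) :=
    lt_of_le_of_ne (card_le_of_le hle) fun e =>
      hxU ((eq_of_le_of_card_ge hle e.ge).symm ▸ ⟨hx, hxN⟩)
  obtain ⟨T, hT, hTM, hleT⟩ := hext (normalizer (U : Set G)) _
    ((Q.isPGroup'.map _).to_le inf_le_left) inf_le_right (inf_le_left.trans (map_subtype_le _)) hlt'
  exact hP _ _ T U le_rfl hT hTM (hlt'.trans_le (card_le_of_le hleT)) hU hU1 le_normalizer le_rfl

omit [Finite G] in
/-- Transport of a side by an automorphism. -/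
theorem Side.map {V T : Subgroup G} {F : Type} [Field F] [Fintype F] {n : ℕ} (h : Side V T F n)
    (φ : G ≃* G) : Side (V.map φ.toMonoidHom) (T.map φ.toMonoidHom) F n := by
  have hinj : Function.Injective φ.toMonoidHom := φ.injective
  have hback : ∀ B : Subgroup G, (B.map φ.symm.toMonoidHom).map φ.toMonoidHom = B := fun B => by
    ext x; simp
  have hN : (normalizer (V : Set G)).map φ.toMonoidHom =
      normalizer ((V.map φ.toMonoidHom : Subgroup G) : Set G) :=
    map_equiv_normalizer_eq V φ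
  have hC : ∀ W : Subgroup G, (centralizer (W : Set G)).map φ.toMonoidHom =
      centralizer ((W.map φ.toMonoidHom : Subgroup G) : Set G) := by
    intro W
    ext x
    simp only [mem_map_equiv, mem_centralizer_iff, SetLike.mem_coe]
    constructor
    · intro hx y hy
      have := hx _ hy
      apply φ.symm.injective
      simpa using this
    · intro hx y hy
      have := hx (φ y) (by simpa using hy)
      apply φ.injective
      simpa using this
  obtain ⟨e⟩ := h.q.iso
  refine ⟨h.one_le, h.card_F, ⟨?_, ?_, ?_, map_mono h.q.le, ?_, ?_, ?_, ?_⟩, ?_, ?_, ?_, ?_⟩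
  · rintro _ ⟨x, hx, rfl⟩
    rw [← map_mul, h.q.elem x hx, map_one]
  · rw [card_map_of_injective (K := V) hinj, h.q.card_V]
  · rw [← hC, h.q.self_centralizing]
  · rw [← hN]; exact map_mono h.q.le_normalizer
  · rw [card_map_of_injective (K := T) hinj, h.q.card_T]
  · intro Q hQ hTQ hQN
    have h1 := h.q.sylow (Q.map φ.symm.toMonoidHom) (hQ.map _)
      (fun x hx => ⟨φ x, hTQ (mem_map_of_mem _ hx), φ.symm_apply_apply x⟩) (by
        rw [← hN] at hQN
        rintro _ ⟨x, hx, rfl⟩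
        obtain ⟨y, hy, rfl⟩ := hQN hx
        simpa using hy)
    rw [← hback Q, h1]
  · let f := (equivMapOfInjective (normalizer (V : Set G)) φ.toMonoidHom hinj).trans
      (MulEquiv.subgroupCongr hN)
    haveI : (V.subgroupOf (normalizer (V : Set G))).Normal := normal_in_normalizer
    refine ⟨(QuotientGroup.congr _ _ f ?_).symm.trans e⟩
    ext x
    constructor
    · rintro ⟨y, hy, rfl⟩
      exact mem_subgroupOf.2 ⟨(y : G), mem_subgroupOf.1 hy, rfl⟩
    · intro hx
      obtain ⟨y, hy, e'⟩ := mem_subgroupOf.1 hx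
      refine ⟨⟨y, le_normalizer hy⟩, mem_subgroupOf.2 hy, Subtype.ext ?_⟩
      exact e'
  · rintro _ ⟨x, hx, rfl⟩ _ ⟨y, hy, rfl⟩ _ ⟨z, hz, rfl⟩
    rw [← map_inv, ← map_inv, ← map_mul, ← map_mul, ← map_mul]
    exact (h.commutator_le x hx y hy z hz).map φ.toMonoidHom
  · rintro _ ⟨x, hx, rfl⟩ _ ⟨z, hz, rfl⟩
    rw [← map_mul]
    exact (h.sq_central x hx z hz).map φ.toMonoidHom
  · intro B hB hBc
    haveI := hBc
    rw [← hback B, card_map_of_injective (K := B.map φ.symm.toMonoidHom) hinj]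
    refine h.abelian_le _ ?_ inferInstance
    rintro _ ⟨x, hx, rfl⟩
    obtain ⟨y, hy, rfl⟩ := hB hx
    simpa using hy
  · rw [← hC, ← map_inf _ _ _ hinj, card_map_of_injective (K := _) hinj, h.card_center]

omit [Finite G] in
/-- The exponent of a side is determined by its 2-subgroup. -/
theorem Side.n_eq {V A T : Subgroup G} {F F' : Type} [Field F] [Fintype F] [Field F'] [Fintype F']
    {n n' : ℕ} (h : Side V T F n) (h' : Side A T F' n') : n = n' :=
  Nat.pow_right_injective le_rfl (h.card_center.symm.trans h'.card_center)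

/-- Two sides with the same 2-subgroup. -/
theorem qPair_of_sides {V A T : Subgroup G} {F F' : Type} [Field F] [Fintype F] [Field F'] [Fintype F']
    {n n' : ℕ} (h : Side V T F n) (h' : Side A T F' n') (hn : 2 ≤ n) (hne : V ≠ A) :
    QPair V A T F := by
  have hnn := h.n_eq h'
  subst hnn
  have hcard : Fintype.card F' = Fintype.card F := h'.card_F.trans h.card_F.symm
  obtain ⟨e⟩ := h'.q.iso
  refine ⟨?_, ?_, h.q, ⟨h'.q.elem, hcard ▸ h'.q.card_V, h'.q.self_centralizing, h'.q.le,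
    h'.q.le_normalizer, hcard ▸ h'.q.card_T, h'.q.sylow,
    ⟨e.trans (CfsgLib.ClassicalGroups.pslFieldCongr (FiniteField.ringEquivOfCardEq hcard))⟩⟩, hne,
    h.commutator_le, h.sq_central, fun B hB hc => h.card_F ▸ h.abelian_le B hB hc,
    h.card_center.trans h.card_F.symm⟩
  · haveI : Fact (Nat.Prime 2) := ⟨Nat.prime_two⟩
    exact charP_of_card_eq_prime_pow h.card_F
  · rw [h.card_F]
    exact le_trans (by norm_num) (Nat.pow_le_pow_right two_pos hn)

/-- A side with the smallest field, or two sides, or none below a Sylow subgroup. -/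
theorem Side.small_cases (S : Sylow 2 G) {V T : Subgroup G} {F : Type} [Field F] [Fintype F] {n : ℕ}
    (h : Side V T F n) (hne : Nat.card ↥T ≠ Nat.card ↥(S : Subgroup G)) :
    n = 1 ∨ ∃ A : Subgroup G, QPair V A T F := by
  haveI : Fact (Nat.Prime 2) := ⟨Nat.prime_two⟩
  rcases eq_or_lt_of_le h.one_le with h1 | h1
  · exact Or.inl h1.symm
  right
  have hT2 : IsPGroup 2 T := IsPGroup.of_card (n := 3 * n) (by
    rw [h.q.card_T, h.card_F, ← pow_mul, mul_comm])
  obtain ⟨Q, hQ⟩ := hT2.exists_le_sylow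
  obtain ⟨x, hxQ, hxT, hxN⟩ := exists_mem_normalizer_notMem Q.isPGroup'
    (lt_of_le_of_ne hQ fun e => hne (by
      rw [e, Q.card_eq_multiplicity, S.card_eq_multiplicity]))
  have hconj : T.map (MulAut.conj x).toMonoidHom = T := by
    refine eq_of_le_of_card_ge ?_ (le_of_eq ?_)
    · rintro _ ⟨y, hy, rfl⟩
      exact (mem_normalizer_iff.1 hxN y).1 hy
    · rw [card_map_of_injective (K := T) (MulAut.conj x).injective]
  have h' := h.map (MulAut.conj x)
  rw [hconj] at h'
  refine ⟨_, qPair_of_sides h h' h1 fun e => hxT ?_⟩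
  have hxV : x ∈ normalizer (V : Set G) := by
    rw [mem_normalizer_iff]
    intro y
    conv_rhs => rw [e, mem_map_conj_iff]
    simp [mul_assoc]
  have hTQ' := h.q.sylow (T ⊔ zpowers x) (Q.isPGroup'.to_le (sup_le hQ (zpowers_le.2 hxQ)))
    le_sup_left (sup_le h.q.le_normalizer (zpowers_le.2 hxV))
  exact hTQ' ▸ le_sup_right (a := T) (mem_zpowers x)

end CfsgLib.CIT
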