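import Mathlib
import Cfsg.Agent.Lib.CIT.Control
import Cfsg.Agent.Lib.CIT.Closed
import Cfsg.Agent.Lib.Involutions.BrauerSuzuki

/-!
# The three configurations of a group whose involution centralizers are 2-groups
-/

set_option autoImplicit false
set_option linter.style.haveILetI false

namespace CfsgLib.CIT

open Subgroup CfsgLib.Involutions

universe u

variable {G : Type u} [Group G] [Finite G]

/-- A self-centralizing four-group in a group of order divisible by 8. -/
def KleinConfig (G : Type u) [Group G] : Prop :=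
  ∃ V : Subgroup G, Nat.card ↥V = 4 ∧ (∀ x ∈ V, x * x = 1) ∧
    centralizer (V : Set G) ≤ V ∧ 8 ∣ Nat.card G

theorem Side.klein {V T : Subgroup G} {F : Type} [Field F] [Fintype F] (h : Side V T F 1) :
    KleinConfig G :=
  ⟨V, by rw [h.q.card_V, h.card_F]; rfl, h.q.elem, h.q.self_centralizing.le, by
    have h8 : Nat.card ↥T = 8 := by rw [h.q.card_T, h.card_F]; rfl
    exact h8 ▸ T.card_subgroup_dvd_card⟩

/-- Without a nontrivial core, a Sylow 2-subgroup has two involutions. -/
theorem exists_two_involutions (h2 : Cfsg.pCore 2 G = ⊥) (hO : Cfsg.pPrimeCore 2 G = ⊥)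
    [Nontrivial G] (S : Sylow 2 G) :
    ∃ s t : G, s ∈ (S : Subgroup G) ∧ t ∈ (S : Subgroup G) ∧ orderOf s = 2 ∧ orderOf t = 2 ∧
      s ≠ t := by
  haveI : Fact (Nat.Prime 2) := ⟨Nat.prime_two⟩
  by_contra hcon
  push Not at hcon
  have heven : 2 ∣ Nat.card G := by
    by_contra hodd
    have h1 := CfsgLib.PCore.pPrimeCore_eq_top_of_coprime (G := G)
      (CfsgLib.PCore.coprime_of_not_dvd_card hodd)
    rw [hO] at h1
    exact bot_ne_top h1
  obtain ⟨u, hu⟩ := exists_prime_orderOf_dvd_card' (G := G) 2 heven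
  have huniq := rank_one_of_sylow S fun a b ha hb => Subtype.ext
    (hcon a b a.2 b.2 (by rwa [orderOf_coe]) (by rwa [orderOf_coe]))
  have hz := inZStar_of_rank_one huniq hu
  have hcen : ∀ g : G, g * u * g⁻¹ = u := fun g => by
    have h1 := hz g
    rw [hO, mem_bot] at h1
    exact mul_inv_eq_one.1 h1
  have hn : (zpowers u).Normal := by
    constructor
    rintro _ ⟨i, rfl⟩ g
    refine ⟨i, ?_⟩
    show u ^ i = g * u ^ i * g⁻¹
    rw [← conj_zpow, hcen g]
  have h3 := CfsgLib.PCore.le_pCore hn (IsPGroup.of_card (n := 1) (by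
    rw [Nat.card_zpowers, hu, pow_one]) : IsPGroup 2 (zpowers u))
  rw [h2, le_bot_iff, zpowers_eq_bot] at h3
  exact ne_one_of_involution hu h3

/-- The trichotomy. -/
theorem configuration (hG : IsCIT G) (hS : Smaller G) (h2 : Cfsg.pCore 2 G = ⊥)
    (hO : Cfsg.pPrimeCore 2 G = ⊥) [Nontrivial G] :
    (∃ M H : Subgroup G, TI.Hyp M H) ∨ KleinConfig G ∨
      ∃ (V A T : Subgroup G) (F : Type) (_ : Field F) (_ : Fintype F), QPair V A T F := by
  classical
  haveI : Fact (Nat.Prime 2) := ⟨Nat.prime_two⟩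
  obtain ⟨S⟩ : Nonempty (Sylow 2 G) := inferInstance
  obtain ⟨s, t, hs, ht, hs2, ht2, hst⟩ := exists_two_involutions h2 hO S
  by_cases hsmall : ∃ (V T : Subgroup G) (F : Type) (_ : Field F) (_ : Fintype F) (n : ℕ),
      Side V T F n ∧ Nat.card ↥T ≠ Nat.card ↥(S : Subgroup G)
  · obtain ⟨V, T, F, i1, i2, n, h, hne⟩ := hsmall
    rcases h.small_cases S hne with rfl | ⟨A, hA⟩
    · exact Or.inr (Or.inl h.klein)
    · exact Or.inr (Or.inr ⟨V, A, T, F, i1, i2, hA⟩)
  have hno : ∀ (V T : Subgroup G) (F : Type) [Field F] [Fintype F] (n : ℕ), Side V T F n →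
      Nat.card ↥T = Nat.card ↥(S : Subgroup G) := fun V T F i1 i2 n h =>
    by_contra fun e => hsmall ⟨V, T, F, i1, i2, n, h, e⟩
  have hne : ∀ {D : Subgroup G}, IsPGroup 2 D → D ≠ ⊥ → normalizer (D : Set G) ≠ ⊤ := by
    intro D hD hD1 e
    exact hD1 (le_bot_iff.1 (h2 ▸ CfsgLib.PCore.le_pCore (normalizer_eq_top_iff.1 e) hD))
  have hse : ∀ M : Subgroup G, (S : Subgroup G) ≤ M → M ≠ ⊤ →
      (∀ U : Subgroup G, IsPGroup 2 U → U ≠ ⊥ → U ≤ M → normalizer (U : Set G) ≤ M) →
      Cfsg.IsStronglyEmbedded M := fun M hSM hM hU =>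
    isStronglyEmbedded_of_normalizers hM (even_card_of_involution_mem (hSM hs) hs2)
      fun X hX hX2 hX1 => hU X hX2 hX1 hX
  have hSne : (S : Subgroup G) ≠ ⊥ := fun e => by
    rw [e, mem_bot] at hs
    exact ne_one_of_involution hs2 hs
  by_cases hside : functor (S : Subgroup G) = (S : Subgroup G) ∧
      ∃ (V : Subgroup G) (F : Type) (_ : Field F) (_ : Fintype F) (n : ℕ),
        Side V (S : Subgroup G) F n
  swap
  · -- no configuration at all
    left
    set M := normalizer (functor (S : Subgroup G) : Set G)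
    have hF2 : IsPGroup 2 (functor (S : Subgroup G)) := S.isPGroup'.to_le (functor_le _)
    have hSM : (S : Subgroup G) ≤ M := le_normalizer.trans (normalizer_le_functor _)
    have hB2 : ∀ X D : Subgroup G, SylowIn X (S : Subgroup G) → IsPGroup 2 D → D ≠ ⊥ → D ≤ X →
        X ≤ normalizer (D : Set G) → X ≤ M := by
      intro X D hX hD hD1 hDX hXD
      rcases normalizer_cases hG hS hX hD hD1 hDX hXD with h | ⟨D₀, -, -, -, hSD₀, hcase⟩
      · exact h
      rcases hcase (sylowIn_of_card S S.isPGroup' hSD₀ rfl) with h | ⟨hfun, F, i1, i2, n, h⟩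
      · exact h
      · exact absurd ⟨hfun, D₀, F, i1, i2, n, h⟩ hside
    have hU := control hG hS M S hSM (normalizer_le_functor _) hB2 hno
    obtain ⟨H, hH, -⟩ := hyp_of_stronglyEmbedded hG (hse M hSM (hne hF2 (functor_ne_bot hSne)) hU)
      hF2 (functor_ne_bot hSne) le_normalizer le_rfl ⟨s, t, hSM hs, hSM ht, hs2, ht2, hst⟩
    exact ⟨M, H, hH⟩
  obtain ⟨hfun, V, F, i1, i2, n, hV⟩ := hside
  rcases eq_or_lt_of_le hV.one_le with h1 | h1
  · subst h1
    exact Or.inr (Or.inl hV.klein)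
  right; right
  -- a second side
  by_contra hnone
  have huniq : ∀ (A : Subgroup G) (F' : Type) [Field F'] [Fintype F'] (n' : ℕ),
      Side A (S : Subgroup G) F' n' → A = V := fun A F' j1 j2 n' hA =>
    by_contra fun e => hnone ⟨V, A, S, F, i1, i2, qPair_of_sides hV hA h1 (Ne.symm e)⟩
  have hV1 : V ≠ ⊥ := fun e => by
    have h := hV.q.card_V
    rw [e, card_bot] at h
    have := Nat.one_lt_pow (n := 2) (by norm_num) (Fintype.one_lt_card (α := F))
    omega
  have hV2 : IsPGroup 2 V := S.isPGroup'.to_le hV.q.le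
  set M := normalizer (V : Set G)
  have hSM : (S : Subgroup G) ≤ M := hV.q.le_normalizer
  have hB1 : normalizer ((S : Subgroup G) : Set G) ≤ M := by
    intro g hg
    have hconj : (S : Subgroup G).map (MulAut.conj g).toMonoidHom = (S : Subgroup G) := by
      refine eq_of_le_of_card_ge ?_ (le_of_eq ?_)
      · rintro _ ⟨y, hy, rfl⟩
        exact (mem_normalizer_iff.1 hg y).1 hy
      · rw [card_map_of_injective (K := (S : Subgroup G)) (MulAut.conj g).injective]
    have h' := hV.map (MulAut.conj g)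
    rw [hconj] at h'
    have e := huniq _ F n h'
    rw [mem_normalizer_iff]
    intro y
    conv_rhs => rw [← e, mem_map_conj_iff]
    simp [mul_assoc]
  have hB2 : ∀ X D : Subgroup G, SylowIn X (S : Subgroup G) → IsPGroup 2 D → D ≠ ⊥ → D ≤ X →
      X ≤ normalizer (D : Set G) → X ≤ M := by
    intro X D hX hD hD1 hDX hXD
    rcases normalizer_cases hG hS hX hD hD1 hDX hXD with h | ⟨D₀, -, -, hXD₀, hSD₀, hcase⟩
    · rw [hfun] at h
      exact h.trans hB1
    rcases hcase (sylowIn_of_card S S.isPGroup' hSD₀ rfl) with h | ⟨-, F', j1, j2, n', h⟩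
    · rw [hfun] at h
      exact h.trans hB1
    · rw [huniq D₀ F' n' h] at hXD₀
      exact hXD₀
  have hU := control hG hS M S hSM hB1 hB2 hno
  obtain ⟨H, hH, hH2, htwo⟩ := hyp_of_stronglyEmbedded hG (hse M hSM (hne hV2 hV1) hU)
    hV2 hV1 le_normalizer le_rfl ⟨s, t, hSM hs, hSM ht, hs2, ht2, hst⟩
  -- but the normalizer of `V` is not 2-closed
  obtain ⟨e⟩ := hV.q.iso
  set φ := e.toMonoidHom.comp (QuotientGroup.mk' (V.subgroupOf M)) with hφ'
  have hφ : Function.Surjective φ := e.surjective.comp (QuotientGroup.mk'_surjective _)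
  obtain ⟨-, hnum, -, -, -⟩ := CfsgLib.PushingUp.psl_two_sylow (p := 2) hV.card_F
  set R := (S.subtype hSM).mapSurjective hφ
  have hfix : ∀ x : Matrix.ProjectiveSpecialLinearGroup (Fin 2) F, x • R = R := by
    intro x
    obtain ⟨g, rfl⟩ := hφ x
    have hSH : (S : Subgroup G) = H :=
      le_antisymm (fun y hy => htwo y (hSM hy) (isTwo_of_mem S.isPGroup' hy))
        (S.is_maximal' hH2 (fun y hy => htwo y (hSM hy) (isTwo_of_mem S.isPGroup' hy))).le
    refine Sylow.smul_eq_iff_mem_normalizer.2 ?_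
    have hgn : g ∈ normalizer (((S.subtype hSM : Sylow 2 ↥M) : Subgroup ↥M) : Set ↥M) := by
      rw [mem_normalizer_iff]
      intro y
      rw [Sylow.coe_subtype, mem_subgroupOf, mem_subgroupOf, hSH]
      exact mem_normalizer_iff.1 (hH.normal g.2) (y : G)
    show φ g ∈ normalizer (((R : Subgroup (Matrix.ProjectiveSpecialLinearGroup (Fin 2) F))) :
      Set (Matrix.ProjectiveSpecialLinearGroup (Fin 2) F))
    rw [show ((R : Sylow 2 (Matrix.ProjectiveSpecialLinearGroup (Fin 2) F)) : Subgroup (Matrix.ProjectiveSpecialLinearGroup (Fin 2) F)) =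
      ((S.subtype hSM : Sylow 2 ↥M) : Subgroup ↥M).map φ from Sylow.coe_mapSurjective hφ _]
    exact le_normalizer_map φ ⟨g, hgn, rfl⟩
  haveI : Subsingleton (Sylow 2 (Matrix.ProjectiveSpecialLinearGroup (Fin 2) F)) := ⟨fun A B => by
    obtain ⟨a, rfl⟩ := MulAction.exists_smul_eq (Matrix.ProjectiveSpecialLinearGroup (Fin 2) F) R A
    obtain ⟨b, rfl⟩ := MulAction.exists_smul_eq (Matrix.ProjectiveSpecialLinearGroup (Fin 2) F) R B
    rw [hfix, hfix]⟩
  have hle := Finite.card_le_one_iff_subsingleton.2 this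
  have := Fintype.card_pos (α := F)
  omega

end CfsgLib.CIT
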