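import Mathlib
import Cfsg.Agent.Lib.CIT.Offender
import Cfsg.Agent.Lib.CIT.TI
import Cfsg.Agent.Lib.ClassicalGroups.SmallIso
import Cfsg.Agent.Lib.PSL2.Involution

/-!
# The groups of Frobenius type are `PSL₂(2 ^ n)` or of Suzuki order
-/

set_option autoImplicit false
set_option linter.style.haveILetI false

namespace CfsgLib.CIT.TI

open Subgroup CfsgLib.Involutions

universe u

variable {G : Type u} [Group G] [Finite G] {M H : Subgroup G}

/-- The elements of order at most 2 of `H` form a subgroup. -/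
theorem exists_omega (h : Hyp M H) :
    ∃ E : Subgroup G, E ≤ H ∧ Nat.card ↥E = Nat.card (Inv M) + 1 := by
  classical
  have hcomm : ∀ x ∈ H, x * x = 1 → ∀ y ∈ H, Commute x y := by
    intro x hx hx2 y hy
    by_cases hx1 : x = 1
    · rw [hx1]; exact Commute.one_left y
    · exact central h (orderOf_eq_two_iff_mul.2 ⟨hx1, hx2⟩) (h.le hx) y hy
  let E : Subgroup G :=
    { carrier := {x | x ∈ H ∧ x * x = 1}
      one_mem' := ⟨one_mem _, one_mul 1⟩
      mul_mem' := fun {x y} hx hy => ⟨mul_mem hx.1 hy.1, by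
        rw [(hcomm y hy.1 hy.2 x hx.1).mul_mul_mul_comm, hx.2, hy.2, one_mul]⟩
      inv_mem' := fun {x} hx => ⟨inv_mem hx.1, by rw [← mul_inv_rev, hx.2, inv_one]⟩ }
  refine ⟨E, fun x hx => hx.1, ?_⟩
  haveI := Fintype.ofFinite ↥E
  have hk : Nat.card (Inv M) = Nat.card {x : ↥E // x ≠ 1} :=
    Nat.card_congr
      ⟨fun t => ⟨⟨t.1, h.two _ t.2.2 t.2.1, mul_self_eq_one t.2.1⟩, fun e =>
          ne_one_of_involution t.2.1 (congrArg Subtype.val e)⟩,
        fun x => ⟨x.1.1, orderOf_eq_two_iff_mul.2 ⟨fun e => x.2 (Subtype.ext e), x.1.2.2⟩,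
          h.le x.1.2.1⟩,
        fun t => rfl, fun x => rfl⟩
  rw [hk, Nat.card_eq_fintype_card, Nat.card_eq_fintype_card, Fintype.card_subtype_compl,
    Fintype.card_subtype_eq]
  have := Fintype.card_pos (α := ↥E)
  omega

theorem shapeAny_of_hyp (h : Hyp M H) : ShapeAny G := by
  classical
  obtain ⟨hsimple, hH2, hcard, hpsl | hsuz⟩ := main h
  swap
  · exact Or.inr (Or.inl ⟨hsuz, M, H, h⟩)
  left
  obtain ⟨F, hFf, hFt, ⟨ε⟩⟩ := hpsl
  set q := Fintype.card F with hq
  have hk2 := two_le_inv h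
  have hh2 := two_le_H h
  obtain ⟨a, ha⟩ := hH2.exists_card_eq
  set k := Nat.card (Inv M) with hk
  have hc := CfsgLib.PSL2.card_psl (F := F)
  rw [← Nat.card_congr ε.toEquiv, hcard] at hc
  have hq1 := Fintype.one_lt_card (α := F)
  rcases Nat.even_or_odd q with heven | hodd
  · obtain ⟨p, hp⟩ := CharP.exists F
    obtain ⟨n, hpr, hn⟩ := FiniteField.card F p
    have hp2 : p = 2 := by
      have h1 : 2 ∣ p ^ (n : ℕ) := hn ▸ even_iff_two_dvd.1 heven
      exact ((Nat.prime_dvd_prime_iff_eq Nat.prime_two hpr).1 (Nat.prime_two.dvd_of_dvd_pow h1)).symm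
    subst hp2
    refine ⟨hsimple, F, hFf, hFt, ⟨n, ?_, hn⟩, ⟨ε⟩⟩
    by_contra hn2
    have hn1 : (n : ℕ) = 1 := by have := n.pos; have : (n : ℕ) < 2 := not_le.1 hn2; omega
    rw [hn, hn1] at hc
    norm_num at hc
    have := Nat.mul_le_mul (show 3 ≤ Nat.card ↥H + 1 by omega) (Nat.mul_le_mul hh2 hk2)
    omega
  -- odd `q`
  obtain ⟨s, -, hsM, -, hs, -, -⟩ := h.many
  have hC : centralizer ({s} : Set G) = H := by
    refine le_antisymm (fun c hc => h.cent s (h.two s hsM hs) (ne_one_of_involution hs) c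
      (mem_centralizer_singleton_iff.1 hc)) fun x hx => mem_centralizer_singleton_iff.2
      (central h hs hsM x hx).eq.symm
  have hh : Nat.card ↥H = if q % 4 = 1 then q - 1 else q + 1 := by
    rw [← CfsgLib.PSL2.card_centralizer_involution hodd (i := ε s)
      (by rw [MulEquiv.orderOf_eq, hs]), ← hC]
    refine Nat.card_congr (ε.toEquiv.subtypeEquiv fun x => ?_)
    simp only [mem_centralizer_singleton_iff]
    exact ⟨fun e => by simpa using congrArg ε e, fun e => ε.injective (by simpa using e)⟩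
  rw [CfsgLib.PSL2.gcd_eq_two hodd] at hc
  obtain ⟨E, hE, hEc⟩ := exists_omega h
  obtain ⟨j, hja, hj⟩ := (Nat.dvd_prime_pow Nat.prime_two).1 (ha ▸ hEc ▸ card_dvd_of_le hE)
  obtain ⟨i, hi⟩ : ∃ i, q = 2 * i + 1 := hodd
  have h60 : q = 5 := by
    rcases Nat.even_or_odd i with ⟨l, rfl⟩ | ⟨l, rfl⟩
    · -- `q ≡ 1 [4]`: the centraliser has order `q - 1`
      rw [if_pos (by omega)] at hh
      have hh' : Nat.card ↥H = 4 * l := by omega
      rw [hh', ← hq, hi, show 2 * (l + l) + 1 - 1 = 4 * l by omega] at hc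
      have h1 : (4 * l + 1) * (4 * l) * (2 * k) = (4 * l + 1) * (4 * l) * (4 * l + 2) := by
        linear_combination hc
      have hk' : 2 * k = 4 * l + 2 := Nat.eq_of_mul_eq_mul_left (by
        have : 0 < l := by omega
        positivity) h1
      rw [← hk, show k + 1 = 2 * l + 2 by omega] at hj
      have hj2 : 2 ≤ j := by
        by_contra hcon
        interval_cases j <;> omega
      obtain ⟨j', rfl⟩ : ∃ j', j = j' + 2 := ⟨j - 2, by omega⟩
      have ha2 : 2 ≤ a := by omega
      obtain ⟨a', rfl⟩ : ∃ a', a = a' + 2 := ⟨a - 2, by omega⟩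
      rw [ha, pow_add] at hh'
      rw [pow_add] at hj
      -- `2 l + 2` and `4 l` are both multiples of 4 that are powers of 2
      rcases Nat.eq_zero_or_pos a' with rfl | ha'
      · simp at hh'; omega
      · have : 2 ∣ 2 ^ a' := dvd_pow_self 2 (by omega)
        omega
    · -- `q ≡ 3 [4]`: the centraliser has order `q + 1`
      exfalso
      rw [if_neg (by omega)] at hh
      have hh' : Nat.card ↥H = 4 * l + 4 := by omega
      rw [hh', ← hq, hi, show 2 * (2 * l + 1) + 1 - 1 = 4 * l + 2 by omega] at hc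
      have h1 : (4 * l + 4) * ((4 * l + 5) * (2 * k)) =
          (4 * l + 4) * ((4 * l + 3) * (4 * l + 2)) := by
        linear_combination hc
      have h2 := Nat.eq_of_mul_eq_mul_left (by omega) h1
      have h3 : 4 * l + 5 ∣ 6 := by
        have h4 : (4 * l + 3) * (4 * l + 2) + 20 * l + 20 + 4 * (4 * l + 5) =
            (4 * l + 5) * (4 * l + 5) + 16 * l + 21 := by ring
        have h5 : 4 * l + 5 ∣ (4 * l + 3) * (4 * l + 2) := ⟨2 * k, h2.symm⟩
        have h6 : (4 * l + 3) * (4 * l + 2) + 5 * (4 * l + 5) = (4 * l + 5) * (4 * l + 5) + 6 := by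
          ring
        exact (Nat.dvd_add_right (dvd_mul_right (4 * l + 5) (4 * l + 5))).1
          (h6 ▸ Nat.dvd_add h5 (dvd_mul_left _ _))
      have := Nat.le_of_dvd (by norm_num) h3
      obtain rfl : l = 0 := by omega
      norm_num at h3
  obtain ⟨e5⟩ := CfsgLib.ClassicalGroups.psl_two_five_alternating (K := F) h60
  haveI : Fintype (GaloisField 2 2) := Fintype.ofFinite _
  have h4 : Fintype.card (GaloisField 2 2) = 4 := by
    rw [← Nat.card_eq_fintype_card, GaloisField.card 2 2 (by norm_num)]; rfl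
  obtain ⟨e4⟩ := CfsgLib.ClassicalGroups.psl_two_four_alternating (K := GaloisField 2 2) h4
  exact ⟨hsimple, GaloisField 2 2, inferInstance, inferInstance, ⟨2, le_rfl, h4⟩,
    ⟨(ε.trans e5).trans e4.symm⟩⟩

end CfsgLib.CIT.TI
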