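import Mathlib
import Cfsg.Agent.Lib.CIT.Defs
import Cfsg.Agent.Lib.LocalEven.NaturalRecognition
import Cfsg.Agent.Lib.PSL2.Basic
import Cfsg.Agent.Lib.Involutions.Basic
import Cfsg.Agent.Lib.Involutions.StronglyEmbedded

/-!
# The rank two configuration of a CIT group has four-element field

In a `QPair V A T F` both `V` and `A` are natural modules for the quotients of their normalizers.
Reading the action of a torus element on `T` from both sides makes `x ↦ x⁻²` additive on `F`, so
`F` has four elements; and an element normalizing `T` that exchanges `V` and `A` could be taken to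
be an involution inverting a torus, which is then conjugate to a central involution of `T`, against
the structure of the centralizer of that involution. So `T` is a Sylow 2-subgroup.
-/

set_option autoImplicit false
set_option linter.style.haveILetI false
set_option linter.unusedSectionVars false

namespace CfsgLib.CIT

open Subgroup CfsgLib.LocalEven.NaturalRecognition
open scoped MatrixGroups Pointwise

universe u

namespace QFour

/-! ### Matrices in characteristic two -/

section Matrices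

variable {F : Type} [Field F]

/-- The diagonal element with entries `a`, `a⁻¹`. -/
def diag (a : F) : SL(2, F) := wel a * wel (-1)

theorem diag_coe {a : F} (ha : a ≠ 0) : (diag a).1 = !![a, 0; 0, a⁻¹] := by
  simp only [diag, val_mul, wel_coe ha, wel_coe (neg_ne_zero.2 (one_ne_zero (α := F)))]
  ext i j
  fin_cases i <;> fin_cases j <;> simp [Matrix.mul_apply, Fin.sum_univ_two]

/-- The transvections as a homomorphism. -/
def upHom (F : Type) [Field F] : Multiplicative F →* SL(2, F) where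
  toFun t := up t.toAdd
  map_one' := up_zero
  map_mul' _ _ := up_add _ _

theorem up_injective : Function.Injective (up (F := F)) := fun s t h => by
  simpa [up_coe] using congrFun (congrFun (congrArg Subtype.val h) 0) 1

theorem mem_range_upHom {g : SL(2, F)} : g ∈ (upHom F).range ↔ ∃ t, g = up t :=
  ⟨fun ⟨t, ht⟩ => ⟨t.toAdd, ht.symm⟩, fun ⟨t, ht⟩ => ⟨Multiplicative.ofAdd t, ht.symm⟩⟩

theorem card_range_upHom [Fintype F] : Nat.card (upHom F).range = Fintype.card F := by
  rw [← Nat.card_congr (MonoidHom.ofInjective (f := upHom F)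
    (fun s t h => Multiplicative.toAdd.injective (up_injective h))).toEquiv, ← Nat.card_eq_fintype_card]
  exact Nat.card_congr Multiplicative.toAdd

theorem tri_det {g : SL(2, F)} (hg : g.1 1 0 = 0) : g.1 0 0 * g.1 1 1 = 1 := by
  have h := g.2
  rwa [Matrix.det_fin_two, hg, mul_zero, sub_zero] at h

theorem tri_conj_up {g : SL(2, F)} (hg : g.1 1 0 = 0) (t : F) :
    g * up t * g⁻¹ = up (g.1 0 0 ^ 2 * t) := by
  rw [mul_inv_eq_iff_eq_mul]
  have hd := tri_det hg
  apply Subtype.ext
  ext i j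
  fin_cases i <;> fin_cases j <;>
    simp [up_coe, Matrix.mul_apply, Fin.sum_univ_two, hg]
  linear_combination (-(g.1 0 0 * t)) * hd

theorem tri_of_conj {g : SL(2, F)} {t s : F} (ht : t ≠ 0) (h : g * up t * g⁻¹ = up s) :
    g.1 1 0 = 0 := by
  rw [mul_inv_eq_iff_eq_mul] at h
  have h' := congrFun (congrFun (congrArg Subtype.val h) 1) 1
  simpa [val_mul, up_coe, Matrix.mul_apply, Fin.sum_univ_two, ht] using h'

theorem tri_decomp {g : SL(2, F)} (hg : g.1 1 0 = 0) :
    g = up (g.1 0 1 * g.1 0 0) * diag (g.1 0 0) := by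
  have hd := tri_det hg
  have ha : g.1 0 0 ≠ 0 := left_ne_zero_of_mul_eq_one hd
  apply Subtype.ext
  rw [val_mul, up_coe, diag_coe ha]
  ext i j
  fin_cases i <;> fin_cases j <;> simp [Matrix.mul_apply, Fin.sum_univ_two, hg, ha]
  field_simp
  linear_combination hd

theorem diag_mul {a b : F} (ha : a ≠ 0) (hb : b ≠ 0) : diag a * diag b = diag (a * b) := by
  apply Subtype.ext
  rw [val_mul, diag_coe ha, diag_coe hb, diag_coe (mul_ne_zero ha hb)]
  ext i j
  fin_cases i <;> fin_cases j <;> simp [Matrix.mul_apply, Fin.sum_univ_two, mul_comm]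

theorem diag_one : diag (1 : F) = 1 := by
  apply Subtype.ext
  rw [diag_coe one_ne_zero, inv_one]
  simp [Matrix.one_fin_two]

variable [CharP F 2]

theorem center_eq_bot : Subgroup.center (SL(2, F)) = ⊥ := by
  refine (Subgroup.eq_bot_iff_forall _).2 fun A hA => ?_
  obtain ⟨r, hr, hA'⟩ := Matrix.SpecialLinearGroup.mem_center_iff.1 hA
  rw [Fintype.card_fin] at hr
  have h1 : r = 1 := by
    have h : (r - 1) ^ 2 = 0 := by
      linear_combination hr + (1 - r) * CharTwo.two_eq_zero (R := F)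
    exact sub_eq_zero.1 (pow_eq_zero_iff two_ne_zero |>.1 h)
  subst h1
  apply Subtype.ext
  rw [← hA', map_one]
  rfl

theorem wel_one_mul_self : wel (1 : F) * wel 1 = 1 := by
  have h := wel_mul_wel_neg (one_ne_zero (α := F))
  rwa [CharTwo.neg_eq] at h

theorem wel_conj_diag {a : F} (ha : a ≠ 0) : wel (1 : F) * diag a * (wel 1)⁻¹ = diag a⁻¹ := by
  rw [mul_inv_eq_iff_eq_mul]
  apply Subtype.ext
  rw [val_mul, val_mul, diag_coe ha, diag_coe (inv_ne_zero ha), wel_coe one_ne_zero]
  ext i j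
  fin_cases i <;> fin_cases j <;> simp [Matrix.mul_apply, Fin.sum_univ_two]

theorem lo_conj_wel : lo (1 : F) * wel 1 * (lo 1)⁻¹ = up 1 := by
  rw [mul_inv_eq_iff_eq_mul]
  apply Subtype.ext
  rw [val_mul, val_mul, up_coe, lo_coe, wel_coe one_ne_zero]
  ext i j
  fin_cases i <;> fin_cases j <;>
    simp [Matrix.mul_apply, Fin.sum_univ_two, CharTwo.neg_eq, CharTwo.add_self_eq_zero]

theorem card_sl [Fintype F] :
    Nat.card (SL(2, F)) = Fintype.card F * (Fintype.card F ^ 2 - 1) := by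
  obtain ⟨n, -, hn⟩ := FiniteField.card F 2
  have he : Even (Fintype.card F) := by
    rw [hn]; exact Nat.even_pow.2 ⟨even_two, n.ne_zero⟩
  have h := CfsgLib.PSL2.card_psl (F := F)
  rw [CfsgLib.PSL2.gcd_eq_one he, one_mul] at h
  have hb : Function.Bijective (QuotientGroup.mk' (Subgroup.center (SL(2, F)))) :=
    ⟨by rw [← MonoidHom.ker_eq_bot_iff, QuotientGroup.ker_mk', center_eq_bot],
      QuotientGroup.mk'_surjective _⟩
  rw [Nat.card_eq_of_bijective _ hb]
  refine h.trans ?_
  obtain ⟨k, hk⟩ : ∃ k, Fintype.card F = k + 1 := ⟨Fintype.card F - 1, by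
    have := Fintype.card_pos (α := F); omega⟩
  rw [hk, Nat.add_sub_cancel, show (k + 1) ^ 2 - 1 = k * (k + 2) by
    rw [Nat.sub_eq_iff_eq_add (Nat.one_le_pow _ _ (by omega))]; ring]
  ring

end Matrices

/-! ### Generalities -/

variable {G : Type u} [Group G]

theorem mem_normalizer_of_conj [Finite G] {H : Subgroup G} {g : G}
    (h : ∀ x ∈ H, g * x * g⁻¹ ∈ H) : g ∈ normalizer (H : Set G) := by
  have hle : H.map (MulAut.conj g).toMonoidHom ≤ H := by
    rintro _ ⟨x, hx, rfl⟩
    exact h x hx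
  have heq := Subgroup.eq_of_le_of_card_ge hle
    (Subgroup.card_map_of_injective (MulAut.conj g).injective).ge
  rw [Subgroup.mem_normalizer_iff]
  intro x
  constructor
  · exact h x
  · intro hx
    rw [← heq] at hx
    obtain ⟨y, hy, e⟩ := hx
    have e' : g * y * g⁻¹ = g * x * g⁻¹ := e
    rwa [← mul_left_cancel (mul_right_cancel e')]

theorem eq_or_eq_of_subset_union [Finite G] {A B E : Subgroup G} (h : ∀ x ∈ E, x ∈ A ∨ x ∈ B)
    (hA : Nat.card ↥A ≤ Nat.card ↥E) (hB : Nat.card ↥B ≤ Nat.card ↥E) : E = A ∨ E = B := by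
  by_cases hEA : E ≤ A
  · exact Or.inl (Subgroup.eq_of_le_of_card_ge hEA hA)
  · obtain ⟨e, he, heA⟩ := SetLike.not_le_iff_exists.1 hEA
    refine Or.inr (Subgroup.eq_of_le_of_card_ge (fun x hx => ?_) hB)
    rcases h x hx with hxA | hxB
    · rcases h _ (mul_mem hx he) with h' | h'
      · exact absurd ((A.mul_mem_cancel_left hxA).1 h') heA
      · exact (B.mul_mem_cancel_right ((h e he).resolve_left heA)).1 h'
    · exact hxB

theorem commute_of_sq {x y : G} (hx : x * x = 1) (hy : y * y = 1) (hxy : x * y * (x * y) = 1) :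
    Commute x y := by
  have e1 : (x * y)⁻¹ = x * y := inv_eq_of_mul_eq_one_right hxy
  rw [mul_inv_rev, inv_eq_of_mul_eq_one_right hx, inv_eq_of_mul_eq_one_right hy] at e1
  exact e1.symm

theorem commute_of_elem {E : Subgroup G} (hE : ∀ x ∈ E, x * x = 1) {x y : G} (hx : x ∈ E)
    (hy : y ∈ E) : Commute x y :=
  commute_of_sq (hE x hx) (hE y hy) (hE _ (mul_mem hx hy))

/-- An element of order 3 normalizing a 2-group is inverted by a suitable representative of a coset
exchanging it with its inverse. -/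
theorem exists_inverter [Finite G] (hG : IsCIT G) {P : Subgroup G} (hP : IsPGroup 2 ↥P) {k g : G}
    (hk : orderOf k = 3) (hkP : k ∈ normalizer (P : Set G)) (hg2 : IsPGroup 2 ↥(P ⊔ zpowers g))
    (hgP : g ∈ normalizer (P : Set G)) (hg : g ∉ P) (hgg : g * g ∈ P)
    (hgk : g * k * g⁻¹ ∈ P ⊔ zpowers k) :
    ∃ p ∈ P, orderOf (p * g) = 2 ∧ (p * g) * k * (p * g)⁻¹ = k⁻¹ := by
  classical
  haveI : Fact (Nat.Prime 3) := ⟨Nat.prime_three⟩
  haveI : Fact (Nat.Prime 2) := ⟨Nat.prime_two⟩
  obtain ⟨j, hj⟩ := hP.exists_card_eq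
  have hk3 : Nat.card ↥(zpowers k) = 3 := by rw [Nat.card_zpowers, hk]
  have hdisj : zpowers k ⊓ P = ⊥ := by
    refine (Subgroup.eq_bot_iff_forall _).2 fun x hx => eq_one_of_isTwo_of_odd (isTwo_of_mem hP hx.2) ?_
    have h3 : orderOf x ∣ 3 := hk3 ▸ (zpowers k).orderOf_dvd_natCard hx.1
    exact Odd.of_dvd_nat (by decide) h3
  set H := P ⊔ zpowers k with hH
  have hkn : zpowers k ≤ normalizer (P : Set G) := zpowers_le.2 hkP
  have hcard : Nat.card ↥H = 2 ^ j * 3 := by
    have hmul : (H : Set G) = (P : Set G) * (zpowers k : Set G) := by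
      rw [hH, Subgroup.coe_mul_of_right_le_normalizer_left _ _ hkn]
    rw [← hj, ← hk3, ← Nat.card_prod]
    refine (Nat.card_eq_of_bijective (fun z : ↥P × ↥(zpowers k) =>
      (⟨(z.1 : G) * z.2, mul_mem (mem_sup_left z.1.2) (mem_sup_right z.2.2)⟩ : ↥H)) ⟨?_, ?_⟩).symm
    · rintro ⟨p, x⟩ ⟨p', x'⟩ e
      have e' : (p : G) * x = p' * x' := congrArg Subtype.val e
      have e2 : (p' : G)⁻¹ * p = x' * (x : G)⁻¹ := by
        calc (p' : G)⁻¹ * p = (p' : G)⁻¹ * (p * x) * (x : G)⁻¹ := by group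
          _ = _ := by rw [e']; group
      have e3 : (p' : G)⁻¹ * p ∈ zpowers k ⊓ P :=
        ⟨e2 ▸ (zpowers k).mul_mem x'.2 ((zpowers k).inv_mem x.2),
          P.mul_mem (P.inv_mem p'.2) p.2⟩
      rw [hdisj, mem_bot] at e3
      rw [e3] at e2
      exact Prod.ext (Subtype.ext (inv_mul_eq_one.1 e3).symm)
        (Subtype.ext (mul_inv_eq_one.1 e2.symm).symm)
    · rintro ⟨x, hx⟩
      have hx' : x ∈ (P : Set G) * (zpowers k : Set G) := hmul ▸ hx
      obtain ⟨p, hp, y, hy, rfl⟩ := hx'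
      exact ⟨(⟨p, hp⟩, ⟨y, hy⟩), rfl⟩
  have hkH : k ∈ H := mem_sup_right (mem_zpowers k)
  have hf : (Nat.card ↥H).factorization 3 = 1 := by
    rw [hcard, Nat.factorization_mul (by positivity) (by norm_num), Finsupp.add_apply,
      Nat.factorization_eq_zero_of_not_dvd (fun h3 => by
        have := Nat.prime_three.dvd_of_dvd_pow h3
        omega), Nat.Prime.factorization_self Nat.prime_three, zero_add]
  set c := g * k * g⁻¹ with hc
  have hc3 : orderOf c = 3 := by rw [hc, CfsgLib.Involutions.orderOf_conj_eq, hk]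
  set S1 : Sylow 3 ↥H := Sylow.ofCard (zpowers (⟨c, hgk⟩ : ↥H)) (by
    rw [hf, pow_one, Nat.card_zpowers, Subgroup.orderOf_mk, hc3]) with hS1
  set S2 : Sylow 3 ↥H := Sylow.ofCard (zpowers (⟨k, hkH⟩ : ↥H)) (by
    rw [hf, pow_one, Nat.card_zpowers, Subgroup.orderOf_mk, hk]) with hS2
  obtain ⟨x, hx⟩ := MulAction.exists_smul_eq ↥H S1 S2
  have hxc : (x : G) * c * (x : G)⁻¹ ∈ zpowers k := by
    have h1 : (⟨c, hgk⟩ : ↥H) ∈ (S1 : Subgroup ↥H) := by
      rw [hS1, Sylow.coe_ofCard]; exact mem_zpowers _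
    have h2 : MulAut.conj x • (⟨c, hgk⟩ : ↥H) ∈ ((x • S1 : Sylow 3 ↥H) : Subgroup ↥H) := by
      rw [Sylow.coe_subgroup_smul]
      exact Subgroup.smul_mem_pointwise_smul _ _ _ h1
    rw [hx, hS2, Sylow.coe_ofCard] at h2
    obtain ⟨i, hi⟩ := h2
    exact ⟨i, by simpa using congrArg (fun z : ↥H => (z : G)) hi⟩
  have hxH : (x : G) ∈ (zpowers k : Set G) * (P : Set G) := by
    rw [← Subgroup.coe_mul_of_left_le_normalizer_right _ _ hkn, sup_comm]
    exact x.2
  obtain ⟨y, hy, p, hp, hyp⟩ := hxH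
  obtain ⟨i, hi⟩ : p * c * p⁻¹ ∈ zpowers k := by
    have e : p * c * p⁻¹ = y⁻¹ * ((x : G) * c * (x : G)⁻¹) * y := by
      rw [← hyp]; group
    rw [e]
    exact mul_mem (mul_mem (inv_mem hy) hxc) hy
  have hi' : k ^ i = p * g * k * (p * g)⁻¹ := by
    rw [show k ^ i = p * c * p⁻¹ from hi, hc]; group
  have hpg : p * g ∉ P := fun h => hg ((P.mul_mem_cancel_left hp).1 h)
  have hne : p * g ≠ 1 := fun e => hpg (e ▸ one_mem P)
  have htwo : IsTwo (p * g) :=
    isTwo_of_mem hg2 (mul_mem (mem_sup_left hp) (mem_sup_right (mem_zpowers g)))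
  have hodd : Odd (orderOf k) := by rw [hk]; decide
  have hk1 : k ≠ 1 := fun e => by rw [e, orderOf_one] at hk; omega
  have hk30 : k ^ (3 : ℤ) = 1 := by
    rw [show (3 : ℤ) = ((3 : ℕ) : ℤ) from rfl, zpow_natCast, ← hk]; exact pow_orderOf_eq_one k
  have hmod : k ^ i = k ^ (i % 3) := by
    conv_lhs => rw [← Int.emod_add_mul_ediv i 3, zpow_add, zpow_mul, hk30, one_zpow, mul_one]
  have hinv : p * g * k * (p * g)⁻¹ = k⁻¹ := by
    rw [← hi', hmod]
    have h0 := Int.emod_nonneg i (show (3 : ℤ) ≠ 0 by norm_num)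
    have h3 := Int.emod_lt_of_pos i (show (0 : ℤ) < 3 by norm_num)
    interval_cases hh : i % 3
    · exfalso
      rw [hmod, zpow_zero] at hi'
      exact hk1 (conj_eq_one_iff.1 hi'.symm)
    · exfalso
      rw [hmod, zpow_one] at hi'
      exact hk1 (hG.eq_one_of_commute htwo hne hodd (by
        show k * (p * g) = p * g * k
        nth_rw 1 [hi']
        group))
    · refine eq_inv_of_mul_eq_one_left ?_
      rw [← zpow_add_one]
      exact hk30
  refine ⟨p, hp, CfsgLib.Involutions.orderOf_eq_two_iff_mul.2 ⟨hne, ?_⟩, hinv⟩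
  by_contra hsq
  have hsqP : p * g * (p * g) ∈ P := by
    have e : p * g * (p * g) = p * (g * p * g⁻¹) * (g * g) := by group
    rw [e]
    exact mul_mem (mul_mem hp ((Subgroup.mem_normalizer_iff.1 hgP p).1 hp)) hgg
  refine hk1 (hG.eq_one_of_commute (isTwo_of_mem hP hsqP) hsq hodd ?_)
  have h1 : p * g * k⁻¹ * (p * g)⁻¹ = k := by
    calc p * g * k⁻¹ * (p * g)⁻¹ = (p * g * k * (p * g)⁻¹)⁻¹ := by group
      _ = k := by rw [hinv, inv_inv]
  show k * (p * g * (p * g)) = p * g * (p * g) * k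
  calc k * (p * g * (p * g)) = p * g * k⁻¹ * (p * g)⁻¹ * (p * g * (p * g)) := by rw [h1]
    _ = p * g * k⁻¹ * (p * g) := by group
    _ = p * g * (p * g * k * (p * g)⁻¹) * (p * g) := by rw [hinv]
    _ = _ := by group

/-! ### One side -/

section Side

variable {F : Type} [Field F] [Fintype F] {V T : Subgroup G}

/-- Conjugation on a normalized subgroup. -/
def conjHom (V : Subgroup G) : ↥(normalizer (V : Set G)) →* MulAut ↥V where
  toFun n :=
    { toFun := fun v => ⟨n * v * (n : G)⁻¹, (Subgroup.mem_normalizer_iff.1 n.2 v).1 v.2⟩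
      invFun := fun v => ⟨(n : G)⁻¹ * v * n, (Subgroup.mem_normalizer_iff''.1 n.2 v).1 v.2⟩
      left_inv := fun v => Subtype.ext (by
        show (n : G)⁻¹ * ((n : G) * v * (n : G)⁻¹) * n = v
        group)
      right_inv := fun v => Subtype.ext (by
        show (n : G) * ((n : G)⁻¹ * v * n) * (n : G)⁻¹ = v
        group)
      map_mul' := fun v w => Subtype.ext (by
        show (n : G) * (v * w) * (n : G)⁻¹ = (n : G) * v * (n : G)⁻¹ * ((n : G) * w * (n : G)⁻¹)
        group) }
  map_one' := by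
    ext v
    show (1 : G) * v * (1 : G)⁻¹ = v
    group
  map_mul' n m := by
    ext v
    show (n : G) * m * v * ((n : G) * m)⁻¹ = n * (m * v * (m : G)⁻¹) * (n : G)⁻¹
    group

theorem conjHom_coe (n : ↥(normalizer (V : Set G))) (v : ↥V) :
    ((conjHom V n v : ↥V) : G) = n * v * (n : G)⁻¹ := rfl

theorem commute_V (h : QSide V T F) {x y : G} (hx : x ∈ V) (hy : y ∈ V) : Commute x y :=
  commute_of_elem h.elem hx hy

theorem card_normalizer [CharP F 2] [Finite G] (h : QSide V T F) :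
    Nat.card ↥(normalizer (V : Set G)) =
      Fintype.card F ^ 3 * (Fintype.card F ^ 2 - 1) := by
  obtain ⟨e⟩ := h.iso
  have hb : Function.Bijective (QuotientGroup.mk' (Subgroup.center (SL(2, F)))) :=
    ⟨by rw [← MonoidHom.ker_eq_bot_iff, QuotientGroup.ker_mk', center_eq_bot],
      QuotientGroup.mk'_surjective _⟩
  rw [Subgroup.card_eq_card_quotient_mul_card_subgroup (V.subgroupOf _), Nat.card_congr e.toEquiv,
    ← Nat.card_eq_of_bijective _ hb, card_sl,
    Nat.card_congr (subgroupOfEquivOfLe (le_normalizer (H := V))).toEquiv, h.card_V]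
  ring

theorem odd_sq_sub_one [CharP F 2] : Odd (Fintype.card F ^ 2 - 1) := by
  obtain ⟨n, -, hn⟩ := FiniteField.card F 2
  rw [hn, ← pow_mul, Nat.odd_sub Nat.one_le_two_pow]
  simp [Nat.even_pow]

/-- The normalizer is transitive on the involutions of `V`. -/
theorem exists_conj [CharP F 2] [Finite G] (hG : IsCIT G) (h : QSide V T F) {u v : G} (hu : u ∈ V)
    (hv : v ∈ V) (hu1 : u ≠ 1) (hv1 : v ≠ 1) :
    ∃ n ∈ normalizer (V : Set G), n * u * n⁻¹ = v := by
  classical
  haveI : Fact (Nat.Prime 2) := ⟨Nat.prime_two⟩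
  letI : MulAction ↥(normalizer (V : Set G)) ↥V := MulAction.compHom _ (conjHom V)
  have hsm : ∀ (n : ↥(normalizer (V : Set G))) (x : ↥V), ((n • x : ↥V) : G) = n * x * (n : G)⁻¹ :=
    fun _ _ => rfl
  set St := MulAction.stabilizer ↥(normalizer (V : Set G)) (⟨u, hu⟩ : ↥V)
  have hSt : IsPGroup 2 ↥St := by
    refine ((hG.centralizer_two ⟨1, by rw [pow_one, pow_two]; exact h.elem u hu⟩ hu1).comap_of_injective
      (normalizer (V : Set G)).subtype (Subgroup.subtype_injective _)).to_le fun n hn => ?_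
    rw [mem_comap, mem_centralizer_singleton_iff]
    have e := congrArg Subtype.val (MulAction.mem_stabilizer_iff.1 hn)
    rw [hsm] at e
    exact mul_inv_eq_iff_eq_mul.1 e
  obtain ⟨j, hj⟩ := hSt.exists_card_eq
  have hmul := St.card_mul_index
  rw [card_normalizer h, hj] at hmul
  have hdvd : Fintype.card F ^ 2 - 1 ∣ St.index := by
    refine (Nat.Coprime.pow_right j (Nat.coprime_two_right.2 (odd_sq_sub_one (F := F)))).dvd_of_dvd_mul_left ?_
    exact hmul ▸ dvd_mul_left _ _
  have horb : MulAction.orbit ↥(normalizer (V : Set G)) (⟨u, hu⟩ : ↥V) = {x : ↥V | x ≠ 1} := by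
    refine Set.eq_of_subset_of_ncard_le ?_ ?_ (Set.toFinite _)
    · rintro _ ⟨n, rfl⟩ e
      have e' := congrArg Subtype.val e
      rw [hsm] at e'
      exact hu1 (conj_eq_one_iff.1 e')
    · have h1 : ({x : ↥V | x ≠ 1}).ncard = Fintype.card F ^ 2 - 1 := by
        rw [show {x : ↥V | x ≠ 1} = Set.univ \ {1} by ext; simp,
          Set.ncard_sdiff (Set.subset_univ _), Set.ncard_univ, Set.ncard_singleton, h.card_V]
      rw [h1, ← MulAction.index_stabilizer]
      exact Nat.le_of_dvd (Nat.pos_of_ne_zero Subgroup.index_ne_zero_of_finite) hdvd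
  obtain ⟨n, hn⟩ : (⟨v, hv⟩ : ↥V) ∈ MulAction.orbit ↥(normalizer (V : Set G)) (⟨u, hu⟩ : ↥V) := by
    rw [horb]; exact fun e => hv1 (congrArg Subtype.val e)
  exact ⟨n, n.2, (hsm n _).symm.trans (congrArg Subtype.val hn)⟩

/-- `V` as the natural module. -/
structure Side (V T : Subgroup G) (F : Type) [Field F] where
  π : ↥(normalizer (V : Set G)) →* SL(2, F)
  π_surj : Function.Surjective π
  π_one : ∀ n : ↥(normalizer (V : Set G)), π n = 1 ↔ (n : G) ∈ V
  π_T : ∀ n : ↥(normalizer (V : Set G)), (n : G) ∈ T ↔ ∃ t : F, π n = up t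
  φ : ↥V → Fin 2 → F
  φ_bij : Function.Bijective φ
  φ_mul : ∀ u v : ↥V, φ (u * v) = φ u + φ v
  φ_conj : ∀ (n : ↥(normalizer (V : Set G))) (v : ↥V),
    φ (conjHom V n v) = (π n).1.mulVec (φ v)

theorem exists_side [CharP F 2] [Finite G] (hG : IsCIT G) (hF : 4 ≤ Fintype.card F)
    (h : QSide V T F) (hZ : Fintype.card F ≤ Nat.card ↥(T ⊓ centralizer (T : Set G))) :
    Nonempty (Side V T F) := by
  classical
  haveI : Fact (Nat.Prime 2) := ⟨Nat.prime_two⟩
  obtain ⟨e⟩ := h.iso
  set N := normalizer (V : Set G) with hN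
  have hb : Function.Bijective (QuotientGroup.mk' (Subgroup.center (SL(2, F)))) :=
    ⟨by rw [← MonoidHom.ker_eq_bot_iff, QuotientGroup.ker_mk', center_eq_bot],
      QuotientGroup.mk'_surjective _⟩
  set ε : ↥N ⧸ V.subgroupOf N ≃* SL(2, F) := e.trans (MulEquiv.ofBijective _ hb).symm
  set π₀ : ↥N →* SL(2, F) := ε.toMonoidHom.comp (QuotientGroup.mk' _) with hπ₀
  have hker : π₀.ker = V.subgroupOf N := by
    ext n
    rw [MonoidHom.mem_ker, hπ₀, MonoidHom.comp_apply, MulEquiv.coe_toMonoidHom,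
      EmbeddingLike.map_eq_one_iff, QuotientGroup.mk'_apply, QuotientGroup.eq_one_iff]
  have hsurj₀ : Function.Surjective π₀ := ε.surjective.comp (QuotientGroup.mk'_surjective _)
  obtain ⟨n₂, -, hn₂⟩ := FiniteField.card F 2
  set S := (T.subgroupOf N).map π₀ with hS
  have hScard : Nat.card ↥S = Fintype.card F := by
    rw [hS, ← Subgroup.relIndex_ker, hker, Subgroup.relIndex_subgroupOf h.le_normalizer]
    have h1 := (V.subgroupOf T).card_mul_index
    rw [Nat.card_congr (subgroupOfEquivOfLe h.le).toEquiv, h.card_V, h.card_T,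
      show Fintype.card F ^ 3 = Fintype.card F ^ 2 * Fintype.card F by ring] at h1
    exact Nat.eq_of_mul_eq_mul_left (pow_pos (by omega) 2) h1
  have hf : (Nat.card (SL(2, F))).factorization 2 = n₂ := by
    rw [card_sl, Nat.factorization_mul (by omega) (odd_sq_sub_one (F := F)).pos.ne', hn₂,
      Finsupp.add_apply, Nat.factorization_pow_self Nat.prime_two,
      Nat.factorization_eq_zero_of_not_dvd, add_zero]
    rw [← hn₂]
    exact (odd_sq_sub_one (F := F)).not_two_dvd_nat
  set S1 : Sylow 2 (SL(2, F)) := Sylow.ofCard S (by rw [hf, hScard, hn₂]) with hS1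
  set S2 : Sylow 2 (SL(2, F)) := Sylow.ofCard (upHom F).range (by
    rw [hf, card_range_upHom, hn₂]) with hS2
  obtain ⟨g, hg⟩ := MulAction.exists_smul_eq (SL(2, F)) S1 S2
  have hg' : ∀ x, x ∈ S ↔ g * x * g⁻¹ ∈ (upHom F).range := by
    intro x
    rw [show (upHom F).range = ((g • S1 : Sylow 2 (SL(2, F))) : Subgroup _) by rw [hg, hS2, Sylow.coe_ofCard],
      Sylow.coe_subgroup_smul, hS1, Sylow.coe_ofCard]
    exact (Subgroup.smul_mem_pointwise_smul_iff (a := MulAut.conj g)).symm
  set π : ↥N →* SL(2, F) := (MulAut.conj g).toMonoidHom.comp π₀ with hπ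
  have hπa : ∀ n, π n = g * π₀ n * g⁻¹ := fun _ => rfl
  have hπ1 : ∀ n : ↥N, π n = 1 ↔ (n : G) ∈ V := fun n => by
    rw [hπa, conj_eq_one_iff, ← MonoidHom.mem_ker, hker, mem_subgroupOf]
  have hπsurj : Function.Surjective π := (MulAut.conj g).surjective.comp hsurj₀
  have hπT : ∀ n : ↥N, (n : G) ∈ T ↔ ∃ t : F, π n = up t := fun n => by
    constructor
    · intro hn
      exact mem_range_upHom.1 (hπa n ▸ (hg' _).1 ⟨n, hn, rfl⟩)
    · intro hn
      obtain ⟨m, hm, hmn⟩ := (hg' (π₀ n)).2 (hπa n ▸ mem_range_upHom.2 hn)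
      have h1 : (m⁻¹ * n : ↥N) ∈ π₀.ker := by
        rw [MonoidHom.mem_ker, map_mul, map_inv, hmn, inv_mul_cancel]
      rw [hker, mem_subgroupOf] at h1
      have h2 := mul_mem (show (m : G) ∈ T from hm) (h.le h1)
      simpa using h2
  -- the module
  choose σ hσ using hπsurj
  have hwd : ∀ n m : ↥N, π n = π m → conjHom V n = conjHom V m := by
    intro n m hnm
    have hv : ((m⁻¹ * n : ↥N) : G) ∈ V := (hπ1 _).1 (by rw [map_mul, map_inv, hnm, inv_mul_cancel])
    ext v
    have hc := commute_V h hv v.2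
    rw [conjHom_coe, conjHom_coe]
    have e1 : (n : G) = m * ((m⁻¹ * n : ↥N) : G) := by simp
    rw [e1]
    calc (m : G) * ((m⁻¹ * n : ↥N) : G) * v * ((m : G) * ((m⁻¹ * n : ↥N) : G))⁻¹
        = m * (((m⁻¹ * n : ↥N) : G) * v) * ((m⁻¹ * n : ↥N) : G)⁻¹ * (m : G)⁻¹ := by group
      _ = _ := by rw [hc.eq]; group
  let ρ : SL(2, F) →* MulAut ↥V :=
    { toFun := fun x => conjHom V (σ x)
      map_one' := (hwd _ 1 (by rw [hσ, map_one])).trans (map_one _)
      map_mul' := fun x y => by
        rw [← map_mul]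
        exact hwd _ _ (by rw [map_mul, hσ, hσ, hσ]) }
  have hρ : ∀ n, ρ (π n) = conjHom V n := fun n => hwd _ _ (hσ _)
  letI : CommGroup ↥V := { (inferInstance : Group ↥V) with
    mul_comm := fun a b => Subtype.ext (commute_V h a.2 b.2).eq }
  letI : DistribMulAction (SL(2, F)) (Additive ↥V) :=
    { smul := fun x m => Additive.ofMul (ρ x m.toMul)
      one_smul := fun m => by
        show Additive.ofMul (ρ 1 m.toMul) = m
        rw [map_one, MulAut.one_apply, ofMul_toMul]
      mul_smul := fun x y m => by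
        show Additive.ofMul (ρ (x * y) m.toMul) = Additive.ofMul (ρ x (ρ y m.toMul))
        rw [map_mul, MulAut.mul_apply]
      smul_zero := fun x => by
        show Additive.ofMul (ρ x 1) = 0
        rw [map_one]; rfl
      smul_add := fun x m m' => by
        show Additive.ofMul (ρ x (m.toMul * m'.toMul)) = _
        rw [map_mul]; rfl }
  have hsmul : ∀ (n : ↥N) (v : ↥V), π n • Additive.ofMul v = Additive.ofMul (conjHom V n v) := by
    intro n v
    show Additive.ofMul (ρ (π n) v) = _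
    rw [hρ]
  have hexp : ∀ m : Additive ↥V, (2 : ℕ) • m = 0 := fun m => by
    apply Additive.toMul.injective
    rw [toMul_nsmul, pow_two]
    exact Subtype.ext (h.elem _ m.toMul.2)
  have hirr : ∀ W : AddSubgroup (Additive ↥V), (∀ x : SL(2, F), ∀ m ∈ W, x • m ∈ W) → W = ⊥ ∨ W = ⊤ := by
    intro W hW
    refine W.bot_or_exists_ne_zero.imp id fun ⟨m, hm, hm0⟩ => eq_top_iff.2 fun m' _ => ?_
    rcases eq_or_ne m' 0 with rfl | hm'
    · exact zero_mem _
    obtain ⟨n, hn, hnm⟩ := exists_conj hG h m.toMul.2 m'.toMul.2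
      (fun e => hm0 (Additive.toMul.injective (Subtype.ext e)))
      (fun e => hm' (Additive.toMul.injective (Subtype.ext e)))
    have h1 := hW (π ⟨n, hn⟩) m hm
    rw [show m = Additive.ofMul m.toMul from rfl, hsmul] at h1
    convert h1
    exact (congrArg Additive.ofMul (Subtype.ext hnm : conjHom V ⟨n, hn⟩ m.toMul = m'.toMul)).symm
  have hcardM : Nat.card (Additive ↥V) = Fintype.card F ^ 2 := h.card_V ▸ rfl
  have hnt : ∃ (x : SL(2, F)) (m : Additive ↥V), x • m ≠ m := by
    by_contra hcon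
    push Not at hcon
    have hN : N ≤ V := fun n hn => by
      rw [← h.self_centralizing, mem_centralizer_iff]
      intro v hv
      have h1 := hcon (π ⟨n, hn⟩) (Additive.ofMul ⟨v, hv⟩)
      rw [hsmul] at h1
      have h2 : n * v * n⁻¹ = v := congrArg Subtype.val (Additive.ofMul.injective h1)
      exact (mul_inv_eq_iff_eq_mul.1 h2).symm
    have h2 := (Subgroup.card_le_of_le (h.le_normalizer.trans hN))
    rw [h.card_T, h.card_V] at h2
    exact absurd h2 (not_le.2 (Nat.pow_lt_pow_right (by omega) (by norm_num)))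
  have hfix : Nat.card (Additive ↥V) ≤ Nat.card (fixUp F (Additive ↥V)) ^ 2 := by
    rw [hcardM]
    refine Nat.pow_le_pow_left (hZ.trans ?_) 2
    have hmem : ∀ z ∈ T ⊓ centralizer (T : Set G), z ∈ V := fun z hz => by
      rw [← h.self_centralizing]
      exact centralizer_le h.le hz.2
    refine Nat.card_le_card_of_injective (fun z => (⟨Additive.ofMul ⟨z.1, hmem _ z.2⟩, ?_⟩ :
      fixUp F (Additive ↥V))) fun z z' he => Subtype.ext
        (congrArg (fun w : fixUp F (Additive ↥V) => ((w.1.toMul : ↥V) : G)) he)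
    intro t
    obtain ⟨n, hn⟩ := (⟨σ (up t), hσ _⟩ : ∃ n, π n = up t)
    have hnT : (n : G) ∈ T := (hπT n).2 ⟨t, hn⟩
    rw [← hn, hsmul]
    refine congrArg Additive.ofMul (Subtype.ext ?_)
    rw [conjHom_coe]
    exact mul_inv_eq_iff_eq_mul.2 (mem_centralizer_iff.1 z.2.2 _ hnT)
  obtain ⟨ψ, hψ⟩ := exists_equiv (p := 2) hexp hirr hnt (Or.inr hfix)
  refine ⟨⟨π, fun x => ⟨σ x, hσ x⟩, hπ1, hπT, fun v => ψ (Additive.ofMul v),
    ψ.bijective.comp Additive.ofMul.bijective, fun u v => map_add ψ _ _, fun n v => ?_⟩⟩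
  rw [← hψ, hsmul]

variable (S : Side V T F) (h : QSide V T F)

namespace Side

include h

theorem φ_one : S.φ 1 = 0 := by
  have h1 := S.φ_mul 1 1
  rw [mul_one] at h1
  simpa using h1

/-- The parameter of an element of `T`. -/
noncomputable def tau (t : G) (ht : t ∈ T) : F := (S.π ⟨t, h.le_normalizer ht⟩).1 0 1

theorem π_eq {t : G} (ht : t ∈ T) : S.π ⟨t, h.le_normalizer ht⟩ = up (tau S h t ht) := by
  obtain ⟨s, hs⟩ := (S.π_T ⟨t, h.le_normalizer ht⟩).1 ht
  rw [tau, hs]
  simp [up_coe]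

theorem tau_mul {s t : G} (hs : s ∈ T) (ht : t ∈ T) :
    tau S h (s * t) (mul_mem hs ht) = tau S h s hs + tau S h t ht := by
  apply up_injective
  rw [← π_eq, up_add, ← π_eq, ← π_eq, ← map_mul]
  rfl

theorem tau_eq_zero {t : G} (ht : t ∈ T) : tau S h t ht = 0 ↔ t ∈ V := by
  rw [← up_injective.eq_iff, ← π_eq, up_zero, S.π_one]

theorem commute_iff {t : G} (ht : t ∈ T) (htV : t ∉ V) (v : ↥V) :
    Commute (v : G) t ↔ S.φ v 1 = 0 := by
  have hc : conjHom V ⟨t, h.le_normalizer ht⟩ v = v ↔ Commute (v : G) t := by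
    rw [Subtype.ext_iff, conjHom_coe, mul_inv_eq_iff_eq_mul]
    exact eq_comm
  rw [← hc, ← S.φ_bij.1.eq_iff, S.φ_conj, π_eq S h ht, up_coe]
  have hs : tau S h t ht ≠ 0 := fun e => htV ((tau_eq_zero S h ht).1 e)
  constructor
  · intro e
    have e0 := congrFun e 0
    simpa [Matrix.mulVec, dotProduct, Fin.sum_univ_two, hs] using e0
  · intro e
    ext i
    fin_cases i <;> simp [Matrix.mulVec, dotProduct, Fin.sum_univ_two, e]

theorem exists_notMem (hF : 4 ≤ Fintype.card F) [Finite G] : ∃ t ∈ T, t ∉ V := by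
  by_contra hcon
  push Not at hcon
  have h2 := Subgroup.card_le_of_le (hcon : T ≤ V)
  rw [h.card_T, h.card_V] at h2
  exact absurd h2 (not_le.2 (Nat.pow_lt_pow_right (by omega) (by norm_num)))

theorem mem_center (hF : 4 ≤ Fintype.card F) [Finite G] {z : G} :
    z ∈ T ⊓ centralizer (T : Set G) ↔ ∃ hz : z ∈ V, S.φ ⟨z, hz⟩ 1 = 0 := by
  constructor
  · intro hz
    have hzV : z ∈ V := by
      rw [← h.self_centralizing]
      exact centralizer_le h.le hz.2
    obtain ⟨t, ht, htV⟩ := exists_notMem h hF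
    exact ⟨hzV, (commute_iff S h ht htV ⟨z, hzV⟩).1 (mem_centralizer_iff.1 hz.2 t ht).symm⟩
  · rintro ⟨hzV, hz⟩
    refine ⟨h.le hzV, mem_centralizer_iff.2 fun t ht => ?_⟩
    by_cases htV : t ∈ V
    · exact (commute_V h htV hzV).eq
    · exact ((commute_iff S h ht htV ⟨z, hzV⟩).2 hz).eq.symm

theorem conj_mem_T {n : ↥(normalizer (V : Set G))} (hn : (S.π n).1 1 0 = 0) {t : G} (ht : t ∈ T) :
    (n : G) * t * (n : G)⁻¹ ∈ T :=
  (S.π_T (n * ⟨t, h.le_normalizer ht⟩ * n⁻¹)).2
    ⟨(S.π n).1 0 0 ^ 2 * tau S h t ht,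
      by rw [map_mul, map_mul, map_inv, π_eq S h ht, tri_conj_up hn]⟩

theorem tri_of_normalizes (hF : 4 ≤ Fintype.card F) [Finite G] {n : ↥(normalizer (V : Set G))}
    (hn : ∀ t ∈ T, (n : G) * t * (n : G)⁻¹ ∈ T) : (S.π n).1 1 0 = 0 := by
  obtain ⟨t, ht, htV⟩ := exists_notMem h hF
  refine tri_of_conj (t := tau S h t ht) (s := tau S h _ (hn t ht))
    (fun e => htV ((tau_eq_zero S h ht).1 e)) ?_
  rw [← π_eq, ← π_eq, ← map_inv, ← map_mul, ← map_mul]
  rfl

theorem tau_conj {n : ↥(normalizer (V : Set G))} (hn : (S.π n).1 1 0 = 0) {t : G} (ht : t ∈ T) :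
    tau S h ((n : G) * t * (n : G)⁻¹) (conj_mem_T S h hn ht) =
      (S.π n).1 0 0 ^ 2 * tau S h t ht := by
  apply up_injective
  rw [← π_eq, ← tri_conj_up hn, ← π_eq, ← map_inv, ← map_mul, ← map_mul]
  rfl

theorem φ_conj_one {n : ↥(normalizer (V : Set G))} (hn : (S.π n).1 1 0 = 0) (v : ↥V) :
    (S.π n).1 0 0 * S.φ (conjHom V n v) 1 = S.φ v 1 := by
  rw [S.φ_conj]
  simp only [Matrix.mulVec, dotProduct, Fin.sum_univ_two, hn, zero_mul, zero_add]
  rw [← mul_assoc, tri_det hn, one_mul]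

theorem φ_conj_zero {n : ↥(normalizer (V : Set G))} (v : ↥V) (hv : S.φ v 1 = 0) :
    S.φ (conjHom V n v) 0 = (S.π n).1 0 0 * S.φ v 0 := by
  rw [S.φ_conj]
  simp [Matrix.mulVec, dotProduct, Fin.sum_univ_two, hv]

/-- A lift of a diagonal element normalizes `T`. -/
theorem exists_torus [Finite G] {a : F} (ha : a ≠ 0) :
    ∃ n : ↥(normalizer (V : Set G)), S.π n = diag a ∧ (S.π n).1 1 0 = 0 ∧
      (S.π n).1 0 0 = a ∧ (n : G) ∈ normalizer (T : Set G) := by
  obtain ⟨n, hn⟩ := S.π_surj (diag a)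
  have h10 : (S.π n).1 1 0 = 0 := by rw [hn, diag_coe ha]; rfl
  exact ⟨n, hn, h10, by rw [hn, diag_coe ha]; rfl,
    mem_normalizer_of_conj fun t ht => conj_mem_T S h h10 ht⟩

end Side

end Side

/-! ### Two sides -/

section Pair

variable {F : Type} [Field F] [Fintype F] {V A T : Subgroup G}

theorem symm (h : QPair V A T F) : QPair A V T F :=
  ⟨h.char_two, h.four_le, h.right, h.left, h.ne.symm, h.commutator_le, h.sq_central, h.abelian_le,
    h.card_center⟩

variable [Finite G]

theorem exists_sides (hG : IsCIT G) (h : QPair V A T F) :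
    Nonempty (Side V T F) ∧ Nonempty (Side A T F) := by
  haveI := h.char_two
  exact ⟨exists_side hG h.four_le h.left h.card_center.ge,
    exists_side hG h.four_le h.right h.card_center.ge⟩

theorem inf_eq (hG : IsCIT G) (h : QPair V A T F) : V ⊓ A = T ⊓ centralizer (T : Set G) := by
  obtain ⟨⟨S⟩, ⟨S'⟩⟩ := exists_sides hG h
  refine le_antisymm (fun z hz => ?_) fun z hz =>
    ⟨((Side.mem_center S h.left h.four_le).1 hz).1, ((Side.mem_center S' h.right h.four_le).1 hz).1⟩
  obtain ⟨a, ha, haV⟩ : ∃ a ∈ A, a ∉ V := by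
    by_contra hcon
    push Not at hcon
    exact h.ne (Subgroup.eq_of_le_of_card_ge (hcon : A ≤ V)
      (by rw [h.left.card_V, h.right.card_V])).symm
  exact (Side.mem_center S h.left h.four_le).2
    ⟨hz.1, (Side.commute_iff S h.left (h.right.le ha) haV ⟨z, hz.1⟩).1
      (commute_V h.right hz.2 ha)⟩

theorem card_inf (hG : IsCIT G) (h : QPair V A T F) : Nat.card ↥(V ⊓ A) = Fintype.card F := by
  rw [inf_eq hG h, h.card_center]

theorem exists_right (hG : IsCIT G) (h : QPair V A T F) {t : G} (ht : t ∈ T) :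
    ∃ a ∈ A, a⁻¹ * t ∈ V := by
  obtain ⟨⟨S⟩, -⟩ := exists_sides hG h
  let f : ↥A →* Multiplicative F :=
    MonoidHom.mk' (fun a => Multiplicative.ofAdd (Side.tau S h.left a (h.right.le a.2)))
      fun a b => congrArg Multiplicative.ofAdd (Side.tau_mul S h.left (h.right.le a.2) (h.right.le b.2))
  have hk : Nat.card f.ker = Fintype.card F := by
    rw [← card_inf hG h]
    refine Nat.card_congr ⟨fun a => ⟨a.1.1, (Side.tau_eq_zero S h.left _).1
        (Multiplicative.ofAdd.injective a.2), a.1.2⟩,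
      fun z => ⟨⟨z.1, z.2.2⟩, congrArg Multiplicative.ofAdd
        ((Side.tau_eq_zero S h.left _).2 z.2.1)⟩, fun a => rfl, fun z => rfl⟩
  have h1 := f.ker.card_mul_index
  rw [hk, Subgroup.index_ker, h.right.card_V, pow_two] at h1
  have h2 : f.range = ⊤ := by
    refine Subgroup.eq_top_of_card_eq _ ?_
    rw [Nat.eq_of_mul_eq_mul_left Fintype.card_pos h1, Nat.card_congr Multiplicative.toAdd,
      Nat.card_eq_fintype_card]
  obtain ⟨a, ha⟩ : Multiplicative.ofAdd (Side.tau S h.left t ht) ∈ f.range := h2 ▸ mem_top _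
  refine ⟨a, a.2, (Side.tau_eq_zero S h.left (mul_mem (inv_mem (h.right.le a.2)) ht)).1 ?_⟩
  have h3 := Side.tau_mul S h.left (h.right.le a.2) (mul_mem (inv_mem (h.right.le a.2)) ht)
  simp only [mul_inv_cancel_left] at h3
  rw [← show Side.tau S h.left (a : G) (h.right.le a.2) = Side.tau S h.left t ht from
    Multiplicative.ofAdd.injective ha] at h3
  simpa using h3

theorem sup_eq (hG : IsCIT G) (h : QPair V A T F) : V ⊔ A = T := by
  refine le_antisymm (sup_le h.left.le h.right.le) fun t ht => ?_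
  obtain ⟨a, ha, hat⟩ := exists_right hG h ht
  simpa using mul_mem (mem_sup_right ha : a ∈ V ⊔ A) (mem_sup_left hat)

theorem invol (hG : IsCIT G) (h : QPair V A T F) {x : G} (hx : x ∈ T) (hx2 : x * x = 1) :
    x ∈ V ∨ x ∈ A := by
  obtain ⟨a, ha, hv⟩ := exists_right hG h hx
  by_cases haV : a ∈ V
  · exact Or.inl (by simpa using mul_mem haV hv)
  obtain ⟨⟨S⟩, -⟩ := exists_sides hG h
  have hc : Commute a (a⁻¹ * x) :=
    commute_of_sq (h.right.elem a ha) (h.left.elem _ hv) (by rw [mul_inv_cancel_left]; exact hx2)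
  have h1 : a⁻¹ * x ∈ V ⊓ A := by
    rw [inf_eq hG h]
    exact (Side.mem_center S h.left h.four_le).2
      ⟨hv, (Side.commute_iff S h.left (h.right.le ha) haV ⟨_, hv⟩).1 hc.symm⟩
  exact Or.inr (by simpa using mul_mem ha h1.2)

theorem elem_le (hG : IsCIT G) (h : QPair V A T F) {E : Subgroup G} (hE : E ≤ T)
    (hel : ∀ x ∈ E, x * x = 1) (hc : Nat.card ↥E = Fintype.card F ^ 2) : E = V ∨ E = A :=
  eq_or_eq_of_subset_union (fun x hx => invol hG h (hE hx) (hel x hx))
    (by rw [hc, h.left.card_V]) (by rw [hc, h.right.card_V])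

/-- An element normalizing `V` and `T` normalizes `A`. -/
theorem normalizes_right (hG : IsCIT G) (h : QPair V A T F) {n : G}
    (hV : n ∈ normalizer (V : Set G)) (hT : ∀ t ∈ T, n * t * n⁻¹ ∈ T) :
    n ∈ normalizer (A : Set G) := by
  rcases elem_le hG h (E := A.map (MulAut.conj n).toMonoidHom)
      (by rintro _ ⟨x, hx, rfl⟩; exact hT x (h.right.le hx))
      (by
        rintro _ ⟨x, hx, rfl⟩
        rw [← map_mul, h.right.elem x hx, map_one])
      (by rw [Subgroup.card_map_of_injective (MulAut.conj n).injective, h.right.card_V]) with e | e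
  · exfalso
    refine h.ne (Subgroup.eq_of_le_of_card_ge (fun x hx => ?_)
      (by rw [h.left.card_V, h.right.card_V]))
    have hx' : n * x * n⁻¹ ∈ A.map (MulAut.conj n).toMonoidHom :=
      e ▸ (Subgroup.mem_normalizer_iff.1 hV x).1 hx
    obtain ⟨y, hy, hyx⟩ := hx'
    have hyx' : n * y * n⁻¹ = n * x * n⁻¹ := hyx
    rwa [← mul_left_cancel (mul_right_cancel hyx')]
  · exact mem_normalizer_of_conj fun x hx => e.le ⟨x, hx, rfl⟩

/-- The field has four elements. -/
theorem card_eq_four (hG : IsCIT G) (h : QPair V A T F) : Fintype.card F = 4 := by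
  classical
  haveI := h.char_two
  obtain ⟨⟨S⟩, ⟨S'⟩⟩ := exists_sides hG h
  have hl := h.left
  have hr := h.right
  choose r hr' using fun x : F => S.φ_bij.2 ![x, 0]
  have hrA : ∀ x, (r x : G) ∈ A := fun x => by
    have hm : (r x : G) ∈ T ⊓ centralizer (T : Set G) :=
      (Side.mem_center S hl h.four_le).2 ⟨(r x).2, by simp [hr']⟩
    exact ((Side.mem_center S' hr h.four_le).1 hm).1
  have hr1 : ∀ x, S'.φ ⟨r x, hrA x⟩ 1 = 0 := fun x => by
    have hm : (r x : G) ∈ T ⊓ centralizer (T : Set G) :=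
      (Side.mem_center S hl h.four_le).2 ⟨(r x).2, by simp [hr']⟩
    exact ((Side.mem_center S' hr h.four_le).1 hm).2
  choose w hw using fun y : F => S'.φ_bij.2 ![0, y]
  have hradd : ∀ x y, r (x + y) = r x * r y := fun x y => S.φ_bij.1 (by
    rw [S.φ_mul, hr', hr', hr']
    ext i; fin_cases i <;> simp)
  have hwadd : ∀ x y, w (x + y) = w x * w y := fun x y => S'.φ_bij.1 (by
    rw [S'.φ_mul, hw, hw, hw]
    ext i; fin_cases i <;> simp)
  let f : F → F := fun x => S'.φ ⟨r x, hrA x⟩ 0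
  let η : F → F := fun x => Side.tau S hl (w (f x)) (hr.le (w (f x)).2)
  have hfadd : ∀ x y, f (x + y) = f x + f y := fun x y => by
    have e : (⟨r (x + y), hrA (x + y)⟩ : ↥A) = ⟨r x, hrA x⟩ * ⟨r y, hrA y⟩ :=
      Subtype.ext (congrArg (fun z : ↥V => (z : G)) (hradd x y))
    show S'.φ _ 0 = _
    rw [e, S'.φ_mul]
    rfl
  have hηadd : ∀ x y, η (x + y) = η x + η y := fun x y => by
    show Side.tau S hl _ _ = _
    have e : ((w (f (x + y)) : ↥A) : G) = (w (f x) : G) * w (f y) := by rw [hfadd, hwadd]; rfl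
    simp only [e]
    exact Side.tau_mul S hl _ _
  have hη1 : η 1 ≠ 0 := fun e => by
    have h1 := (Side.tau_eq_zero S hl _).1 e
    have h2 : (w (f 1) : G) ∈ T ⊓ centralizer (T : Set G) :=
      (inf_eq hG h).le ⟨h1, (w (f 1)).2⟩
    obtain ⟨hA', h3⟩ := (Side.mem_center S' hr h.four_le).1 h2
    have h4 : f 1 = 0 := by
      have := hw (f 1)
      rw [show (⟨(w (f 1) : G), hA'⟩ : ↥A) = w (f 1) from rfl, this] at h3
      simpa using h3
    have h5 : S'.φ ⟨r 1, hrA 1⟩ = S'.φ 1 := by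
      rw [Side.φ_one S' hr]
      ext i; fin_cases i
      · exact h4
      · exact hr1 1
    have h6 : r 1 = 1 := by
      have h6' := S'.φ_bij.1 h5
      exact Subtype.ext (congrArg (fun z : ↥A => (z : G)) h6' :)
    have h7 := hr' 1
    rw [h6, Side.φ_one S hl] at h7
    simpa using congrFun h7 0
  have key : ∀ a : F, a ≠ 0 → a ^ 2 * η a = η 1 := by
    intro a ha
    obtain ⟨n, hn, hn10, hn00, hnT⟩ := Side.exists_torus S hl ha
    have hnT' : ∀ t ∈ T, (n : G) * t * (n : G)⁻¹ ∈ T := fun t ht =>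
      (Subgroup.mem_normalizer_iff.1 hnT t).1 ht
    set m : ↥(normalizer (A : Set G)) := ⟨n, normalizes_right hG h n.2 hnT'⟩
    have hm10 : (S'.π m).1 1 0 = 0 := Side.tri_of_normalizes S' hr h.four_le hnT'
    set b := (S'.π m).1 0 0 with hb
    have hb0 : b ≠ 0 := left_ne_zero_of_mul_eq_one (tri_det hm10)
    have hfa : f a = b * f 1 := by
      have e1 : conjHom V n (r 1) = r a := S.φ_bij.1 (by
        rw [S.φ_conj, hn, diag_coe ha, hr', hr']
        ext i; fin_cases i <;> simp [Matrix.mulVec, dotProduct, Fin.sum_univ_two])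
      have e2 : (⟨r a, hrA a⟩ : ↥A) = conjHom A m ⟨r 1, hrA 1⟩ :=
        Subtype.ext (congrArg Subtype.val e1).symm
      show S'.φ _ 0 = _
      rw [e2, Side.φ_conj_zero S' hr _ (hr1 1)]
    set α := conjHom A m (w (f a)) with hα
    have hα1 : S'.φ α 1 = f 1 := by
      have h1 := Side.φ_conj_one S' hr hm10 (w (f a))
      rw [hw, ← hb] at h1
      simp only [Matrix.cons_val_one, Matrix.cons_val_zero] at h1
      exact mul_left_cancel₀ hb0 (h1.trans hfa)
    have hδ : ((α * w (f 1) : ↥A) : G) ∈ V := by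
      refine ((inf_eq hG h).ge ((Side.mem_center S' hr h.four_le).2 ⟨(α * w (f 1)).2, ?_⟩)).1
      show S'.φ (α * w (f 1)) 1 = 0
      rw [S'.φ_mul, Pi.add_apply, hα1, hw]
      simp [CharTwo.add_self_eq_zero]
    have h1 := (Side.tau_eq_zero S hl (hr.le (α * w (f 1)).2)).2 hδ
    have h2 : Side.tau S hl (α : G) (hr.le α.2) + η 1 = 0 :=
      (Side.tau_mul S hl (hr.le α.2) (hr.le (w (f 1)).2)).symm.trans h1
    rw [CharTwo.add_eq_zero] at h2
    rw [← h2]
    have h3 := Side.tau_conj S hl hn10 (hr.le (w (f a)).2)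
    rw [hn00] at h3
    exact h3.symm
  have quad : ∀ a : F, a ≠ 0 → a ≠ 1 → a ^ 2 + a + 1 = 0 := by
    intro a ha ha1
    have h1a : 1 + a ≠ 0 := fun e => ha1 (CharTwo.add_eq_zero.1 e).symm
    have e1 := key a ha
    have e2 := key (1 + a) h1a
    rw [hηadd] at e2
    have h2 := CharTwo.two_eq_zero (R := F)
    have e3 : η 1 * (a ^ 2 + a + 1) ^ 2 = 0 := by
      linear_combination a ^ 2 * e2 - (1 + a) ^ 2 * e1 +
        η 1 * a ^ 2 * h2
    rcases mul_eq_zero.1 e3 with e | e
    · exact absurd e hη1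
    · exact pow_eq_zero_iff two_ne_zero |>.1 e
  refine le_antisymm ?_ h.four_le
  obtain ⟨a, -, ha⟩ : ∃ a ∈ (Finset.univ : Finset F), a ∉ ({0, 1} : Finset F) :=
    Finset.exists_mem_notMem_of_card_lt_card (lt_of_le_of_lt Finset.card_le_two
      (by rw [Finset.card_univ]; linarith [h.four_le]))
  simp only [Finset.mem_insert, Finset.mem_singleton, not_or] at ha
  have hsub : (Finset.univ : Finset F) ⊆ {0, 1, a, a + 1} := fun b _ => by
    simp only [Finset.mem_insert, Finset.mem_singleton]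
    by_cases hb0 : b = 0
    · exact Or.inl hb0
    by_cases hb1 : b = 1
    · exact Or.inr (Or.inl hb1)
    have e : (b - a) * (b + a + 1) = 0 := by
      linear_combination quad b hb0 hb1 - quad a ha.1 ha.2
    rcases mul_eq_zero.1 e with e | e
    · exact Or.inr (Or.inr (Or.inl (sub_eq_zero.1 e)))
    · exact Or.inr (Or.inr (Or.inr (CharTwo.add_eq_zero.1 (by rw [← e]; ring))))
  exact (Finset.card_le_card hsub).trans Finset.card_le_four

/-! ### The Sylow subgroup -/

theorem mem_T_of_mem (h : QPair V A T F) {P : Subgroup G} (hP : IsPGroup 2 ↥P) (hTP : T ≤ P) {x : G}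
    (hx : x ∈ P) (hxV : x ∈ normalizer (V : Set G)) : x ∈ T := by
  rw [← h.left.sylow (P ⊓ normalizer (V : Set G)) (hP.to_le inf_le_left)
    (le_inf hTP h.left.le_normalizer) inf_le_right]
  exact ⟨hx, hxV⟩

theorem swap (hG : IsCIT G) (h : QPair V A T F) {P : Subgroup G} (hP : IsPGroup 2 ↥P) (hTP : T ≤ P)
    {x : G} (hx : x ∈ P) (hxT : x ∉ T) (hn : x ∈ normalizer (T : Set G)) :
    (∀ v ∈ V, x * v * x⁻¹ ∈ A) ∧ (∀ a ∈ A, x * a * x⁻¹ ∈ V) := by
  have hout : ∀ (B : Subgroup G) (_ : B ≤ T) (_ : ∀ y ∈ B, y * y = 1)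
      (_ : Nat.card ↥B = Fintype.card F ^ 2), B.map (MulAut.conj x).toMonoidHom = V ∨
        B.map (MulAut.conj x).toMonoidHom = A := by
    intro B hB hel hc
    refine elem_le hG h ?_ ?_ ?_
    · rintro _ ⟨y, hy, rfl⟩
      exact (Subgroup.mem_normalizer_iff.1 hn y).1 (hB hy)
    · rintro _ ⟨y, hy, rfl⟩
      rw [← map_mul, hel y hy, map_one]
    · rw [Subgroup.card_map_of_injective (MulAut.conj x).injective, hc]
  have hVA : V.map (MulAut.conj x).toMonoidHom = A :=
    (hout V h.left.le h.left.elem h.left.card_V).resolve_left fun e =>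
      hxT (mem_T_of_mem h hP hTP hx (mem_normalizer_of_conj fun v hv => e.le ⟨v, hv, rfl⟩))
  have hAV : A.map (MulAut.conj x).toMonoidHom = V := by
    rcases hout A h.right.le h.right.elem h.right.card_V with e | e
    · exact e
    · exact absurd (Subgroup.map_injective (MulAut.conj x).injective (hVA.trans e.symm)) h.ne
  exact ⟨fun v hv => hVA.le ⟨v, hv, rfl⟩, fun a ha => hAV.le ⟨a, ha, rfl⟩⟩

/-- Every 2-group containing `T` normalizes it, and has no elementary abelian subgroups of order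
`q ^ 2` but `V` and `A`. -/
theorem elem_mem (hG : IsCIT G) (h : QPair V A T F) {P : Subgroup G} (hP : IsPGroup 2 ↥P)
    (hTP : T ≤ P) {E : Subgroup G} (hE : E ≤ P) (hEn : E ≤ normalizer (T : Set G))
    (hel : ∀ x ∈ E, x * x = 1) (hc : Nat.card ↥E = Fintype.card F ^ 2) : E = V ∨ E = A := by
  classical
  refine elem_le hG h (fun x hx => ?_) hel hc
  by_contra hxT
  have hswap := swap hG h hP hTP (hE hx) hxT (hEn hx)
  have hinf : ∀ y ∈ E, y ∈ T → y ∈ V ⊓ A := by
    intro y hy hyT
    have hc' : x * y * x⁻¹ = y := mul_inv_eq_iff_eq_mul.2 (commute_of_elem hel hx hy).eq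
    rcases invol hG h hyT (hel y hy) with hV | hA
    · exact ⟨hV, hc' ▸ hswap.1 y hV⟩
    · exact ⟨hc' ▸ hswap.2 y hA, hA⟩
  have hprod : ∀ y ∈ E, y ∉ T → x * y ∈ T := by
    intro y hy hyT
    have hy' := swap hG h hP hTP (hE hy) hyT (hEn hy)
    refine mem_T_of_mem h hP hTP (hE (mul_mem hx hy)) (mem_normalizer_of_conj fun v hv => ?_)
    have h1 := hswap.2 _ (hy'.1 v hv)
    rwa [show x * (y * v * y⁻¹) * x⁻¹ = x * y * v * (x * y)⁻¹ by group] at h1
  have hle : Nat.card ↥E ≤ Nat.card (Bool × ↥(V ⊓ A)) :=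
    Nat.card_le_card_of_injective (fun y : ↥E => if hy : (y : G) ∈ T then
        (false, (⟨y, hinf y y.2 hy⟩ : ↥(V ⊓ A)))
      else (true, ⟨x * y, hinf _ (mul_mem hx y.2) (hprod y y.2 hy)⟩)) (by
      intro y y' e
      simp only at e
      split_ifs at e <;> simp only [Prod.mk.injEq, Subtype.mk.injEq] at e
      · exact Subtype.ext e.2
      · exact absurd e.1 (by decide)
      · exact absurd e.1 (by decide)
      · exact Subtype.ext (mul_left_cancel e.2))
  rw [Nat.card_prod, card_inf hG h, hc, Nat.card_eq_fintype_card, Fintype.card_bool, pow_two] at hle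
  have h4 := h.four_le
  have := Nat.le_of_mul_le_mul_right hle (by omega)
  omega

theorem le_normalizer_T (hG : IsCIT G) (h : QPair V A T F) {P : Subgroup G} (hP : IsPGroup 2 ↥P)
    (hTP : T ≤ P) : P ≤ normalizer (T : Set G) := by
  haveI : Fact (Nat.Prime 2) := ⟨Nat.prime_two⟩
  by_contra hcon
  set R := P ⊓ normalizer (T : Set G) with hR
  have hRP : R < P := lt_of_le_not_ge inf_le_left fun h' => hcon fun x hx => (h' hx).2
  obtain ⟨g, hgP, hgR, hgN⟩ := CfsgLib.Involutions.exists_mem_normalizer_notMem hP hRP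
  refine hgR ⟨hgP, mem_normalizer_of_conj fun t ht => ?_⟩
  have key : ∀ B : Subgroup G, B ≤ T → (∀ y ∈ B, y * y = 1) →
      Nat.card ↥B = Fintype.card F ^ 2 → B.map (MulAut.conj g).toMonoidHom ≤ T := by
    intro B hB hel hc
    have hBR : B.map (MulAut.conj g).toMonoidHom ≤ R := by
      rintro _ ⟨y, hy, rfl⟩
      exact (Subgroup.mem_normalizer_iff.1 hgN y).1 ⟨hTP (hB hy), le_normalizer (hB hy)⟩
    rcases elem_mem hG h hP hTP (hBR.trans inf_le_left) (hBR.trans inf_le_right)
        (by rintro _ ⟨y, hy, rfl⟩; rw [← map_mul, hel y hy, map_one])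
        (by rw [Subgroup.card_map_of_injective (MulAut.conj g).injective, hc]) with e | e
    · exact e.trans_le h.left.le
    · exact e.trans_le h.right.le
  have h1 : (V ⊔ A).map (MulAut.conj g).toMonoidHom ≤ T := by
    rw [Subgroup.map_sup]
    exact sup_le (key V h.left.le h.left.elem h.left.card_V)
      (key A h.right.le h.right.elem h.right.card_V)
  exact h1 ⟨t, (sup_eq hG h).ge ht, rfl⟩

theorem isPGroup_T (h : QPair V A T F) : IsPGroup 2 ↥T := by
  haveI := h.char_two
  haveI : Fact (Nat.Prime 2) := ⟨Nat.prime_two⟩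
  obtain ⟨n, -, hn⟩ := FiniteField.card F 2
  exact IsPGroup.of_card (n := n * 3) (by rw [h.left.card_T, hn, ← pow_mul])

/-- `T` is a maximal 2-subgroup. -/
theorem eq_T (hG : IsCIT G) (h : QPair V A T F) {Q : Subgroup G} (hQ : IsPGroup 2 ↥Q)
    (hTQ : T ≤ Q) : Q = T := by
  classical
  haveI := h.char_two
  haveI : Fact (Nat.Prime 2) := ⟨Nat.prime_two⟩
  have hq := card_eq_four hG h
  by_contra hne
  obtain ⟨y, hyQ, hyT⟩ := SetLike.not_le_iff_exists.1 fun h' => hne (le_antisymm h' hTQ)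
  have hyN := le_normalizer_T hG h hQ hTQ hyQ
  obtain ⟨⟨S⟩, ⟨S'⟩⟩ := exists_sides hG h
  -- the torus element
  obtain ⟨ω, -, hω⟩ : ∃ a ∈ (Finset.univ : Finset F), a ∉ ({0, 1} : Finset F) :=
    Finset.exists_mem_notMem_of_card_lt_card (lt_of_le_of_lt Finset.card_le_two
      (by rw [Finset.card_univ, hq]; norm_num))
  simp only [Finset.mem_insert, Finset.mem_singleton, not_or] at hω
  obtain ⟨hω0, hω1⟩ := hω
  have hω3 : ω ^ 3 = 1 := by
    have := FiniteField.pow_card_sub_one_eq_one ω hω0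
    rwa [hq] at this
  obtain ⟨n, hn, -, -, -⟩ := Side.exists_torus S h.left hω0
  obtain ⟨j, m, hm, hord⟩ := Nat.exists_eq_two_pow_mul_odd (orderOf_pos n).ne'
  set kN := n ^ 4 ^ j with hkN
  have hd3 : diag ω ^ 3 = 1 := by
    rw [pow_three', diag_mul hω0 hω0, diag_mul (mul_ne_zero hω0 hω0) hω0, ← pow_three', hω3, diag_one]
  have hπk : S.π kN = diag ω := by
    have h4 : 4 ^ j % 3 = 1 := by rw [Nat.pow_mod]; norm_num
    have e := Nat.div_add_mod (4 ^ j) 3
    rw [h4] at e
    rw [hkN, map_pow, hn, ← e, pow_add, pow_mul, hd3, one_pow, one_mul, pow_one]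
  have hdne : diag ω ≠ 1 := fun e => hω1 (by
    have e' := congrFun (congrFun (congrArg Subtype.val e) 0) 0
    rw [diag_coe hω0] at e'
    simpa using e')
  have hV2 : IsPGroup 2 ↥V := (isPGroup_T h).to_le h.left.le
  have hk3 : orderOf (kN : G) = 3 := by
    have hodd : Odd (orderOf kN) := by
      refine hm.of_dvd_nat (orderOf_dvd_of_pow_eq_one ?_)
      rw [hkN, ← pow_mul]
      refine orderOf_dvd_iff_pow_eq_one.1 ?_
      rw [hord, show (4 : ℕ) ^ j = 2 ^ j * 2 ^ j by rw [← mul_pow]; norm_num]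
      exact ⟨2 ^ j, by ring⟩
    refine orderOf_eq_prime (hp := ⟨Nat.prime_three⟩) ?_ fun e => hdne ?_
    · have hkV : ((kN ^ 3 : ↥(normalizer (V : Set G))) : G) ∈ V :=
        (S.π_one _).1 (by rw [map_pow, hπk, hd3])
      rw [← SubgroupClass.coe_pow]
      refine eq_one_of_isTwo_of_odd (isTwo_of_mem hV2 hkV) ?_
      rw [Subgroup.orderOf_coe]
      exact hodd.of_dvd_nat (orderOf_pow_dvd _)
    · rw [← hπk, show kN = 1 from Subtype.ext e, map_one]
  set k : G := (kN : G) with hk
  have hk10 : (S.π kN).1 1 0 = 0 := by rw [hπk, diag_coe hω0]; rfl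
  have hkT : k ∈ normalizer (T : Set G) :=
    mem_normalizer_of_conj fun t ht => Side.conj_mem_T S h.left hk10 ht
  have hkV : k ∈ normalizer (V : Set G) := kN.2
  have hkA : k ∈ normalizer (A : Set G) :=
    normalizes_right hG h hkV fun t ht => (Subgroup.mem_normalizer_iff.1 hkT t).1 ht
  have hkodd : Odd (orderOf k) := by rw [hk3]; decide
  have hk1 : k ≠ 1 := fun e => by rw [e, orderOf_one] at hk3; omega
  -- units of the field
  have hunit : ∀ b : F, b ≠ 0 → ∃ i : ℕ, b = ω ^ i := by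
    intro b hb0
    have hsub : (Finset.univ : Finset F) = {0, 1, ω, ω ^ 2} := by
      refine (Finset.eq_univ_of_card _ ?_).symm
      have h2 : ω ^ 2 ≠ 1 := fun e => hω1 (by rw [pow_succ, e, one_mul] at hω3; exact hω3)
      have h3 : ω ≠ ω ^ 2 := fun e => hω1 (mul_left_cancel₀ hω0 (by rw [mul_one, ← pow_two]; exact e.symm))
      rw [hq, Finset.card_insert_of_notMem (by
          simp [Ne.symm hω0, (pow_ne_zero 2 hω0).symm]),
        Finset.card_insert_of_notMem (by simp [Ne.symm hω1, Ne.symm h2]),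
        Finset.card_insert_of_notMem (by simpa using h3), Finset.card_singleton]
    have hb := hsub ▸ Finset.mem_univ b
    simp only [Finset.mem_insert, Finset.mem_singleton] at hb
    rcases hb with e | e | e | e
    · exact absurd e hb0
    · exact ⟨0, by rw [e, pow_zero]⟩
    · exact ⟨1, by rw [e, pow_one]⟩
    · exact ⟨2, e⟩
  have hdpow : ∀ i : ℕ, diag ω ^ i = diag (ω ^ i) := by
    intro i
    induction i with
    | zero => rw [pow_zero, pow_zero, diag_one]
    | succ i ih => rw [pow_succ, pow_succ, ih, diag_mul (pow_ne_zero _ hω0) hω0]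
  -- the exchanging involution
  have hswap := swap hG h hQ hTQ hyQ hyT hyN
  have hyy : y * y ∈ T := mem_T_of_mem h hQ hTQ (mul_mem hyQ hyQ)
    (mem_normalizer_of_conj fun v hv => by
      have := hswap.2 _ (hswap.1 v hv)
      rwa [show y * (y * v * y⁻¹) * y⁻¹ = y * y * v * (y * y)⁻¹ by group] at this)
  have hyk : y * k * y⁻¹ ∈ T ⊔ zpowers k := by
    have hgT : y * k * y⁻¹ ∈ normalizer (T : Set G) := mul_mem (mul_mem hyN hkT) (inv_mem hyN)
    have hgV : y * k * y⁻¹ ∈ normalizer (V : Set G) := mem_normalizer_of_conj fun v hv => by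
      have hVeq : A.map (MulAut.conj y).toMonoidHom = V :=
        Subgroup.eq_of_le_of_card_ge (by rintro _ ⟨a, ha, rfl⟩; exact hswap.2 a ha)
          (by rw [Subgroup.card_map_of_injective (MulAut.conj y).injective, h.left.card_V,
            h.right.card_V])
      obtain ⟨a, ha, rfl⟩ := hVeq.ge hv
      have := hswap.2 _ ((Subgroup.mem_normalizer_iff.1 hkA a).1 ha)
      show y * k * y⁻¹ * (y * a * y⁻¹) * (y * k * y⁻¹)⁻¹ ∈ V
      rwa [show y * k * y⁻¹ * (y * a * y⁻¹) * (y * k * y⁻¹)⁻¹ = y * (k * a * k⁻¹) * y⁻¹ by group]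
    set g : ↥(normalizer (V : Set G)) := ⟨y * k * y⁻¹, hgV⟩
    have hg10 := Side.tri_of_normalizes S h.left h.four_le (n := g)
      fun t ht => (Subgroup.mem_normalizer_iff.1 hgT t).1 ht
    obtain ⟨i, hi⟩ := hunit ((S.π g).1 0 0) (left_ne_zero_of_mul_eq_one (tri_det hg10))
    have hgi : ((g * (kN ^ i)⁻¹ : ↥(normalizer (V : Set G))) : G) ∈ T := by
      refine (S.π_T _).2 ⟨(S.π g).1 0 1 * (S.π g).1 0 0, ?_⟩
      rw [map_mul, map_inv, map_pow, hπk, hdpow, ← hi]
      exact mul_inv_eq_iff_eq_mul.2 (tri_decomp hg10)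
    have e : y * k * y⁻¹ = ((g * (kN ^ i)⁻¹ : ↥(normalizer (V : Set G))) : G) * k ^ i := by
      simp [g, hk]
    rw [e]
    exact mul_mem (mem_sup_left hgi) (mem_sup_right (npow_mem_zpowers _ _))
  have hT2 := isPGroup_T h
  obtain ⟨p, hp, hs2, hsk⟩ := exists_inverter hG hT2 hk3 hkT
    (hQ.to_le (sup_le hTQ (zpowers_le.2 hyQ))) hyN hyT hyy hyk
  set s := p * y with hs
  have hsQ : s ∈ Q := mul_mem (hTQ hp) hyQ
  have hsT : s ∉ T := fun e => hyT ((T.mul_mem_cancel_left hp).1 e)
  have hss : s * s = 1 := (CfsgLib.Involutions.orderOf_eq_two_iff_mul.1 hs2).2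
  have hsswap := swap hG h hQ hTQ hsQ hsT (le_normalizer_T hG h hQ hTQ hsQ)
  -- an involution of `N(V)` inverting `k`
  obtain ⟨w, hw⟩ := S.π_surj (wel 1)
  have hwV : (w : G) ∉ V := fun e => by
    have h1 := (S.π_one w).2 e
    rw [hw] at h1
    have := congrFun (congrFun (congrArg Subtype.val h1) 0) 0
    rw [wel_coe one_ne_zero] at this
    simp at this
  have hww : (w : G) * w ∈ V := (S.π_one (w * w)).1 (by rw [map_mul, hw, wel_one_mul_self])
  have hwk : (w : G) * k * (w : G)⁻¹ ∈ V ⊔ zpowers k := by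
    have hωinv : ω⁻¹ = ω ^ 2 := inv_eq_of_mul_eq_one_right (by rw [← pow_succ', hω3])
    have hv : ((w * kN * w⁻¹ * (kN ^ 2)⁻¹ : ↥(normalizer (V : Set G))) : G) ∈ V := (S.π_one _).1 (by
      rw [map_mul, map_mul, map_mul, map_inv, map_inv, map_pow S.π kN 2, hπk, hw, wel_conj_diag hω0, hdpow,
        hωinv, mul_inv_cancel])
    have e : (w : G) * k * (w : G)⁻¹ =
        ((w * kN * w⁻¹ * (kN ^ 2)⁻¹ : ↥(normalizer (V : Set G))) : G) * k ^ 2 := by
      simp [hk]
    rw [e]
    exact mul_mem (mem_sup_left hv) (mem_sup_right (npow_mem_zpowers _ _))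
  have hw2 : IsPGroup 2 ↥(V ⊔ zpowers (w : G)) := by
    rw [sup_comm]
    refine IsPGroup.to_sup_of_normal_right' (IsPGroup.of_card (n := ?_) ?_) hV2
      (zpowers_le.2 w.2)
    · exact (Nat.log 2 (orderOf (w : G)))
    · rw [Nat.card_zpowers]
      obtain ⟨c, hc⟩ := hV2 ⟨_, hww⟩
      have h1 : (w : G) ^ 2 ^ (c + 1) = 1 := by
        rw [pow_succ', pow_mul, pow_two]
        exact congrArg Subtype.val hc
      obtain ⟨d, -, hd⟩ := (Nat.dvd_prime_pow Nat.prime_two).1 (orderOf_dvd_of_pow_eq_one h1)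
      rw [hd, Nat.log_pow (by norm_num)]
  obtain ⟨v₀, hv₀, hi2, hik⟩ := exists_inverter hG hV2 hk3 hkV hw2 w.2 hwV hww hwk
  set iv := v₀ * (w : G) with hiv
  have hivN : iv ∈ normalizer (V : Set G) := mul_mem (le_normalizer hv₀) w.2
  -- the two involutions are conjugate
  have hconj : IsConj iv s := by
    refine CfsgLib.Involutions.isConj_of_odd_order hi2 hs2 ?_
    by_contra hev
    rw [Nat.not_odd_iff_even] at hev
    have hii : iv⁻¹ = iv := CfsgLib.Involutions.inv_eq_self_of_involution hi2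
    have hcomm : Commute k (iv * s) := by
      show k * (iv * s) = iv * s * k
      have e1 : iv * k⁻¹ * iv⁻¹ = k := by
        calc iv * k⁻¹ * iv⁻¹ = (iv * k * iv⁻¹)⁻¹ := by group
          _ = k := by rw [hik, inv_inv]
      calc k * (iv * s) = iv * k⁻¹ * iv⁻¹ * (iv * s) := by rw [e1]
        _ = iv * k⁻¹ * s := by group
        _ = iv * (s * k * s⁻¹) * s := by rw [hsk]
        _ = _ := by group
    have hz : orderOf ((iv * s) ^ (orderOf (iv * s) / 2)) = 2 :=
      orderOf_pow_orderOf_div (orderOf_pos _).ne' hev.two_dvd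
    exact hk1 (hG.eq_one_of_commute (IsTwo.of_orderOf_two hz)
      (CfsgLib.Involutions.ne_one_of_involution hz) hkodd (hcomm.pow_right _))
  -- an involution in the centre of `T` fixed by `s`
  obtain ⟨v, hv, hvA⟩ : ∃ v ∈ V, v ∉ A := by
    by_contra hcon
    push Not at hcon
    exact h.ne (Subgroup.eq_of_le_of_card_ge (hcon : V ≤ A)
      (by rw [h.left.card_V, h.right.card_V]))
  set u := s * v * s⁻¹ with hu
  have huA : u ∈ A := hsswap.1 v hv
  have huV : u ∉ V := fun e => hvA (by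
    have hsi : s⁻¹ = s := inv_eq_of_mul_eq_one_right hss
    have h1 := hsswap.1 u e
    rwa [hu, hsi, show s * (s * v * s) * s = (s * s) * v * (s * s) by group, hss, one_mul,
      mul_one] at h1)
  have hvv := h.left.elem v hv
  have huu := h.right.elem u huA
  set c := v * u * v * u with hc
  have hcT : c ∈ V ⊓ A := by
    rw [inf_eq hG h]
    refine ⟨mul_mem (mul_mem (mul_mem (h.left.le hv) (h.right.le huA)) (h.left.le hv))
      (h.right.le huA), mem_centralizer_iff.2 fun z hz => ?_⟩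
    have hcm := h.commutator_le v (h.left.le hv) u (h.right.le huA) z hz
    rw [inv_eq_of_mul_eq_one_right hvv, inv_eq_of_mul_eq_one_right huu] at hcm
    exact hcm.eq.symm
  have hc1 : c ≠ 1 := fun e => by
    have hcu : Commute v u :=
      commute_of_sq hvv huu (by rw [show v * u * (v * u) = c by rw [hc]; group, e])
    have h1 := (Side.commute_iff S h.left (h.right.le huA) huV ⟨v, hv⟩).1 hcu
    exact hvA ((inf_eq hG h).ge ((Side.mem_center S h.left h.four_le).2 ⟨hv, h1⟩)).2
  have hc2 : orderOf c = 2 := CfsgLib.Involutions.orderOf_eq_two_iff_mul.2 ⟨hc1, h.left.elem c hcT.1⟩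
  have hsc : s * c * s⁻¹ = c := by
    have hsi : s⁻¹ = s := inv_eq_of_mul_eq_one_right hss
    have hsv : s * u * s⁻¹ = v := by
      rw [hu, hsi, show s * (s * v * s) * s = (s * s) * v * (s * s) by group, hss, one_mul, mul_one]
    calc s * c * s⁻¹ = (s * v * s⁻¹) * (s * u * s⁻¹) * (s * v * s⁻¹) * (s * u * s⁻¹) := by
          rw [hc]; group
      _ = u * v * u * v := by rw [hsv]
      _ = c⁻¹ := by
          rw [hc]
          simp only [mul_inv_rev, inv_eq_of_mul_eq_one_right hvv, inv_eq_of_mul_eq_one_right huu,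
            mul_assoc]
      _ = c := inv_eq_of_mul_eq_one_right (h.left.elem c hcT.1)
  have hsZ : ∀ z ∈ V ⊓ A, s * z * s⁻¹ ∈ V ⊓ A := fun z hz =>
    ⟨hsswap.2 z hz.2, hsswap.1 z hz.1⟩
  have hcW : ∀ z ∈ V ⊓ A, s * z * s⁻¹ = z → z = 1 ∨ z = c := by
    intro z hz hzs
    by_contra hcon
    push Not at hcon
    have hall : ∀ w ∈ V ⊓ A, s * w * s⁻¹ = w := by
      intro w' hw'
      haveI := Fintype.ofFinite ↥(V ⊓ A)
      have hcard : Fintype.card ↥(V ⊓ A) = 4 := by
        rw [← Nat.card_eq_fintype_card, card_inf hG h, hq]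
      have huniv : ({1, ⟨z, hz⟩, ⟨c, hcT⟩, ⟨z, hz⟩ * ⟨c, hcT⟩} : Finset ↥(V ⊓ A)) = Finset.univ := by
        refine Finset.eq_univ_of_card _ ?_
        have hzz := h.left.elem z hz.1
        rw [hcard, Finset.card_insert_of_notMem, Finset.card_insert_of_notMem,
          Finset.card_insert_of_notMem, Finset.card_singleton]
        · simp [Subtype.ext_iff, hcon.1]
        · simp only [Finset.mem_insert, Finset.mem_singleton, Subtype.ext_iff, MulMemClass.coe_mul,
            not_or]
          exact ⟨hcon.2, fun e => hc1 (mul_left_cancel ((mul_one z).trans e)).symm⟩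
        · simp only [Finset.mem_insert, Finset.mem_singleton, Subtype.ext_iff, MulMemClass.coe_mul,
            OneMemClass.coe_one, not_or]
          exact ⟨hcon.1.symm, hc1.symm, fun e => hcon.2 (by
            have e' := congrArg (z * ·) e
            simp only [mul_one, ← mul_assoc, hzz, one_mul] at e'
            exact e')⟩
      have hmem := huniv ▸ Finset.mem_univ (⟨w', hw'⟩ : ↥(V ⊓ A))
      simp only [Finset.mem_insert, Finset.mem_singleton, Subtype.ext_iff, MulMemClass.coe_mul,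
        OneMemClass.coe_one] at hmem
      rcases hmem with rfl | rfl | rfl | rfl
      · group
      · exact hzs
      · exact hsc
      · calc s * (z * c) * s⁻¹ = (s * z * s⁻¹) * (s * c * s⁻¹) := by group
          _ = _ := by rw [hzs, hsc]
    -- then `k` would centralize `c`
    have hkc : k * c * k⁻¹ ∈ V ⊓ A :=
      ⟨(Subgroup.mem_normalizer_iff.1 hkV c).1 hcT.1, (Subgroup.mem_normalizer_iff.1 hkA c).1 hcT.2⟩
    have e1 := hall _ hkc
    rw [show s * (k * c * k⁻¹) * s⁻¹ = (s * k * s⁻¹) * (s * c * s⁻¹) * (s * k * s⁻¹)⁻¹ by group,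
      hsk, hsc, inv_inv] at e1
    have e2 : Commute (k * k) c := by
      show k * k * c = c * (k * k)
      calc k * k * c = k * (k * c * k⁻¹) * k := by group
        _ = k * (k⁻¹ * c * k) * k := by rw [e1]
        _ = _ := by group
    refine hk1 (hG.eq_one_of_commute (IsTwo.of_orderOf_two hc2) hc1 hkodd ?_)
    have hkk : k * k = k⁻¹ := eq_inv_of_mul_eq_one_left (by
      rw [← pow_three', ← hk3]; exact pow_orderOf_eq_one k)
    rw [hkk] at e2
    simpa using e2.inv_left
  obtain ⟨z, hz, hzs⟩ : ∃ z ∈ V ⊓ A, s * z * s⁻¹ ≠ z := by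
    by_contra hcon
    push Not at hcon
    have hsub : V ⊓ A ≤ zpowers c := fun z hz => by
      rcases hcW z hz (hcon z hz) with e | e
      · rw [e]; exact one_mem _
      · rw [e]; exact mem_zpowers c
    have h1 := Subgroup.card_le_of_le hsub
    rw [card_inf hG h, hq, Nat.card_zpowers, hc2] at h1
    omega
  have hzT : z ∈ T ⊓ centralizer (T : Set G) := (inf_eq hG h).le hz
  have hsi : s⁻¹ = s := inv_eq_of_mul_eq_one_right hss
  have hzc : z * (s * z * s⁻¹) = c := by
    have hm := mul_mem hz (hsZ z hz)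
    have hsz : s * (s * z * s⁻¹) * s⁻¹ = z := by
      rw [hsi, show s * (s * z * s) * s = (s * s) * z * (s * s) by group, hss, one_mul, mul_one]
    refine (hcW _ hm ?_).resolve_left fun e => hzs ?_
    · rw [show s * (z * (s * z * s⁻¹)) * s⁻¹ = (s * z * s⁻¹) * (s * (s * z * s⁻¹) * s⁻¹) by group,
        hsz]
      exact (commute_V h.left (hsZ z hz).1 hz.1).eq
    · exact (eq_inv_of_mul_eq_one_right e).trans (inv_eq_of_mul_eq_one_right (h.left.elem z hz.1))
  set x := v * u * z with hx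
  have hxT : x ∈ T := mul_mem (mul_mem (h.left.le hv) (h.right.le huA)) hzT.1
  have hzcomm : ∀ t ∈ T, Commute t z := fun t ht => mem_centralizer_iff.1 hzT.2 t ht
  have hxx : x * x = c := by
    have e1 : v * u * z = z * (v * u) :=
      (hzcomm _ (mul_mem (h.left.le hv) (h.right.le huA))).eq
    calc x * x = v * u * (z * (v * u)) * z := by rw [hx]; group
      _ = v * u * (v * u * z) * z := by rw [e1]
      _ = c * (z * z) := by rw [hc]; group
      _ = c := by rw [h.left.elem z hz.1, mul_one]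
  have hxs : s * x * s⁻¹ = x := by
    have hsu : s * u * s⁻¹ = v := by
      rw [hu, hsi, show s * (s * v * s) * s = (s * s) * v * (s * s) by group, hss, one_mul, mul_one]
    have hcv : u * v = v * u * c := by
      rw [hc, show v * u * (v * u * v * u) = (v * u * v * u) * (v * u) by group]
      have hcc : Commute (v * u) c := mem_centralizer_iff.1 ((inf_eq hG h).le hcT).2 _
        (mul_mem (h.left.le hv) (h.right.le huA))
      have e2 : c⁻¹ = c := inv_eq_of_mul_eq_one_right (h.left.elem c hcT.1)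
      calc u * v = (v * u)⁻¹ := by
            rw [mul_inv_rev, inv_eq_of_mul_eq_one_right hvv, inv_eq_of_mul_eq_one_right huu]
        _ = c⁻¹ * (v * u) := by rw [hc]; group
        _ = _ := by rw [e2, hc]
    calc s * x * s⁻¹ = (s * v * s⁻¹) * (s * u * s⁻¹) * (s * z * s⁻¹) := by rw [hx]; group
      _ = v * u * c * (s * z * s⁻¹) := by rw [hsu, hcv]
      _ = v * u * (z * (s * z * s⁻¹)) * (s * z * s⁻¹) := by rw [hzc]
      _ = v * u * z * ((s * z * s⁻¹) * (s * z * s⁻¹)) := by group
      _ = x := by rw [h.left.elem _ (hsZ z hz).1, mul_one]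
  -- `s` is conjugate to `c`
  obtain ⟨l, hl⟩ := S.π_surj (lo 1)
  have hivπ : S.π ⟨iv, hivN⟩ = wel 1 := by
    have e : (⟨iv, hivN⟩ : ↥(normalizer (V : Set G))) = ⟨v₀, le_normalizer hv₀⟩ * w := rfl
    rw [e, map_mul, (S.π_one _).2 hv₀, one_mul, hw]
  have hjT : (l : G) * iv * (l : G)⁻¹ ∈ T := (S.π_T (l * ⟨iv, hivN⟩ * l⁻¹)).2
    ⟨1, by rw [map_mul, map_mul, map_inv, hivπ, hl, lo_conj_wel]⟩
  set i' := (l : G) * iv * (l : G)⁻¹ with hi'
  have hi'2 : orderOf i' = 2 := by rw [hi', CfsgLib.Involutions.orderOf_conj_eq, hi2]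
  have hci : IsConj c i' := by
    rcases invol hG h hjT (CfsgLib.Involutions.orderOf_eq_two_iff_mul.1 hi'2).2 with hV | hA
    · obtain ⟨n, -, hn⟩ := exists_conj hG h.left hcT.1 hV hc1
        (CfsgLib.Involutions.ne_one_of_involution hi'2)
      exact isConj_iff.2 ⟨n, hn⟩
    · obtain ⟨n, -, hn⟩ := exists_conj hG h.right hcT.2 hA hc1
        (CfsgLib.Involutions.ne_one_of_involution hi'2)
      exact isConj_iff.2 ⟨n, hn⟩
  have hii' : IsConj i' iv := (isConj_iff.2 ⟨l, hi'.symm⟩ : IsConj iv i').symm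
  obtain ⟨g, hg⟩ := isConj_iff.1 ((hci.trans hii').trans hconj)
  -- the centralizer of `c`
  set P := centralizer ({c} : Set G) with hPdef
  have hP2 : IsPGroup 2 ↥P := hG c hc2
  have hTP : T ≤ P := fun t ht =>
    mem_centralizer_singleton_iff.2 (mem_centralizer_iff.1 ((inf_eq hG h).le hcT).2 t ht)
  set x' := g⁻¹ * x * g with hx'
  have hx'P : x' ∈ P := by
    refine mem_centralizer_singleton_iff.2 ?_
    have hcs : c = g⁻¹ * s * g := by rw [← hg]; group
    have hxs' : x * s = s * x := (mul_inv_eq_iff_eq_mul.1 hxs).symm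
    calc x' * c = g⁻¹ * (x * s) * g := by rw [hx', hcs]; group
      _ = g⁻¹ * (s * x) * g := by rw [hxs']
      _ = c * x' := by rw [hx', hcs]; group
  have hsqT : x' * x' ∈ T := by
    by_cases hT : x' ∈ T
    · exact mul_mem hT hT
    · have hsw := swap hG h hP2 hTP hx'P hT (le_normalizer_T hG h hP2 hTP hx'P)
      refine mem_T_of_mem h hP2 hTP (mul_mem hx'P hx'P) (mem_normalizer_of_conj fun v hv => ?_)
      have := hsw.2 _ (hsw.1 v hv)
      rwa [show x' * (x' * v * x'⁻¹) * x'⁻¹ = x' * x' * v * (x' * x')⁻¹ by group] at this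
  have hcg : g⁻¹ * c * g ∈ T := by
    rw [← hxx, show g⁻¹ * (x * x) * g = x' * x' by rw [hx']; group]
    exact hsqT
  have hfinal : ∀ E : Subgroup G, (∀ y ∈ E, y * y = 1) → Nat.card ↥E = Fintype.card F ^ 2 →
      c ∈ E → g⁻¹ * c * g ∈ E → False := by
    intro E hel hcard hcE hcgE
    set E' := E.map (MulAut.conj g).toMonoidHom
    have hel' : ∀ y ∈ E', y * y = 1 := by
      rintro _ ⟨y, hy, rfl⟩
      rw [← map_mul, hel y hy, map_one]
    have hcE' : c ∈ E' := ⟨_, hcgE, by simp [mul_assoc]⟩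
    have hE'P : E' ≤ P := fun y hy =>
      mem_centralizer_singleton_iff.2 (commute_of_elem hel' hy hcE').eq
    have hsE' : s ∈ E' := ⟨c, hcE, hg⟩
    rcases elem_mem hG h hP2 hTP hE'P (hE'P.trans (le_normalizer_T hG h hP2 hTP)) hel'
        (by rw [Subgroup.card_map_of_injective (MulAut.conj g).injective, hcard]) with e | e
    · exact hsT (h.left.le (e ▸ hsE'))
    · exact hsT (h.right.le (e ▸ hsE'))
  rcases invol hG h hcg (by
      rw [show g⁻¹ * c * g * (g⁻¹ * c * g) = g⁻¹ * (c * c) * g by group, h.left.elem c hcT.1]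
      group) with hV | hA
  · exact hfinal V h.left.elem h.left.card_V hcT.1 hV
  · exact hfinal A h.right.elem h.right.card_V hcT.2 hA

end Pair

end QFour

/-- In a CIT group the rank two configuration lives over the field with four elements. -/
theorem QPair.four {G : Type u} [Group G] [Finite G] (hG : IsCIT G) {V A T : Subgroup G} {F : Type}
    [Field F] [Fintype F] (h : QPair V A T F) : Fintype.card F = 4 ∧ FourConfig V A := by
  have hq := QFour.card_eq_four hG h
  have hsup := QFour.sup_eq hG h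
  exact ⟨hq,
    { elemV := h.left.elem
      elemA := h.right.elem
      card_V := by rw [h.left.card_V, hq]; norm_num
      card_A := by rw [h.right.card_V, hq]; norm_num
      centV := h.left.self_centralizing
      centA := h.right.self_centralizing
      card_inf := by rw [QFour.card_inf hG h, hq]
      card_sup := by rw [hsup, h.left.card_T, hq]; norm_num
      normal_left := h.right.le.trans h.left.le_normalizer
      normal_right := h.left.le.trans h.right.le_normalizer
      sylow := fun Q hQ hle => by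
        rw [hsup] at hle ⊢
        exact QFour.eq_T hG h hQ hle
      invol := fun x hx hx2 => QFour.invol hG h (hsup ▸ hx) hx2
      isoV := ⟨F, inferInstance, inferInstance, hq, h.left.iso⟩
      isoA := ⟨F, inferInstance, inferInstance, hq, h.right.iso⟩ }⟩

end CfsgLib.CIT
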