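import Mathlib
import Cfsg.Agent.Lib.CIT.Configuration
import Cfsg.Agent.Lib.CIT.Identify
import Cfsg.Agent.Lib.CIT.QFour
import Cfsg.Agent.Lib.CIT.FourRecog

/-!
# Assembly of the classification of groups whose involution centralizers are 2-groups
-/

set_option autoImplicit false
set_option linter.style.haveILetI false

namespace CfsgLib.CIT

open Subgroup

universe u

/-- The classification of the four-group configuration. -/
def KleinStep : Prop :=
  ∀ (G : Type u) [Group G] [Finite G], IsCIT G → Cfsg.pCore 2 G = ⊥ → Cfsg.pPrimeCore 2 G = ⊥ →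
    KleinConfig G → (ShapeOdd G ∨ ShapeNine G) ∧
      ∀ S : Sylow 2 G, ¬ IsMulCommutative ↥(S : Subgroup G)

/-- The order in the configuration of `PSL₃(4)`. -/
def CountStep : Prop :=
  ∀ (G : Type u) [Group G] [Finite G], IsCIT G → Cfsg.pCore 2 G = ⊥ → Cfsg.pPrimeCore 2 G = ⊥ →
    ∀ V A : Subgroup G, FourConfig V A → Nat.card G = 20160

theorem FourConfig.sylow_not_comm {G : Type u} [Group G] [Finite G] {V A : Subgroup G}
    (h : FourConfig V A) (S : Sylow 2 G) : ¬ IsMulCommutative ↥(S : Subgroup G) := by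
  intro hc
  haveI : Fact (Nat.Prime 2) := ⟨Nat.prime_two⟩
  have h2 : IsPGroup 2 ↥(V ⊔ A) := IsPGroup.of_card (n := 6) (by rw [h.card_sup]; rfl)
  obtain ⟨Q, hQ⟩ := h2.exists_le_sylow
  obtain ⟨g, hg⟩ := MulAction.exists_smul_eq G S Q
  have hle : A ≤ centralizer (V : Set G) := by
    intro a ha
    rw [mem_centralizer_iff]
    intro v hv
    have hv' : v ∈ ((g • S : Sylow 2 G) : Subgroup G) := hg ▸ hQ (le_sup_left (b := A) hv)
    have ha' : a ∈ ((g • S : Sylow 2 G) : Subgroup G) := hg ▸ hQ (le_sup_right (a := V) ha)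
    rw [Sylow.coe_subgroup_smul, mem_pointwise_smul_iff_inv_smul_mem] at hv' ha'
    have h1 := congrArg Subtype.val
      (mul_comm' (⟨_, hv'⟩ : ↥(S : Subgroup G)) ⟨_, ha'⟩)
    rw [MulMemClass.coe_mul, MulMemClass.coe_mul] at h1
    exact (MulAction.injective (MulAut.conj g)⁻¹) (by simpa using h1)
  rw [h.centV] at hle
  have h1 := h.card_sup
  rw [sup_eq_left.2 hle, h.card_V] at h1
  omega

/-- The classification, modulo the two special configurations. -/
theorem shapeAny_of_steps (hK : KleinStep.{u}) (hC : CountStep.{u}) {G : Type u} [Group G] [Finite G]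
    (hG : IsCIT G) (h2 : Cfsg.pCore 2 G = ⊥) (hO : Cfsg.pPrimeCore 2 G = ⊥) [Nontrivial G] :
    ShapeAny G := by
  suffices key : ∀ (m : ℕ) (X : Type u) [Group X] [Finite X], Nat.card X = m → IsCIT X →
      Cfsg.pCore 2 X = ⊥ → Cfsg.pPrimeCore 2 X = ⊥ → Nontrivial X → ShapeAny X from
    key _ G rfl hG h2 hO inferInstance
  intro m
  induction m using Nat.strong_induction_on with
  | _ m ih =>
  intro X _ _ hm hX hX2 hXO hnt
  have hS : Smaller X := fun Q _ _ hlt hQ hQ2 hQO hQn =>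
    ih _ (hm ▸ hlt) Q rfl hQ hQ2 hQO hQn
  rcases configuration hX hS hX2 hXO with ⟨M, H, h⟩ | h | ⟨V, A, T, F, i1, i2, h⟩
  · exact TI.shapeAny_of_hyp h
  · obtain ⟨h1, h3⟩ := hK X hX hX2 hXO h
    exact Or.inr (Or.inr ⟨h1.imp_right Or.inl, h3⟩)
  · obtain ⟨-, hcfg⟩ := h.four hX
    exact Or.inr (Or.inr ⟨Or.inr (Or.inr (FourConfig.shapeFour hX hX2 hXO hcfg
      (hC X hX hX2 hXO V A hcfg))), hcfg.sylow_not_comm⟩)

end CfsgLib.CIT
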