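import Cfsg.Agent.Lib.CIT.Basic
import Cfsg.Agent.Lib.TwoGroups.Dihedral
import Cfsg.Agent.Lib.TwoGroups.Semidihedral
import Cfsg.Agent.Lib.TwoGroups85.MaxClass
import Cfsg.Agent.Lib.SelfCentralSimple.Local
import Cfsg.Agent.S0112

/-!
# 2-groups with a self-centralizing four-group, and minimal normal subgroups of CIT-groups
-/

set_option autoImplicit false
set_option linter.style.haveILetI false

namespace CfsgLib.CIT

open Subgroup

universe u

/-- A four-group inside `H`, as the elements it consists of. -/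
theorem four_of_card {G : Type*} [Group G] {V : Subgroup G} (hVc : Nat.card V = 4)
    (hVe : ∀ x ∈ V, x * x = 1) : IsKleinFour V := by
  haveI : Fact (Nat.Prime 2) := ⟨Nat.prime_two⟩
  haveI : Finite V := Nat.finite_of_card_ne_zero (by omega)
  refine ⟨hVc, ?_⟩
  have hdvd : Monoid.exponent V ∣ 2 := Monoid.exponent_dvd_of_forall_pow_eq_one fun x =>
    Subtype.ext (by rw [SubgroupClass.coe_pow, pow_two]; exact hVe _ x.2)
  rcases (Nat.dvd_prime Nat.prime_two).1 hdvd with h | h
  · haveI := Monoid.exp_eq_one_iff.1 h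
    rw [Nat.card_of_subsingleton (1 : V)] at hVc
    omega
  · exact h

/-- A 2-group with a self-centralizing four-group is dihedral or semidihedral. -/
theorem shape_of_self_four {S : Type*} [Group S] [Finite S] (hS : IsPGroup 2 S) (W : Subgroup S)
    (hWc : Nat.card W = 4) (hWe : ∀ x ∈ W, x * x = 1) (hW : centralizer (W : Set S) = W) :
    (∃ k : ℕ, 1 ≤ k ∧ Nonempty (S ≃* DihedralGroup (2 ^ k))) ∨ Cfsg.IsQuasiDihedral S := by
  haveI := Fact.mk Nat.prime_two
  haveI := four_of_card hWc hWe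
  obtain ⟨n, hn⟩ := hS.exists_card_eq
  have hd := W.card_subgroup_dvd_card
  rw [hWc, hn] at hd
  have hn2 : 2 ≤ n := (Nat.pow_dvd_pow_iff_le_right one_lt_two).1 hd
  rcases hn2.eq_or_lt with h | h
  · left
    have hWtop : W = ⊤ := eq_top_of_card_eq W (by rw [hWc, hn, ← h]; rfl)
    subst hWtop
    haveI : IsKleinFour S := by
      have e : (⊤ : Subgroup S) ≃* S := topEquiv
      refine ⟨by rw [← Nat.card_congr e.toEquiv]; exact hWc, ?_⟩
      rw [← Monoid.exponent_eq_of_mulEquiv e]
      exact IsKleinFour.exponent_two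
    haveI : IsKleinFour (DihedralGroup (2 ^ 1)) := DihedralGroup.instIsKleinFourOfNatNat
    exact ⟨1, le_rfl, IsKleinFour.nonempty_mulEquiv⟩
  have hclass := Cfsg.Agent.S0112.result (p := 2) n hn W (by rw [hWc]; rfl) hW
  rcases CfsgLib.TwoGroups85.isDSQ_of_maximalClass h hn hclass with
    ⟨k, hk⟩ | ⟨k, hk, a, b, ha, hb, hab⟩ | ⟨k, ⟨e⟩⟩
  · exact Or.inl ⟨k + 2, by omega, hk⟩
  · exact Or.inr ⟨k + 3, by omega, by rw [hk], a, b, ha, hb, by
      rw [hab, show k + 3 - 1 = k + 2 by omega]⟩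
  · exfalso
    haveI : NeZero (2 ^ (k + 1)) := ⟨by positivity⟩
    have key : ∀ a b : W, a ≠ 1 → b ≠ 1 → a = b := by
      intro a b ha hb
      have ho : ∀ c : W, c ≠ 1 → orderOf (c : S) = 2 := fun c hc =>
        orderOf_eq_prime (by rw [pow_two]; exact hWe _ c.2) fun h1 => hc (Subtype.ext h1)
      refine Subtype.ext (e.injective ?_)
      rw [SelfCentralSimple.quaternion_unique (g := e (a : S)) (by rw [e.orderOf_eq, ho a ha]),
        SelfCentralSimple.quaternion_unique (g := e (b : S)) (by rw [e.orderOf_eq, ho b hb])]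
    classical
    haveI := Fintype.ofFinite W
    have h3 : (Finset.univ.erase (1 : W)).card ≤ 1 := Finset.card_le_one.2 fun a ha b hb =>
      key a b (Finset.ne_of_mem_erase ha) (Finset.ne_of_mem_erase hb)
    rw [Finset.card_erase_of_mem (Finset.mem_univ _), Finset.card_univ, ← Nat.card_eq_fintype_card,
      hWc] at h3
    omega

/-- In a dihedral or semidihedral 2-group every four-group is self-centralizing. -/
theorem self_four_of_shape {S : Type*} [Group S] [Finite S]
    (hS : (∃ k : ℕ, 1 ≤ k ∧ Nonempty (S ≃* DihedralGroup (2 ^ k))) ∨ Cfsg.IsQuasiDihedral S)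
    (W : Subgroup S) (hWc : Nat.card W = 4) (hWe : ∀ x ∈ W, x * x = 1) :
    centralizer (W : Set S) = W := by
  haveI := four_of_card hWc hWe
  rcases hS with ⟨k, -, ⟨e⟩⟩ | hS
  · haveI : NeZero (2 ^ k) := ⟨by positivity⟩
    have hc := TwoGroups.Dihedral.centralizer_eq_self (2 ^ k) (V := W.map e.toMonoidHom)
      (by
        rintro _ ⟨a, ha, rfl⟩ _ ⟨b, hb, rfl⟩
        rw [← map_mul, ← map_mul]
        exact congrArg _ (congrArg Subtype.val (mul_comm_of_exponent_two
          (IsKleinFour.exponent_two (G := W)) ⟨a, ha⟩ ⟨b, hb⟩)))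
      (by rw [card_map_of_injective e.injective, hWc])
      (by rintro _ ⟨a, ha, rfl⟩; rw [← map_pow, pow_two, hWe a ha, map_one])
    refine le_antisymm (fun g hg => ?_) fun g hg => mem_centralizer_iff.2 fun w hw =>
      congrArg Subtype.val (mul_comm_of_exponent_two (IsKleinFour.exponent_two (G := W))
        ⟨w, hw⟩ ⟨g, hg⟩)
    have : e g ∈ W.map e.toMonoidHom := by
      rw [← hc, mem_centralizer_iff]
      rintro _ ⟨w, hw, rfl⟩
      exact (map_mul e w g).symm.trans ((congrArg e (mem_centralizer_iff.1 hg w hw)).trans (map_mul e g w))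
    obtain ⟨w, hw, hwe⟩ := this
    rwa [← e.injective hwe]
  · obtain ⟨r, x, y, h⟩ := TwoGroups.SD.exists_sd hS
    exact (TwoGroups.SD.klein_facts h inferInstance).1

variable {G : Type u} [Group G] [Finite G]

/-- A nontrivial normal subgroup of a normal subgroup contains an involution and an element of odd
prime order. -/
theorem even_and_odd_of_subnormal (h2 : Cfsg.pCore 2 G = ⊥) (hO : Cfsg.pPrimeCore 2 G = ⊥)
    (N : Subgroup G) [N.Normal] (L : Subgroup N) [L.Normal] (hL : L ≠ ⊥) :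
    (∃ t ∈ L, orderOf t = 2) ∧ ¬ IsPGroup 2 L := by
  haveI := Fact.mk Nat.prime_two
  have hN2 : Cfsg.pCore 2 N = ⊥ := by
    refine (map_eq_bot_iff_of_injective _ N.subtype_injective).1 (le_bot_iff.1 (h2 ▸ ?_))
    exact CfsgLib.PCore.le_pCore inferInstance (CfsgLib.PCore.pCore_isPGroup.map _)
  have hNO : Cfsg.pPrimeCore 2 N = ⊥ := by
    refine (map_eq_bot_iff_of_injective _ N.subtype_injective).1 (le_bot_iff.1 (hO ▸ ?_))
    refine CfsgLib.PCore.le_pPrimeCore inferInstance ?_
    rw [card_map_of_injective N.subtype_injective]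
    exact CfsgLib.PCore.pPrimeCore_coprime
  refine ⟨?_, fun h => hL (le_bot_iff.1 (hN2 ▸ CfsgLib.PCore.le_pCore inferInstance h))⟩
  have hd : 2 ∣ Nat.card L := by
    by_contra hd
    exact hL (le_bot_iff.1 (hNO ▸ CfsgLib.PCore.le_pPrimeCore inferInstance
      ((Nat.prime_two.coprime_iff_not_dvd.2 hd).symm)))
  obtain ⟨t, ht⟩ := exists_prime_orderOf_dvd_card' (G := L) 2 hd
  exact ⟨t, t.2, by rw [orderOf_coe, ht]⟩

/-- A CIT-group without nontrivial odd or 2-cores has a simple normal subgroup, which is not a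
2-group. -/
theorem exists_simple_normal [Nontrivial G] (hG : IsCIT G) (h2 : Cfsg.pCore 2 G = ⊥)
    (hO : Cfsg.pPrimeCore 2 G = ⊥) :
    ∃ N : Subgroup G, N.Normal ∧ IsSimpleGroup N ∧ ¬ IsMulCommutative N ∧ 2 ∣ Nat.card N := by
  classical
  haveI := Fact.mk Nat.prime_two
  obtain ⟨n, hn⟩ := Nat.find_spec (p := fun n => ∃ N : Subgroup G, N.Normal ∧ N ≠ ⊥ ∧ Nat.card N = n)
    ⟨Nat.card (⊤ : Subgroup G), ⊤, inferInstance, top_ne_bot, rfl⟩
  set m := Nat.find (p := fun n => ∃ N : Subgroup G, N.Normal ∧ N ≠ ⊥ ∧ Nat.card N = n)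
    ⟨Nat.card (⊤ : Subgroup G), ⊤, inferInstance, top_ne_bot, rfl⟩ with hm
  obtain ⟨hNn, hN0, hNc⟩ := hn
  set N := n
  haveI := hNn
  haveI : Nontrivial N := (nontrivial_iff_ne_bot N).2 hN0
  have hmin : ∀ M : Subgroup G, M.Normal → M ≤ N → M = ⊥ ∨ M = N := by
    intro M hM hle
    by_cases hM0 : M = ⊥
    · exact Or.inl hM0
    · right
      refine eq_of_le_of_card_ge hle ?_
      rw [hNc, hm]
      exact Nat.find_le ⟨M, hM, hM0, rfl⟩
  -- commuting normal subgroups of `N`
  have hcomm : ∀ L M : Subgroup N, L.Normal → M.Normal → L ⊓ M = ⊥ → L = ⊥ ∨ M = ⊥ := by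
    intro L M hL hM hLM
    by_contra hcon
    push Not at hcon
    obtain ⟨t, htL, ht⟩ := (even_and_odd_of_subnormal h2 hO N L hcon.1).1
    obtain ⟨y, hyM, p, hp, hp2, hy⟩ := exists_odd_prime_order (even_and_odd_of_subnormal h2 hO N M hcon.2).2
    have hyc : Commute y t := commute_of_normal_of_disjoint M L hM hL
      (disjoint_iff.2 (by rw [inf_comm]; exact hLM)) y t hyM htL
    have := hG.eq_one_of_commute (x := (t : G)) (y := (y : G))
      (IsTwo.of_orderOf_two (by rw [orderOf_coe, ht]))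
      (fun h => by rw [show t = 1 from Subtype.ext h, orderOf_one] at ht; omega)
      (by rw [orderOf_coe, hy]; exact hp.odd_of_ne_two hp2) (hyc.map N.subtype)
    rw [show y = 1 from Subtype.ext this, orderOf_one] at hy
    exact hp.ne_one hy.symm
  have hsimple : IsSimpleGroup N := by
    refine ⟨fun L hL => ?_⟩
    by_contra hcon
    push Not at hcon
    obtain ⟨l, ⟨hLn, hL0, hLt⟩, hlc⟩ := Nat.find_spec
      (p := fun n => ∃ M : Subgroup N, (M.Normal ∧ M ≠ ⊥ ∧ M ≠ ⊤) ∧ Nat.card M = n)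
      ⟨_, L, ⟨hL, hcon⟩, rfl⟩
    have hlmin : ∀ M : Subgroup N, M.Normal → M < l → M = ⊥ := by
      intro M hM hlt
      by_contra hM0
      have h1 := Nat.find_le (h := ⟨_, L, ⟨hL, hcon⟩, rfl⟩)
        (p := fun n => ∃ M : Subgroup N, (M.Normal ∧ M ≠ ⊥ ∧ M ≠ ⊤) ∧ Nat.card M = n)
        (n := Nat.card M) ⟨M, ⟨hM, hM0, (hlt.trans_le le_top).ne⟩, rfl⟩
      rw [← hlc] at h1
      exact hlt.ne (eq_of_le_of_card_ge hlt.le h1)
    haveI := hLn
    -- `l` is invariant under `G`
    have hinv : ∀ g : G, l.map (MulAut.conjNormal (H := N) g).toMonoidHom = l := by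
      intro g
      set l' := l.map (MulAut.conjNormal (H := N) g).toMonoidHom
      haveI : l'.Normal := hLn.map _ (MulAut.conjNormal (H := N) g).surjective
      have hc : Nat.card l' = Nat.card l := card_map_of_injective (MulAut.conjNormal (H := N) g).injective
      by_contra hne
      rcases hcomm l' l inferInstance hLn (hlmin _ inferInstance (inf_le_right.lt_of_ne fun e =>
        hne (eq_of_le_of_card_ge (inf_eq_right.1 e) hc.le).symm)) with h | h
      · exact hL0 ((map_eq_bot_iff_of_injective _ (MulAut.conjNormal (H := N) g).injective).1 h)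
      · exact hL0 h
    have hM : (l.map N.subtype).Normal := ⟨fun x hx g => by
      obtain ⟨y, hy, rfl⟩ := hx
      refine ⟨MulAut.conjNormal g y, ?_, rfl⟩
      rw [← hinv g]
      exact mem_map_of_mem _ hy⟩
    rcases hmin _ hM (map_subtype_le l) with h | h
    · exact hL0 ((map_eq_bot_iff_of_injective _ N.subtype_injective).1 h)
    · refine hLt (map_injective N.subtype_injective (h.trans ?_))
      rw [← MonoidHom.range_eq_map, N.range_subtype]
  have htop := even_and_odd_of_subnormal h2 hO N ⊤ top_ne_bot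
  obtain ⟨⟨t, -, ht⟩, hnp⟩ := htop
  refine ⟨N, hNn, hsimple, fun hc => ?_, ht ▸ orderOf_dvd_natCard t⟩
  haveI := hc
  refine hnp ((IsPGroup.of_card (n := 1) ?_).to_subgroup _)
  haveI := hsimple
  rw [pow_one, ← Nat.card_congr (topEquiv (G := N)).toEquiv]
  letI : CommGroup N := { (inferInstance : Group N) with mul_comm := hc.1.1 }
  have hp : (Nat.card N).Prime := IsSimpleGroup.prime_card (α := N)
  rw [Nat.card_congr (topEquiv (G := N)).toEquiv]
  exact ((Nat.prime_dvd_prime_iff_eq Nat.prime_two hp).1 (ht ▸ orderOf_dvd_natCard t)).symm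

end CfsgLib.CIT
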