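import Cfsg.Agent.Lib.CIT.Defs
import Cfsg.Agent.Lib.CIT.MaxClassBasic
import Cfsg.Agent.Lib.SelfCentralSimple.Psl
import Cfsg.Agent.Lib.ClassicalGroups.SL2
import Cfsg.Agent.S0508
import Cfsg.Agent.S1213
import Cfsg.Agent.S3116

/-!
# CIT-groups with a self-centralizing four-group
-/

set_option autoImplicit false
set_option linter.style.haveILetI false

namespace CfsgLib.CIT

open Subgroup

universe u

variable {G : Type u} [Group G] [Finite G]

/-- A simple CIT-group with a self-centralizing four-group in a Sylow 2-subgroup is `PSL₂(q)`. -/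
theorem psl_of_simple {N : Type u} [Group N] [Finite N] [IsSimpleGroup N] (hN : IsCIT N)
    (hna : ¬ IsMulCommutative N) (T : Sylow 2 N)
    (hshape : (∃ k : ℕ, 1 ≤ k ∧ Nonempty ((T : Subgroup N) ≃* DihedralGroup (2 ^ k))) ∨
      Cfsg.IsQuasiDihedral (T : Subgroup N)) :
    (∃ k : ℕ, 1 ≤ k ∧ Nonempty ((T : Subgroup N) ≃* DihedralGroup (2 ^ k))) ∧
    ∃ (F : Type) (_ : Field F) (_ : Fintype F), 5 ≤ Fintype.card F ∧ (Fintype.card F = 9 ∨
      ((Fintype.card F).Prime ∧ ∃ k : ℕ, Fintype.card F = 2 ^ k + 1 ∨ Fintype.card F + 1 = 2 ^ k)) ∧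
      Nonempty (N ≃* Matrix.ProjectiveSpecialLinearGroup (Fin 2) F) := by
  classical
  haveI := Fact.mk Nat.prime_two
  obtain ⟨t, v, htT, -, ht, -, -, hcen⟩ := SelfCentralSimple.exists_four hna T
  have hC := hN t ht
  have hdih : ∃ k : ℕ, 1 ≤ k ∧ Nonempty ((T : Subgroup N) ≃* DihedralGroup (2 ^ k)) := by
    rcases hshape with h | hQ
    · exact h
    exfalso
    have hidx : ∀ H : Subgroup N, H.index ≠ 2 := fun H hH => by
      rcases (normal_of_index_eq_two hH).eq_bot_or_eq_top with h | h
      · rw [h, index_bot] at hH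
        haveI : IsCyclic N := isCyclic_of_prime_card hH
        exact hna inferInstance
      · rw [h, index_top] at hH
        omega
    obtain ⟨R, -, ⟨K, -, -, hK, hP⟩, -⟩ := Cfsg.Agent.S1213.result T (Or.inl hQ) hidx t ht
    obtain ⟨P⟩ : Nonempty (Sylow 2 K) := inferInstance
    obtain ⟨m, -, ⟨e⟩⟩ := hP P
    haveI : Nontrivial K := by
      haveI : NeZero (2 ^ m) := ⟨by positivity⟩
      rw [← Finite.one_lt_card_iff_nontrivial]
      refine lt_of_lt_of_le ?_ (P : Subgroup K).card_le_card_group
      rw [Nat.card_congr e.toEquiv, Nat.card_eq_fintype_card, QuaternionGroup.card]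
      have := Nat.two_pow_pos m
      omega
    obtain ⟨M, hM, -⟩ := (eq_top_or_exists_le_coatom (⊥ : Subgroup K)).resolve_left bot_ne_top
    exact hK M (CfsgLib.TwoGroups.SD.index_of_isCoatom (hC.to_subgroup K) hM)
  refine ⟨hdih, ?_⟩
  obtain ⟨k, hk, hT⟩ := hdih
  have hO : (⊥ : Subgroup N) = (Cfsg.oddCore (centralizer ({t} : Set N))).map
      (centralizer ({t} : Set N)).subtype := by
    rw [eq_comm, map_eq_bot_iff_of_injective _ (Subgroup.subtype_injective _)]
    exact PCore.eq_bot_of_isPGroup_coprime (p := 2) (hC.to_subgroup _) PCore.pPrimeCore_coprime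
  obtain ⟨F, iF, iF', hodd, ⟨e⟩⟩ := Cfsg.Agent.S0508.result T (2 ^ k)
    (Nat.le_self_pow (by omega) 2) hT t ht htT (fun s hs => (hcen s hs).eq) ⊥ hO
    (fun h => absurd rfl h)
    (fun s _ hs => absurd (mem_centralizer_iff.2 fun x hx => by
      rw [mem_bot.1 hx, one_mul, mul_one]) hs)
    (fun Y hY hY1 => absurd (le_bot_iff.1 hY) hY1)
  obtain ⟨j, hj⟩ := hC.exists_card_eq
  have hi : orderOf (e t) = 2 := by rw [e.orderOf_eq, ht]
  have hc : Nat.card (centralizer ({e t} : Set (Matrix.ProjectiveSpecialLinearGroup (Fin 2) F))) = 2 ^ j := by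
    rw [← hj]
    refine (Nat.card_congr (e.toEquiv.subtypeEquiv fun x => ?_)).symm
    rw [mem_centralizer_singleton_iff, mem_centralizer_singleton_iff]
    show x * t = t * x ↔ e x * e t = e t * e x
    rw [← map_mul, ← map_mul, e.injective.eq_iff]
  rw [PSL2.card_centralizer_involution hodd hi] at hc
  have h1 := Fintype.one_lt_card (α := F)
  refine ⟨F, iF, iF', ?_, ?_, ⟨e⟩⟩
  · by_contra h5
    have h3 : Fintype.card F = 3 := by
      have := Nat.odd_iff.1 hodd
      omega
    -- `PSL₂(3)` is not simple: its Sylow 2-subgroup has index 3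
    have hcard := PSL2.card_psl (F := F)
    rw [h3, ← Nat.card_congr e.toEquiv] at hcard
    norm_num at hcard
    have h12 : Nat.card N = 12 := by omega
    have hdvd := (T : Subgroup N).card_subgroup_dvd_card
    obtain ⟨a, ha⟩ := T.isPGroup'.exists_card_eq
    have hTc : Nat.card (T : Subgroup N) = 4 := by
      rw [T.card_eq_multiplicity, h12, show (12 : ℕ) = 2 ^ 2 * 3 by norm_num,
        Nat.factorization_mul (by norm_num) (by norm_num), Finsupp.add_apply,
        Nat.prime_two.factorization_pow, Finsupp.single_eq_same,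
        Nat.factorization_eq_zero_of_not_dvd (by norm_num : ¬ 2 ∣ 3)]
      norm_num
    have hidx : (T : Subgroup N).index = 3 := by
      have := (T : Subgroup N).card_mul_index
      rw [hTc, h12] at this
      omega
    haveI := Fact.mk Nat.prime_three
    have hker : (T : Subgroup N).normalCore = ⊥ := by
      rcases (normalCore_normal (T : Subgroup N)).eq_bot_or_eq_top with h | h
      · exact h
      · exfalso
        have := card_le_of_le ((h ▸ normalCore_le (T : Subgroup N)) : (⊤ : Subgroup N) ≤ T)
        rw [card_top, hTc, h12] at this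
        omega
    have hdf : (T : Subgroup N).normalCore.index ∣ Nat.factorial 3 := by
      rw [normalCore_eq_ker, index_ker, ← hidx, index_eq_card, ← Nat.card_perm]
      exact card_subgroup_dvd_card _
    have hle := Nat.le_of_dvd (Nat.factorial_pos _) hdf
    rw [hker, index_bot, h12] at hle
    norm_num [Nat.factorial] at hle
  · rcases SelfCentralSimple.card_cases hodd hc with h | ⟨hp, i, h | h⟩
    · exact Or.inl h
    · exact Or.inr ⟨hp, i, Or.inl h⟩
    · exact Or.inr ⟨hp, i, Or.inr (by have := Nat.two_pow_pos i; omega)⟩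

omit [Finite G] in
/-- The index of a normal subgroup is the relative index in a supplement. -/
theorem index_eq_relIndex_of_sup {N H : Subgroup G} [N.Normal] (h : H ⊔ N = ⊤) :
    N.index = N.relIndex H := by
  rw [← relIndex_top_right, ← h, relIndex_sup_right]

/-- In `PSL₂(q)`, `q` prime, the normalizer of a Sylow 3-subgroup cannot be enlarged by an even
factor inside a CIT-group. -/
theorem not_even_index (hG : IsCIT G) (N : Subgroup G) [N.Normal] [IsSimpleGroup N]
    (hna : ¬ IsMulCommutative N) {F : Type} [Field F] [Fintype F] (hq : (Fintype.card F).Prime)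
    (h5 : 5 ≤ Fintype.card F) (e : N ≃* Matrix.ProjectiveSpecialLinearGroup (Fin 2) F) :
    ¬ 2 ∣ N.index := by
  classical
  intro heven
  haveI := Fact.mk Nat.prime_three
  haveI : Fact (Fintype.card F).Prime := ⟨hq⟩
  obtain ⟨p, hp⟩ := CharP.exists F
  obtain ⟨a, hpp, hpa⟩ := FiniteField.card F p
  haveI := Fact.mk hpp
  have hpq : p = Fintype.card F := ((Nat.prime_dvd_prime_iff_eq hpp hq).1 (hpa ▸ dvd_pow_self p a.pos.ne'))
  have hp3 : (3 : ℕ) ≠ p := by omega
  have h3N : 3 ∣ Nat.card N := by
    have hc := PSL2.card_psl (F := F)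
    rw [← Nat.card_congr e.toEquiv] at hc
    have hdiv : 3 ∣ (Fintype.card F + 1) * (Fintype.card F * (Fintype.card F - 1)) := by
      have : Fintype.card F % 3 ≠ 0 := fun h => hp3 (hpq ▸
        ((Nat.prime_dvd_prime_iff_eq Nat.prime_three hq).1 (Nat.dvd_of_mod_eq_zero h)))
      rcases (by omega : Fintype.card F % 3 = 1 ∨ Fintype.card F % 3 = 2) with h | h
      · exact dvd_mul_of_dvd_right (dvd_mul_of_dvd_right (by omega) _) _
      · exact dvd_mul_of_dvd_left (by omega) _
    rw [← hc] at hdiv
    rcases Nat.prime_three.dvd_mul.1 hdiv with h | h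
    · exfalso
      have := Nat.le_of_dvd (Nat.gcd_pos_of_pos_left _ two_pos) h
      have := Nat.gcd_le_left (m := 2) (Fintype.card F - 1) two_pos
      omega
    · exact h
  -- the Sylow 3-subgroup is cyclic
  obtain ⟨R⟩ : Nonempty (Sylow 3 N) := inferInstance
  obtain ⟨R₀⟩ : Nonempty (Sylow 3 (Matrix.SpecialLinearGroup (Fin 2) F)) := inferInstance
  let π : Matrix.SpecialLinearGroup (Fin 2) F →* N :=
    e.symm.toMonoidHom.comp (QuotientGroup.mk' _)
  have hπ : Function.Surjective π := e.symm.surjective.comp (QuotientGroup.mk'_surjective _)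
  haveI hcyc : IsCyclic (R : Subgroup N) := by
    haveI := ClassicalGroups.SL2.isCyclic_sylow_odd p 3 (by norm_num) hp3 R₀
    haveI : IsCyclic ((R₀.mapSurjective hπ : Sylow 3 N) : Subgroup N) := by
      rw [Sylow.coe_mapSurjective]
      exact isCyclic_of_surjective _ (π.subgroupMap_surjective (R₀ : Subgroup _))
    exact isCyclic_of_surjective _ ((R₀.mapSurjective hπ).equiv R).surjective
  have hR1 : (R : Subgroup N) ≠ ⊥ := R.ne_bot_of_dvd_card h3N
  -- the normalizer in `N` induces an automorphism of order two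
  have hnc : ¬ normalizer ((R : Subgroup N) : Set N) ≤ centralizer ((R : Subgroup N) : Set N) := by
    intro h
    have hcomp := MonoidHom.ker_transferSylow_isComplement' R h
    rcases IsSimpleGroup.eq_bot_or_eq_top_of_normal (MonoidHom.transferSylow R h).ker
      inferInstance with hk | hk <;> rw [hk] at hcomp
    · have hRtop : (R : Subgroup N) = ⊤ := isComplement'_bot_left.1 hcomp
      refine hna ⟨⟨fun a b => ?_⟩⟩
      letI := hcyc.commGroup
      exact congrArg Subtype.val (mul_comm (⟨a, hRtop ▸ mem_top a⟩ : (R : Subgroup N)) ⟨b, hRtop ▸ mem_top b⟩)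
    · exact hR1 (isComplement'_top_left.1 hcomp)
  set P := (R : Subgroup N).map N.subtype with hP
  have hPN : P ≤ N := map_subtype_le _
  have hP1 : P ≠ ⊥ := fun h => hR1 ((map_eq_bot_iff_of_injective _ N.subtype_injective).1 h)
  haveI : IsCyclic P := isCyclic_of_surjective _
    ((R : Subgroup N).equivMapOfInjective N.subtype N.subtype_injective).surjective
  set A := normalizer (P : Set G)
  set C := (centralizer (P : Set G)).subgroupOf A with hC
  set φ : A →* MulAut P := normalizerMonoidHom P with hφ
  have hker : φ.ker = C := normalizerMonoidHom_ker P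
  obtain ⟨b, hb⟩ := R.isPGroup'.exists_card_eq
  have hPc : Nat.card P = 3 ^ b := by
    rw [hP, card_map_of_injective N.subtype_injective, hb]
  have hb0 : 0 < b := Nat.pos_of_ne_zero fun h => hR1 (eq_bot_iff_card _ |>.2 (by rw [hb, h, pow_zero]))
  have hAut : Nat.card (MulAut P) = 3 ^ (b - 1) * 2 := by
    rw [IsCyclic.card_mulAut, hPc, Nat.totient_prime_pow Nat.prime_three hb0]
  -- no element of order 2 centralizes `P`
  have hCodd : ¬ 2 ∣ Nat.card C := by
    intro hd
    haveI := Fact.mk Nat.prime_two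
    obtain ⟨c, hc⟩ := exists_prime_orderOf_dvd_card' (G := C) 2 hd
    obtain ⟨y, hy, hy1⟩ := (bot_or_exists_ne_one P).resolve_left hP1
    have hyo : Odd (orderOf y) := by
      have hd3 : orderOf (⟨y, hy⟩ : P) ∣ 3 ^ b := hPc ▸ orderOf_dvd_natCard _
      rw [orderOf_mk] at hd3
      exact Odd.of_dvd_nat (Odd.pow (by decide)) hd3
    refine hy1 (hG.eq_one_of_commute (x := ((c : A) : G)) (IsTwo.of_orderOf_two ?_) ?_ hyo ?_)
    · rw [orderOf_coe, orderOf_coe, hc]
    · intro h
      rw [show c = 1 from Subtype.ext (Subtype.ext h), orderOf_one] at hc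
      omega
    · exact mem_centralizer_iff.1 (mem_subgroupOf.1 c.2) y hy
  -- compute
  have hsup : A ⊔ N = ⊤ := Sylow.normalizer_sup_eq_top R
  set B := N.subgroupOf A
  have hBidx : B.index = N.index := (index_eq_relIndex_of_sup hsup).symm
  have hBeven : 2 ∣ Nat.card (B.map φ) := by
    -- an element of the normalizer in `N` acting nontrivially
    obtain ⟨n, hn, hnc'⟩ := SetLike.not_le_iff_exists.1 hnc
    have hnA : (n : G) ∈ A := by
      rw [mem_normalizer_iff]
      intro x
      constructor
      · rintro ⟨y, hy, rfl⟩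
        exact ⟨n * y * n⁻¹, (mem_normalizer_iff.1 hn y).1 hy, rfl⟩
      · rintro ⟨y, hy, hye⟩
        refine ⟨n⁻¹ * y * n, (mem_normalizer_iff.1 hn _).2 ?_, ?_⟩
        · rw [show n * (n⁻¹ * y * n) * n⁻¹ = y by group]; exact hy
        · simp only [map_mul, map_inv, coe_subtype] at hye ⊢
          rw [hye]; group
    have hn1 : φ ⟨n, hnA⟩ ≠ 1 := by
      intro h
      have : (⟨n, hnA⟩ : A) ∈ C := hker ▸ h
      refine hnc' (mem_centralizer_iff.2 fun y hy => Subtype.ext ?_)
      exact mem_centralizer_iff.1 (mem_subgroupOf.1 this) y ⟨y, hy, rfl⟩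
    -- `P` itself acts trivially, so the image has order prime to 3
    by_contra hodd
    have hd : Nat.card (B.map φ) ∣ 3 ^ (b - 1) := by
      have hd2 : Nat.card (B.map φ) ∣ 3 ^ (b - 1) * 2 := hAut ▸ card_subgroup_dvd_card _
      exact ((Nat.prime_two.coprime_iff_not_dvd.2 hodd).symm).dvd_of_dvd_mul_right hd2
    obtain ⟨i, -, hi⟩ := (Nat.dvd_prime_pow Nat.prime_three).1 hd
    -- a 3-element of `N ∩ N(P)` lies in `P`
    haveI hPn : (P.subgroupOf A).Normal := normal_in_normalizer
    have hPk : P.subgroupOf A ≤ φ.ker := by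
      rw [hker]
      intro x hx
      rw [mem_subgroupOf] at hx ⊢
      refine mem_centralizer_iff.2 fun y hy => ?_
      letI := IsCyclic.commGroup (α := P)
      exact congrArg Subtype.val (mul_comm (⟨y, hy⟩ : P) ⟨x, hx⟩)
    set B' := φ.subgroupMap B
    have hdiv : Nat.card (B.map φ) ∣ (P.subgroupOf A).relIndex B := by
      have h1 : (φ.ker).relIndex B = Nat.card (B.map φ) := relIndex_ker B φ
      rw [← h1]
      exact relIndex_dvd_of_le_left B hPk
    have h3 : ¬ 3 ∣ (P.subgroupOf A).relIndex B := by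
      have hB : B = (N ⊓ A).subgroupOf A := by
        rw [inf_subgroupOf_right]
      rw [hB, relIndex_subgroupOf (inf_le_right : N ⊓ A ≤ A)]
      intro h
      refine R.not_dvd_index (dvd_trans h ?_)
      have h2 : P.relIndex (N ⊓ A) ∣ P.relIndex N :=
        ⟨_, (relIndex_mul_relIndex P (N ⊓ A) N (le_inf hPN le_normalizer) inf_le_left).symm⟩
      refine h2.trans (dvd_of_eq ?_)
      rw [relIndex, hP, subgroupOf, comap_map_eq_self_of_injective N.subtype_injective]
    rw [hi] at hdiv
    rcases i with _ | i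
    · rw [pow_zero, ← eq_bot_iff_card] at hi
      exact hn1 ((mem_bot (G := MulAut P)).1 (hi ▸ mem_map_of_mem φ (show (⟨n, hnA⟩ : A) ∈ B from
        mem_subgroupOf.2 n.2)))
    · exact h3 ((dvd_pow_self 3 i.succ_ne_zero).trans hdiv)
  have h4 : 4 ∣ Nat.card A := by
    have h1 : 2 ∣ Nat.card B := hBeven.trans (card_map_dvd B φ)
    rw [← B.card_mul_index, hBidx]
    exact Nat.mul_dvd_mul h1 heven
  have hrange : Nat.card φ.range ∣ 3 ^ (b - 1) * 2 := hAut ▸ card_subgroup_dvd_card _
  have hA : Nat.card A = Nat.card C * Nat.card φ.range := by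
    rw [← hker, ← φ.ker.card_mul_index, index_ker]
  rw [hA] at h4
  have h4' : 4 ∣ Nat.card φ.range := by
    refine Nat.Coprime.dvd_of_dvd_mul_left ?_ h4
    exact Nat.Coprime.pow_left 2 (Nat.prime_two.coprime_iff_not_dvd.2 hCodd)
  have h42 : 4 ∣ 3 ^ (b - 1) * 2 := h4'.trans hrange
  have := (Nat.Coprime.pow 2 (b - 1) (by decide : Nat.Coprime 2 3)).dvd_of_dvd_mul_left
    (show 2 ^ 2 ∣ 3 ^ (b - 1) * 2 from h42)
  norm_num at this

set_option maxRecDepth 4000 in
set_option synthInstance.maxSize 4096 in
set_option synthInstance.maxHeartbeats 80000 in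
/-- Commuting involutions of the dihedral group of order 8 share one of its two four-groups. -/
theorem dihedral_four_cases : ∀ a b : DihedralGroup 4,
    a * a = 1 → b * b = 1 → a * b * (a * b) = 1 →
      (a = .r 0 ∨ a = .r 2 ∨ a = .sr 0 ∨ a = .sr (0 + 2)) ∨
        (b = .r 0 ∨ b = .r 2 ∨ b = .sr 1 ∨ b = .sr (1 + 2)) := by decide

/-- A 2-group normalizing a dihedral subgroup of order 8 with a self-centralizing four-group has
order at most 16. -/
theorem card_le_sixteen {S : Type*} [Group S] [Finite S] (hS : IsPGroup 2 S) (T : Subgroup S)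
    [T.Normal] (hT : Nonempty (T ≃* DihedralGroup 4))
    (hself : ∀ W : Subgroup S, Nat.card W = 4 → (∀ x ∈ W, x * x = 1) → centralizer (W : Set S) = W) :
    Nat.card S ≤ 16 := by
  classical
  obtain ⟨e⟩ := hT
  let f : DihedralGroup 4 →* S := T.subtype.comp e.symm.toMonoidHom
  have hf : Function.Injective f := T.subtype_injective.comp e.symm.injective
  -- the two four-groups of `T`
  let mk : ZMod 4 → Subgroup (DihedralGroup 4) := fun i =>
    { carrier := {.r 0, .r 2, .sr i, .sr (i + 2)}
      one_mem' := Set.mem_insert _ _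
      mul_mem' := by
        intro a b ha hb
        revert a b i
        decide
      inv_mem' := by
        intro a ha
        revert a i
        decide }
  let W : ZMod 4 → Subgroup S := fun i => (mk i).map f
  let El : ZMod 4 → DihedralGroup 4 → Prop := fun i d =>
    d = .r 0 ∨ d = .r 2 ∨ d = .sr i ∨ d = .sr (i + 2)
  have hmem : ∀ i d, d ∈ mk i ↔ El i d := fun i d => Iff.rfl
  have hWc : ∀ i, Nat.card (W i) = 4 := by
    intro i
    rw [card_map_of_injective hf, Nat.card_congr (Equiv.subtypeEquivRight (hmem i))]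
    have key : ∀ i : ZMod 4, Fintype.card {d : DihedralGroup 4 // d = .r 0 ∨ d = .r 2 ∨ d = .sr i ∨
        d = .sr (i + 2)} = 4 := by decide
    rw [Nat.card_eq_fintype_card]
    convert key i
  have hWe : ∀ i, ∀ x ∈ W i, x * x = 1 := by
    rintro i _ ⟨d, hd, rfl⟩
    have key : ∀ (j : ZMod 4) (d : DihedralGroup 4),
        d = .r 0 ∨ d = .r 2 ∨ d = .sr j ∨ d = .sr (j + 2) → d * d = 1 := by decide
    rw [← map_mul, key i d hd, map_one]
  -- a four-group inside `T` is one of them
  have hfour : ∀ V : Subgroup (DihedralGroup 4), Nat.card V = 4 → (∀ x ∈ V, x * x = 1) →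
      V = mk 0 ∨ V = mk 1 := by
    intro V hV hVe
    have hle : V ≤ mk 0 ∨ V ≤ mk 1 := by
      by_contra hcon
      push Not at hcon
      obtain ⟨⟨a, ha, ha'⟩, ⟨b, hb, hb'⟩⟩ := And.intro (SetLike.not_le_iff_exists.1 hcon.1)
        (SetLike.not_le_iff_exists.1 hcon.2)
      rcases dihedral_four_cases a b (hVe a ha) (hVe b hb) (hVe _ (mul_mem ha hb)) with h | h
      · exact ha' h
      · exact hb' h
    have hc : ∀ i, Nat.card (mk i) = 4 := fun i => by
      rw [← card_map_of_injective (K := mk i) hf]; exact hWc i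
    rcases hle with h | h
    · exact Or.inl (eq_of_le_of_card_ge h (by rw [hV, hc]))
    · exact Or.inr (eq_of_le_of_card_ge h (by rw [hV, hc]))
  have hTr : f.range = T := by
    ext x
    constructor
    · rintro ⟨d, rfl⟩; exact (e.symm d).2
    · intro hx; exact ⟨e ⟨x, hx⟩, by simp [f]⟩
  -- the conjugates of `W 0`
  have horb : ∀ s : S, (W 0).map (MulAut.conj s).toMonoidHom = W 0 ∨
      (W 0).map (MulAut.conj s).toMonoidHom = W 1 := by
    intro s
    set X := (W 0).map (MulAut.conj s).toMonoidHom
    have hXT : X ≤ f.range := by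
      rintro _ ⟨w, ⟨d, -, rfl⟩, rfl⟩
      rw [hTr]
      exact Normal.conj_mem inferInstance _ (hTr ▸ ⟨d, rfl⟩) s
    have hXc : Nat.card (X.comap f) = 4 := by
      rw [← card_map_of_injective (K := X.comap f) hf, map_comap_eq_self hXT,
        card_map_of_injective (MulAut.conj s).injective, hWc]
    have hXe : ∀ x ∈ X.comap f, x * x = 1 := by
      rintro x ⟨w, hw, hwx⟩
      apply hf
      rw [map_mul, ← hwx, ← map_mul, hWe 0 w hw, map_one, map_one]
    rcases hfour _ hXc hXe with h | h
    · left; rw [← map_comap_eq_self hXT, h]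
    · right; rw [← map_comap_eq_self hXT, h]
  -- the stabilizer
  set A := normalizer ((W 0 : Subgroup S) : Set S)
  have hAidx : A.index ≤ 2 := by
    by_contra hcon
    rw [index_eq_card] at hcon
    push Not at hcon
    let g : S ⧸ A → Bool := fun c => decide ((W 0).map (MulAut.conj c.out).toMonoidHom = W 0)
    have hg : Function.Injective g := by
      intro a b hab
      have heq : (W 0).map (MulAut.conj a.out).toMonoidHom = (W 0).map (MulAut.conj b.out).toMonoidHom := by
        simp only [g, decide_eq_decide] at hab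
        rcases horb a.out with h | h <;> rcases horb b.out with h' | h'
        · rw [h, h']
        · rw [h, hab.1 h]
        · rw [h', hab.2 h']
        · rw [h, h']
      rw [← a.out_eq', ← b.out_eq', QuotientGroup.eq, mem_normalizer_iff]
      have heq' : ∀ x, x ∈ (W 0).map (MulAut.conj a.out).toMonoidHom ↔
          x ∈ (W 0).map (MulAut.conj b.out).toMonoidHom := fun x => by rw [heq]
      intro x
      simp only [mem_map_equiv, MulAut.conj_symm_apply] at heq'
      have h1 := heq' (b.out * x * b.out⁻¹)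
      simp only [mul_assoc, inv_mul_cancel_left, inv_mul_cancel, mul_one] at h1
      simp only [mul_inv_rev, inv_inv, mul_assoc]
      exact h1.symm
    have := Nat.card_le_card_of_injective g hg
    simp at this
    omega
  set φ : A →* MulAut (W 0) := normalizerMonoidHom (W 0)
  have hker : φ.ker = (W 0).subgroupOf A := by
    rw [normalizerMonoidHom_ker, hself _ (hWc 0) (hWe 0)]
  haveI := four_of_card (hWc 0) (hWe 0)
  have hrange : Nat.card φ.range ≤ 2 := by
    have h1 : Nat.card φ.range ∣ Nat.card (MulAut (W 0)) := card_subgroup_dvd_card _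
    let g : MulAut (W 0) →* Equiv.Perm {w : W 0 // w ≠ 1} :=
      { toFun := fun σ => σ.toEquiv.subtypeEquiv fun _ => (map_ne_one_iff σ σ.injective).symm
        map_one' := rfl
        map_mul' := fun _ _ => rfl }
    have hg : Function.Injective g := by
      intro σ τ h
      refine MulEquiv.ext fun w => ?_
      by_cases hw : w = 1
      · rw [hw, map_one, map_one]
      · exact congrArg (fun π : Equiv.Perm {w : W 0 // w ≠ 1} => (π ⟨w, hw⟩).1) h
    have h3 : Nat.card {w : W 0 // w ≠ 1} = 3 := by
      haveI := Fintype.ofFinite (W 0)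
      rw [Nat.card_eq_fintype_card, Fintype.card_subtype_compl, Fintype.card_subtype_eq,
        ← Nat.card_eq_fintype_card, hWc]
    have h6 : Nat.card φ.range ∣ 6 := by
      have := card_subgroup_dvd_card ((φ.range).map g)
      rwa [card_map_of_injective hg, Nat.card_perm, h3] at this
    haveI := Fact.mk Nat.prime_two
    obtain ⟨i, hi⟩ := ((hS.to_subgroup A).of_surjective φ.rangeRestrict φ.rangeRestrict_surjective).exists_card_eq
    rw [hi] at h6 ⊢
    rcases i with _ | _ | i
    · norm_num
    · norm_num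
    · exact absurd ((pow_dvd_pow 2 (by omega : 2 ≤ i + 2)).trans h6) (by norm_num)
  have hA8 : Nat.card A ≤ 8 := by
    rw [← φ.ker.card_mul_index, index_ker, hker,
      Nat.card_congr (subgroupOfEquivOfLe le_normalizer).toEquiv, hWc]
    omega
  rw [← A.card_mul_index]
  calc Nat.card A * A.index ≤ 8 * 2 := Nat.mul_le_mul hA8 hAidx
    _ = 16 := rfl

/-- A CIT-group with trivial cores and a self-centralizing four-group, of order divisible by 8. -/
theorem shape_of_klein {G : Type u} [Group G] [Finite G] (hG : IsCIT G) (h2 : Cfsg.pCore 2 G = ⊥)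
    (hO : Cfsg.pPrimeCore 2 G = ⊥) (V : Subgroup G) (hVc : Nat.card V = 4)
    (hVe : ∀ x ∈ V, x * x = 1) (hV : centralizer (V : Set G) ≤ V) (h8 : 8 ∣ Nat.card G) :
    (ShapeOdd G ∨ ShapeNine G) ∧ (∀ S : Sylow 2 G, ¬ IsMulCommutative S) := by
  classical
  haveI := Fact.mk Nat.prime_two
  haveI := four_of_card hVc hVe
  have hV2 : IsPGroup 2 V := IsPGroup.of_card (n := 2) (by rw [hVc]; rfl)
  obtain ⟨S, hS⟩ := hV2.exists_le_sylow
  have hVcomm : V ≤ centralizer (V : Set G) := fun a ha => mem_centralizer_iff.2 fun b hb =>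
    congrArg Subtype.val (mul_comm_of_exponent_two (IsKleinFour.exponent_two (G := V)) ⟨b, hb⟩ ⟨a, ha⟩)
  have hWS : centralizer ((V.subgroupOf S : Subgroup S) : Set S) = V.subgroupOf S := by
    refine le_antisymm (fun g hg => mem_subgroupOf.2 (hV (mem_centralizer_iff.2 fun v hv =>
      congrArg Subtype.val (mem_centralizer_iff.1 hg ⟨v, hS hv⟩ hv)))) fun g hg => ?_
    exact mem_centralizer_iff.2 fun v hv => Subtype.ext
      (mem_centralizer_iff.1 (hVcomm (mem_subgroupOf.1 hg)) v (mem_subgroupOf.1 hv))
  have hSshape := shape_of_self_four S.isPGroup' (V.subgroupOf S)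
    (by rw [Nat.card_congr (subgroupOfEquivOfLe hS).toEquiv, hVc])
    (fun x hx => Subtype.ext (hVe _ hx)) hWS
  have h8S : 8 ∣ Nat.card (S : Subgroup G) := by
    have h := S.pow_dvd_card_of_pow_dvd_card (n := 3) (by simpa using h8)
    simpa using h
  -- Sylow 2-subgroups are nonabelian
  have hnab : ∀ P : Sylow 2 G, ¬ IsMulCommutative P := by
    intro P hP
    have hW := hWS
    have htop : V.subgroupOf S = ⊤ := by
      rw [← hW, eq_top_iff]
      intro g _
      refine mem_centralizer_iff.2 fun x _ => ?_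
      exact (S.equiv P).injective (by rw [map_mul, map_mul]; exact hP.1.1 _ _)
    have h4 : Nat.card (S : Subgroup G) = 4 := by
      rw [← Nat.card_congr (topEquiv (G := S)).toEquiv, ← htop,
        Nat.card_congr (subgroupOfEquivOfLe hS).toEquiv, hVc]
    rw [h4] at h8S
    norm_num at h8S
  refine ⟨?_, hnab⟩
  haveI : Nontrivial G := by
    rw [← Finite.one_lt_card_iff_nontrivial]
    exact lt_of_lt_of_le (by norm_num) (Nat.le_of_dvd Nat.card_pos h8)
  obtain ⟨N, hNn, hNs, hNna, -⟩ := exists_simple_normal hG h2 hO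
  haveI := hNn
  haveI := hNs
  -- the Sylow 2-subgroup of `N` inside `S`
  set TS : Subgroup S := N.subgroupOf S
  have hTmax : ∀ Q : Subgroup N, IsPGroup 2 Q → (S : Subgroup G).subgroupOf N ≤ Q →
      Q = (S : Subgroup G).subgroupOf N := by
    intro Q hQ hle
    refine le_antisymm ?_ hle
    have hsup : IsPGroup 2 (Q.map N.subtype) := hQ.map _
    obtain ⟨P, hP⟩ := hsup.exists_le_sylow
    have hcard : Nat.card ((P : Subgroup G).subgroupOf N) = Nat.card ((S : Subgroup G).subgroupOf N) := by
      obtain ⟨g, hg⟩ := MulAction.exists_smul_eq G S P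
      have : (P : Subgroup G).subgroupOf N =
          ((S : Subgroup G).subgroupOf N).map (MulAut.conjNormal (H := N) g).toMonoidHom := by
        ext x
        rw [mem_map_equiv, mem_subgroupOf, mem_subgroupOf, ← hg, Sylow.smul_def]
        show (x : G) ∈ (S : Subgroup G).map (MulAut.conj g).toMonoidHom ↔ _
        rw [mem_map_equiv, MulAut.conjNormal_symm_apply, MulAut.conj_symm_apply]
      rw [this]
      exact card_map_of_injective (MulAut.conjNormal (H := N) g).injective
    have hQP : Q ≤ (P : Subgroup G).subgroupOf N := fun x hx => mem_subgroupOf.2 (hP (mem_map_of_mem _ hx))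
    exact (eq_of_le_of_card_ge hle ((card_le_of_le hQP).trans hcard.le)).ge
  let T : Sylow 2 N :=
    { toSubgroup := (S : Subgroup G).subgroupOf N
      isPGroup' := S.isPGroup'.comap_of_injective _ N.subtype_injective
      is_maximal' := fun hQ hle => hTmax _ hQ hle }
  have hTS : Nonempty ((T : Subgroup N) ≃* TS) := ⟨
    { toFun := fun x => ⟨⟨(x : N), x.2⟩, (x : N).2⟩
      invFun := fun x => ⟨⟨(x : S), x.2⟩, (x : S).2⟩
      left_inv := fun x => rfl
      right_inv := fun x => rfl
      map_mul' := fun x y => rfl }⟩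
  obtain ⟨eT⟩ := hTS
  -- the shape of `T`
  obtain ⟨t, v, htT, hvT, ht, hv, hne, hcen⟩ := SelfCentralSimple.exists_four hNna T
  have hc : Commute t v := (hcen v hvT).symm
  have htt := SelfCentralSimple.mul_self_of_order ht
  have hvv := SelfCentralSimple.mul_self_of_order hv
  set W := SelfCentralSimple.four htt hvv hc
  have hW4 : Nat.card W = 4 := (SelfCentralSimple.four_facts ht hv hne hc).1
  have hWT : W ≤ (T : Subgroup N) := by
    rintro x (rfl | rfl | rfl | rfl)
    exacts [one_mem _, htT, hvT, mul_mem htT hvT]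
  have hWe : ∀ x ∈ W, x * x = 1 := by
    rintro x (rfl | rfl | rfl | rfl)
    exacts [one_mul 1, htt, hvv, by rw [show t * v * (t * v) = (t * v) * (v * t) by rw [hc.eq],
      mul_assoc, ← mul_assoc v, hvv, one_mul, htt]]
  let ι : (T : Subgroup N) →* S := TS.subtype.comp eT.toMonoidHom
  have hι : Function.Injective ι := TS.subtype_injective.comp eT.injective
  have hselfS : ∀ U : Subgroup S, Nat.card U = 4 → (∀ x ∈ U, x * x = 1) →
      centralizer (U : Set S) = U := self_four_of_shape hSshape
  have hTshape := shape_of_self_four T.isPGroup' (W.subgroupOf T)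
    (by rw [Nat.card_congr (subgroupOfEquivOfLe hWT).toEquiv, hW4])
    (fun x hx => Subtype.ext (hWe _ hx)) (by
      have hU := hselfS ((W.subgroupOf T).map ι) (by
        rw [card_map_of_injective hι, Nat.card_congr (subgroupOfEquivOfLe hWT).toEquiv, hW4]) (by
        rintro _ ⟨x, hx, rfl⟩
        rw [← map_mul, show x * x = 1 from Subtype.ext (hWe _ hx), map_one])
      ext g
      constructor
      · intro hg
        have : ι g ∈ centralizer (((W.subgroupOf T).map ι : Subgroup S) : Set S) := by
          rintro _ ⟨x, hx, rfl⟩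
          show ι x * ι g = ι g * ι x
          rw [← map_mul, ← map_mul, mem_centralizer_iff.1 hg x hx]
        rw [hU] at this
        obtain ⟨x, hx, hxg⟩ := this
        rwa [← hι hxg]
      · intro hg
        refine mem_centralizer_iff.2 fun x hx => hι ?_
        rw [map_mul, map_mul]
        have h1 : ι g ∈ centralizer (((W.subgroupOf T).map ι : Subgroup S) : Set S) :=
          hU.symm ▸ mem_map_of_mem ι hg
        exact mem_centralizer_iff.1 h1 _ (mem_map_of_mem ι hx))
  obtain ⟨⟨k, hk, ⟨eD⟩⟩, F, iF, iF', h5, hq, ⟨e⟩⟩ := psl_of_simple (hG.subgroup N) hNna T hTshape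
  -- the normalizer of `T` is a 2-group once `T` has order at least 8
  set T' : Subgroup G := (T : Subgroup N).map N.subtype with hT'
  have hfr : normalizer (T' : Set G) ⊔ N = ⊤ := Sylow.normalizer_sup_eq_top T
  have hpow : 2 ≤ k → ∃ j, N.index = 2 ^ j := by
    intro hk2
    have hA2 : IsPGroup 2 (normalizer (T' : Set G)) := by
      rw [isPGroup_two_iff_no_odd]
      intro g hg hgo
      have hAut : IsPGroup 2 (MulAut T') := Cfsg.Agent.S3116.result (T.isPGroup'.map _)
        (Or.inl ⟨2 ^ k, (Nat.pow_le_pow_right two_pos hk2).trans_eq' (by norm_num),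
          ⟨((T : Subgroup N).equivMapOfInjective N.subtype N.subtype_injective).symm.trans eD⟩⟩)
      have hφ : normalizerMonoidHom T' ⟨g, hg⟩ = 1 := by
        refine orderOf_eq_one_iff.1 ?_
        obtain ⟨j, hj⟩ := hAut (normalizerMonoidHom T' ⟨g, hg⟩)
        have h1 : orderOf (normalizerMonoidHom T' ⟨g, hg⟩) ∣ orderOf g :=
          (orderOf_map_dvd _ _).trans (by rw [orderOf_mk])
        exact Nat.eq_one_of_dvd_coprimes
          (Nat.Coprime.pow_right j (Nat.coprime_two_right.2 hgo)) h1 (orderOf_dvd_of_pow_eq_one hj)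
      have hk' : (⟨g, hg⟩ : normalizer (T' : Set G)) ∈
          (centralizer (T' : Set G)).subgroupOf (normalizer (T' : Set G)) := by
        rw [← normalizerMonoidHom_ker]
        exact hφ
      exact hG.eq_one_of_commute (x := (t : G)) (IsTwo.of_orderOf_two (by rw [orderOf_coe, ht]))
        (fun h => by rw [show t = 1 from Subtype.ext h, orderOf_one] at ht; omega) hgo
        (mem_centralizer_iff.1 (mem_subgroupOf.1 hk') (t : G) (mem_map_of_mem _ htT)).symm
    obtain ⟨j, hj⟩ := hA2.exists_card_eq
    have hd : N.index ∣ 2 ^ j := by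
      rw [index_eq_relIndex_of_sup hfr, ← hj]
      exact relIndex_dvd_card _ _
    obtain ⟨i, -, hi⟩ := (Nat.dvd_prime_pow Nat.prime_two).1 hd
    exact ⟨i, hi⟩
  by_cases heven : 2 ∣ N.index
  · -- `q = 9`
    rcases hq with h9 | ⟨hp, -⟩
    swap
    · exact absurd heven (not_even_index hG N hNna hp h5 e)
    refine Or.inr ⟨N, hNn, ?_, F, iF, iF', h9, ⟨e⟩⟩
    have hNc : Nat.card N = 360 := by
      have hc := PSL2.card_psl (F := F)
      rw [h9, ← Nat.card_congr e.toEquiv] at hc
      norm_num at hc
      omega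
    have hT8 : Nat.card (T : Subgroup N) = 8 := by
      rw [T.card_eq_multiplicity, hNc, show (360 : ℕ) = 2 ^ 3 * 45 by norm_num,
        Nat.factorization_mul (by norm_num) (by norm_num), Finsupp.add_apply,
        Nat.prime_two.factorization_pow, Finsupp.single_eq_same,
        Nat.factorization_eq_zero_of_not_dvd (by norm_num : ¬ 2 ∣ 45)]
      norm_num
    have hk2 : k = 2 := by
      have := Nat.card_congr eD.toEquiv
      rw [hT8, DihedralGroup.nat_card] at this
      exact Nat.pow_right_injective le_rfl (show 2 ^ k = 2 ^ 2 by omega)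
    subst hk2
    have h16 := card_le_sixteen S.isPGroup' TS ⟨eT.symm.trans eD⟩ hselfS
    obtain ⟨j, hj⟩ := hpow le_rfl
    rw [hj] at heven ⊢
    have hj2 : 2 ^ (3 + j) ∣ Nat.card G :=
      ⟨45, by rw [← N.card_mul_index, hNc, hj, pow_add]; ring⟩
    have := (Nat.le_of_dvd Nat.card_pos (S.pow_dvd_card_of_pow_dvd_card hj2)).trans h16
    have hj1 : 3 + j ≤ 4 := (Nat.pow_le_pow_iff_right one_lt_two).1 (this.trans_eq (by norm_num))
    rcases j with _ | _ | j
    · norm_num at heven
    · norm_num
    · omega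
  · -- odd index: `G` is simple
    have h8N : 8 ∣ Nat.card (T : Subgroup N) := by
      have h8N' : 8 ∣ Nat.card N := by
        rw [← N.card_mul_index] at h8
        exact (Nat.Coprime.pow_left 3 (Nat.prime_two.coprime_iff_not_dvd.2 heven)).dvd_of_dvd_mul_right
          (by simpa using h8)
      have h := T.pow_dvd_card_of_pow_dvd_card (n := 3) (by simpa using h8N')
      simpa using h
    have hk2 : 2 ≤ k := by
      by_contra hk2
      rw [Nat.card_congr eD.toEquiv, DihedralGroup.nat_card, show k = 1 by omega] at h8N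
      norm_num at h8N
    obtain ⟨j, hj⟩ := hpow hk2
    have htop : N = ⊤ := by
      rw [← index_eq_one, hj]
      rcases j with _ | j
      · rfl
      · exact absurd (hj ▸ dvd_pow_self 2 j.succ_ne_zero) heven
    subst htop
    refine Or.inl ⟨(topEquiv (G := G)).symm.isSimpleGroup_congr.2 hNs, F, iF, iF', ?_, hq,
      ⟨topEquiv.symm.trans e⟩⟩
    by_contra h7
    rcases hq with h9 | ⟨hp, -⟩
    · omega
    have h5' : Fintype.card F = 5 := by
      rcases (by omega : Fintype.card F = 5 ∨ Fintype.card F = 6) with h | h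
      · exact h
      · rw [h] at hp; norm_num at hp
    have hc := PSL2.card_psl (F := F)
    rw [h5', ← Nat.card_congr e.toEquiv] at hc
    norm_num at hc
    have := h8N.trans (card_subgroup_dvd_card (T : Subgroup ↥(⊤ : Subgroup G)))
    omega

end CfsgLib.CIT
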