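import Mathlib
import Cfsg.Agent.Lib.CIT.Assemble
import Cfsg.Agent.Lib.CNGroup.Maximal
import Cfsg.Agent.S0205

/-!
# Simple groups: trivial cores, and groups with nilpotent centralizers
-/

set_option autoImplicit false
set_option linter.style.haveILetI false

namespace CfsgLib.CIT

open Subgroup CfsgLib.Involutions

universe u

variable {G : Type u} [Group G] [Finite G]

theorem not_isSolvable_of_simple [IsSimpleGroup G] (hG : ∃ a b : G, a * b ≠ b * a) :
    ¬ Group.IsSolvable G := fun hs => by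
  haveI := hs
  obtain ⟨a, b, hab⟩ := hG
  exact hab (IsSimpleGroup.comm_iff_isSolvable.2 hs a b)

theorem simple_cores [IsSimpleGroup G] (hG : ∃ a b : G, a * b ≠ b * a) :
    Cfsg.pCore 2 G = ⊥ ∧ Cfsg.pPrimeCore 2 G = ⊥ ∧ Nontrivial G := by
  haveI : Fact (Nat.Prime 2) := ⟨Nat.prime_two⟩
  have hns := not_isSolvable_of_simple hG
  refine ⟨?_, ?_, IsSimpleGroup.toNontrivial⟩
  · rcases (inferInstance : (Cfsg.pCore 2 G).Normal).eq_bot_or_eq_top with h | h
    · exact h
    · exfalso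
      have h1 : IsPGroup 2 (⊤ : Subgroup G) := h ▸ CfsgLib.PCore.pCore_isPGroup
      haveI := (h1.of_equiv Subgroup.topEquiv).isNilpotent
      exact hns inferInstance
  · rcases (inferInstance : (Cfsg.pPrimeCore 2 G).Normal).eq_bot_or_eq_top with h | h
    · exact h
    · exfalso
      refine hns (Cfsg.Agent.S0205.result (G := G) ?_)
      have h1 := CfsgLib.PCore.pPrimeCore_coprime (p := 2) (G := G)
      rw [h, card_top] at h1
      exact Nat.coprime_two_right.1 h1

/-- A group with nilpotent centralizers and trivial cores has 2-groups as involution centralizers. -/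
theorem isCIT_of_cn_cores (h2 : Cfsg.pCore 2 G = ⊥) (hO : Cfsg.pPrimeCore 2 G = ⊥) [Nontrivial G]
    (hCN : Cfsg.IsCNGroup G) : IsCIT G := by
  classical
  haveI : Fact (Nat.Prime 2) := ⟨Nat.prime_two⟩
  intro t ht
  by_contra hnot
  obtain ⟨H, hH, hle⟩ := CfsgLib.CNGroup.exists_maxNilp_ge (hCN t (ne_one_of_involution ht))
  have htH : t ∈ H := hle (mem_centralizer_singleton_iff.2 rfl)
  obtain ⟨y, hy, p, hp, hp2, hyp⟩ := exists_odd_prime_order hnot
  have hpH : p ∣ Nat.card ↥H := hyp ▸ orderOf_dvd_natCard H (hle hy)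
  have h2H : 2 ∣ Nat.card ↥H := ht ▸ orderOf_dvd_natCard H htH
  have hpp : ¬ IsPrimePow (Nat.card ↥H) := fun hpow => by
    obtain ⟨r, k, hr, -, hrk⟩ := (isPrimePow_nat_iff _).1 hpow
    rw [← hrk] at hpH h2H
    exact hp2 (((Nat.prime_dvd_prime_iff_eq hp hr).1 (hp.dvd_of_dvd_pow hpH)).trans
      ((Nat.prime_dvd_prime_iff_eq Nat.prime_two hr).1 (Nat.prime_two.dvd_of_dvd_pow h2H)).symm)
  have hTI : ∀ g : G, H.map (MulAut.conj g).toMonoidHom ≠ H →
      H ⊓ H.map (MulAut.conj g).toMonoidHom = ⊥ := fun g hg => hH.inf_conj_eq_bot hCN hpp hg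
  obtain ⟨P, Q, hPQ⟩ := hH.exists_sylow_le hCN h2H
  have hPH : (P : Subgroup G) ≤ H := hPQ ▸ map_subtype_le _
  set M := normalizer (H : Set G) with hM
  haveI : (H.subgroupOf M).Normal := normal_in_normalizer
  have hti : ∀ g x : G, x ∈ H → x ≠ 1 → g⁻¹ * x * g ∈ H → g ∈ M := by
    intro g x hx hx1 hgx
    have h1 : H.map (MulAut.conj g).toMonoidHom = H := by
      by_contra h
      exact hx1 (mem_bot.1 (hTI g h ▸ mem_inf.2 ⟨hx, CfsgLib.CNGroup.conj_map_mem.2 hgx⟩))
    rw [hM, mem_normalizer_iff]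
    intro z
    constructor
    · intro hz
      rw [← h1]
      exact ⟨z, hz, rfl⟩
    · intro hz
      rw [← h1] at hz
      obtain ⟨w, hw, e⟩ := hz
      have e' : g * w * g⁻¹ = g * z * g⁻¹ := e
      rwa [← mul_left_cancel (mul_right_cancel e')]
  -- all 2-elements of `M` lie in `H`
  have htwo : ∀ x ∈ M, IsTwo x → x ∈ H := by
    intro x hx h2x
    have hidx : ¬ 2 ∣ (H.subgroupOf M).index := fun h =>
      P.not_dvd_index (h.trans ((H.relIndex_dvd_index_of_le (le_normalizer)).trans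
        (index_dvd_of_le hPH)))
    obtain ⟨k, hk⟩ := h2x
    have h1 : orderOf ((⟨x, hx⟩ : ↥M) : ↥M ⧸ H.subgroupOf M) ∣ 2 ^ k := by
      refine orderOf_dvd_of_pow_eq_one ?_
      rw [← QuotientGroup.mk_pow, show (⟨x, hx⟩ : ↥M) ^ 2 ^ k = 1 from Subtype.ext hk]
      rfl
    obtain ⟨j, -, hj⟩ := (Nat.dvd_prime_pow Nat.prime_two).1 h1
    rcases j with _ | j
    · rw [pow_zero, orderOf_eq_one_iff, QuotientGroup.eq_one_iff] at hj
      exact mem_subgroupOf.1 hj
    · exfalso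
      refine hidx ((hj ▸ dvd_pow_self 2 j.succ_ne_zero : 2 ∣ _).trans ?_)
      rw [index_eq_card]
      exact orderOf_dvd_natCard _
  have hMtop : M ≠ ⊤ := fun e => by
    haveI : H.Normal := normalizer_eq_top_iff.1 e
    haveI := hH.1
    have hQn : (Q : Subgroup ↥H).Normal :=
      ((Group.isNilpotent_of_finite_tfae (G := ↥H)).out 0 3 rfl rfl).1 hH.1 2 inferInstance Q
    have h1 : (Cfsg.pCore 2 ↥H).map H.subtype ≤ Cfsg.pCore 2 G := by
      rw [CfsgLib.PCore.map_pCore_subtype_of_normal]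
      exact inf_le_right
    rw [h2, le_bot_iff, map_eq_bot_iff_of_injective _ H.subtype_injective] at h1
    have hQ1 : (Q : Subgroup ↥H) = ⊥ := le_bot_iff.1 (h1 ▸ CfsgLib.PCore.le_pCore hQn Q.isPGroup')
    exact CfsgLib.CNGroup.sylow_map_ne_bot h2H Q (by rw [hQ1, Subgroup.map_bot])
  have hse : Cfsg.IsStronglyEmbedded M := by
    refine isStronglyEmbedded_of_normalizers hMtop
      (even_card_of_involution_mem (le_normalizer htH) ht) fun X hX hX2 hX1 g hg => ?_
    obtain ⟨x, hx, hx1⟩ := (bot_or_exists_ne_one X).resolve_left hX1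
    exact hti g x (htwo x (hX hx) (isTwo_of_mem hX2 hx)) hx1
      (htwo _ (hX ((mem_normalizer_iff''.1 hg x).1 hx)) (isTwo_of_mem hX2
        ((mem_normalizer_iff''.1 hg x).1 hx)))
  obtain ⟨s, s', hs, hs', hs2, hs'2, hne⟩ := exists_two_involutions h2 hO P
  obtain ⟨-, hH2, -, -⟩ := TI.main (M := M) (H := H) ⟨hse, le_normalizer, le_rfl, hH.1,
    fun x hx hx2 => htwo x hx (.of_orderOf_two hx2), hti,
    fun x hx hx1 c hc => hH.centralizer_le hCN hTI hx hx1 (mem_centralizer_singleton_iff.2 hc.eq),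
    ⟨s, s', le_normalizer (hPH hs), le_normalizer (hPH hs'), hs2, hs'2, hne⟩⟩
  exact hnot (hH2.to_le hle)

/-- A simple group with nilpotent centralizers has 2-groups as involution centralizers. -/
theorem isCIT_of_cn_simple [IsSimpleGroup G] (hG : ∃ a b : G, a * b ≠ b * a)
    (hCN : Cfsg.IsCNGroup G) : IsCIT G := by
  obtain ⟨h2, hO, hnt⟩ := simple_cores hG
  exact isCIT_of_cn_cores h2 hO hCN

/-- The classification of the simple groups, modulo the two special configurations. -/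
theorem simple_list (hK : KleinStep.{u}) (hC : CountStep.{u}) [IsSimpleGroup G]
    (hG : ∃ a b : G, a * b ≠ b * a) (hCIT : IsCIT G) :
    (∃ (F : Type) (_ : Field F) (_ : Fintype F),
        (Fintype.card F = 9 ∨ (∃ n : ℕ, Fintype.card F = 2 ^ n) ∨
          ((Fintype.card F).Prime ∧ ∃ k : ℕ, Fintype.card F = 2 ^ k + 1 ∨ Fintype.card F + 1 = 2 ^ k)) ∧
        Nonempty (G ≃* Matrix.ProjectiveSpecialLinearGroup (Fin 2) F)) ∨
    (∃ (F : Type) (_ : Field F) (_ : Fintype F), Fintype.card F = 4 ∧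
        Nonempty (G ≃* Matrix.ProjectiveSpecialLinearGroup (Fin 3) F)) ∨
    Cfsg.IsSuzuki G := by
  obtain ⟨h2, hO, hnt⟩ := simple_cores hG
  rcases shapeAny_of_steps hK hC hCIT h2 hO with ⟨-, F, i1, i2, ⟨n, -, hn⟩, e⟩ | ⟨hs, -⟩ |
      ⟨⟨-, F, i1, i2, -, hF, e⟩ | ⟨N, hN, hN2, -⟩ | ⟨-, -, F, i1, i2, hF, e⟩, -⟩
  · exact Or.inl ⟨F, i1, i2, Or.inr (Or.inl ⟨n, hn⟩), e⟩
  · exact Or.inr (Or.inr hs)
  · exact Or.inl ⟨F, i1, i2, hF.imp_right Or.inr, e⟩
  · exfalso
    rcases hN.eq_bot_or_eq_top with h | h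
    · rw [h, index_bot] at hN2
      obtain ⟨a, b, hab⟩ := hG
      haveI : Fact (Nat.Prime 2) := ⟨Nat.prime_two⟩
      haveI := isCyclic_of_prime_card hN2
      letI := IsCyclic.commGroup (α := G)
      exact hab (mul_comm a b)
    · rw [h, index_top] at hN2
      omega
  · exact Or.inr (Or.inl ⟨F, i1, i2, hF, e⟩)

end CfsgLib.CIT
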