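import Mathlib
import Cfsg.Agent.Lib.CIT.Simple
import Cfsg.Agent.Lib.CIT.MaxClass

/-!
# Nonsolvable groups with 2-groups or nilpotent groups as centralizers
-/

set_option autoImplicit false
set_option linter.style.haveILetI false

namespace CfsgLib.CIT

open Subgroup CfsgLib.Involutions

universe u

theorem kleinStep : KleinStep.{u} := fun G _ _ hG h2 hO h => by
  obtain ⟨V, hc, he, hcen, h8⟩ := h
  exact shape_of_klein hG h2 hO V hc he hcen h8

variable {G : Type u} [Group G] [Finite G]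

theorem isSolvable_of_normal_of_odd_index (N : Subgroup G) [N.Normal] (hN : Group.IsSolvable ↥N)
    (hodd : Odd (Nat.card (G ⧸ N))) : Group.IsSolvable G :=
  haveI := hN
  haveI := Cfsg.Agent.S0205.result hodd
  Group.isSolvable_of_ker_le_range N.subtype (QuotientGroup.mk' N)
    (by rw [QuotientGroup.ker_mk', Subgroup.range_subtype])

/-- With no two commuting involutions and solvable involution centralizers, a group is solvable. -/
theorem isSolvable_of_rank_one
    (huniq : ∀ s t : G, orderOf s = 2 → orderOf t = 2 → Commute s t → s = t)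
    (hC : ∀ t : G, orderOf t = 2 → Group.IsSolvable ↥(centralizer ({t} : Set G))) :
    Group.IsSolvable G := by
  haveI : Fact (Nat.Prime 2) := ⟨Nat.prime_two⟩
  by_cases heven : 2 ∣ Nat.card G
  swap
  · exact Cfsg.Agent.S0205.result (Nat.not_even_iff_odd.1 fun h => heven (even_iff_two_dvd.1 h))
  obtain ⟨u, hu⟩ := exists_prime_orderOf_dvd_card' (G := G) 2 heven
  have hz := inZStar_of_rank_one huniq hu
  set O := Cfsg.pPrimeCore 2 G
  set π := QuotientGroup.mk' O
  haveI := hC u hu
  haveI : Group.IsSolvable ↥O := Cfsg.Agent.S0205.result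
    (Nat.coprime_two_right.1 CfsgLib.PCore.pPrimeCore_coprime)
  have hsurj : ∀ q : G ⧸ O, ∃ c ∈ centralizer ({u} : Set G), π c = q := by
    intro q
    obtain ⟨g, rfl⟩ := QuotientGroup.mk'_surjective O q
    set y := g * u * g⁻¹ with hy'
    have hy : orderOf y = 2 := by rw [hy', orderOf_conj_eq, hu]
    have hmem : u * y ∈ O := by
      have h1 := inv_mem (hz g)
      rw [show (g * u * g⁻¹ * u⁻¹)⁻¹ = u * y⁻¹ by rw [hy']; group,
        inv_eq_self_of_involution hy] at h1
      exact h1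
    have hodd : Odd (orderOf (u * y)) := by
      rw [← Nat.coprime_two_right]
      exact CfsgLib.PCore.pPrimeCore_coprime.coprime_dvd_left (orderOf_dvd_natCard _ hmem)
    obtain ⟨m, hm⟩ := hodd
    set d := (u * y) ^ (m : ℤ) with hd
    have hdu : d * u * d⁻¹ = y := by
      have h := conj_by_zpow hu hy (m : ℤ) 0
      rw [zpow_zero, one_mul] at h
      rw [hd, h]
      have h2 : (u * y) ^ (2 * (m : ℤ) + 0) = (u * y)⁻¹ := by
        apply eq_inv_of_mul_eq_one_left
        have := pow_orderOf_eq_one (u * y)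
        rw [hm, pow_succ] at this
        rw [add_zero]
        exact_mod_cast this
      rw [h2, mul_inv_rev, inv_eq_self_of_involution hu, inv_eq_self_of_involution hy, mul_assoc,
        mul_self_eq_one hu, mul_one]
    refine ⟨d⁻¹ * g, mem_centralizer_singleton_iff.2 ?_, ?_⟩
    · calc d⁻¹ * g * u = d⁻¹ * y * g := by rw [hy']; group
        _ = _ := by rw [← hdu]; group
    · rw [map_mul, map_inv, show π d = 1 from (QuotientGroup.eq_one_iff d).2 (zpow_mem hmem _),
        inv_one, one_mul]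
  haveI : Group.IsSolvable (G ⧸ O) := Group.isSolvable_of_surjective
    (f := π.comp (centralizer ({u} : Set G)).subtype) fun q => by
      obtain ⟨c, hc, rfl⟩ := hsurj q
      exact ⟨⟨c, hc⟩, rfl⟩
  exact Group.isSolvable_of_ker_le_range O.subtype π
    (by rw [QuotientGroup.ker_mk', Subgroup.range_subtype])

theorem IsCIT.isSolvable_of_pPrimeCore (h : IsCIT G) (hO : Cfsg.pPrimeCore 2 G ≠ ⊥) :
    Group.IsSolvable G := by
  haveI : Fact (Nat.Prime 2) := ⟨Nat.prime_two⟩
  refine isSolvable_of_rank_one (fun s t hs ht hst => h.eq_of_commute_involutions hO hs ht hst)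
    fun t ht => ?_
  haveI := (h t ht).isNilpotent
  infer_instance

/-- The structure of a nonsolvable group with 2-groups as involution centralizers. -/
theorem IsCIT.nonsolvable_structure (h : IsCIT G) (hns : ¬ Group.IsSolvable G) :
    Cfsg.pPrimeCore 2 G = ⊥ ∧ IsCIT (G ⧸ Cfsg.pCore 2 G) ∧ Nontrivial (G ⧸ Cfsg.pCore 2 G) ∧
      Cfsg.pCore 2 (G ⧸ Cfsg.pCore 2 G) = ⊥ ∧ Cfsg.pPrimeCore 2 (G ⧸ Cfsg.pCore 2 G) = ⊥ ∧
      ¬ Group.IsSolvable (G ⧸ Cfsg.pCore 2 G) := by
  haveI : Fact (Nat.Prime 2) := ⟨Nat.prime_two⟩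
  have hD : IsPGroup 2 (Cfsg.pCore 2 G) := CfsgLib.PCore.pCore_isPGroup
  have hns' : ¬ Group.IsSolvable (G ⧸ Cfsg.pCore 2 G) := fun hs => by
    haveI := hs
    haveI := hD.isNilpotent
    exact hns (Group.isSolvable_of_ker_le_range (Cfsg.pCore 2 G).subtype
      (QuotientGroup.mk' (Cfsg.pCore 2 G)) (by rw [QuotientGroup.ker_mk', Subgroup.range_subtype]))
  refine ⟨?_, h.quotient _ hD, ?_, CfsgLib.PCore.pCore_quotient_pCore, ?_, hns'⟩
  · by_contra hO
    exact hns (h.isSolvable_of_pPrimeCore hO)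
  · by_contra hsub
    rw [not_nontrivial_iff_subsingleton] at hsub
    exact hns' inferInstance
  · by_contra hO
    exact hns' ((h.quotient _ hD).isSolvable_of_pPrimeCore hO)

/-- A nonsolvable group with nilpotent centralizers has no core of odd order. -/
theorem pPrimeCore_eq_bot_of_cn (hns : ¬ Group.IsSolvable G) (hCN : Cfsg.IsCNGroup G) :
    Cfsg.pPrimeCore 2 G = ⊥ := by
  haveI : Fact (Nat.Prime 2) := ⟨Nat.prime_two⟩
  by_contra hK
  set K := Cfsg.pPrimeCore 2 G
  haveI : Group.IsSolvable ↥K := Cfsg.Agent.S0205.result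
    (Nat.coprime_two_right.1 CfsgLib.PCore.pPrimeCore_coprime)
  -- two commuting involutions
  obtain ⟨s, t, hs, ht, hst, hne⟩ : ∃ s t : G, orderOf s = 2 ∧ orderOf t = 2 ∧ Commute s t ∧ s ≠ t := by
    by_contra hcon
    push Not at hcon
    refine hns (isSolvable_of_rank_one hcon fun t ht => ?_)
    haveI := hCN t (ne_one_of_involution ht)
    infer_instance
  -- a normal p-subgroup of odd order
  obtain ⟨A, hAn, hA1, hAc, hAK⟩ : ∃ A : Subgroup G, A.Normal ∧ A ≠ ⊥ ∧ IsMulCommutative ↥A ∧ A ≤ K := by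
    haveI : Nontrivial ↥K := (Subgroup.nontrivial_iff_ne_bot _).2 hK
    obtain ⟨n, hn⟩ := (inferInstance : Group.IsSolvable ↥K)
    classical
    set m := Nat.find (⟨n, hn⟩ : ∃ n, derivedSeries ↥K n = ⊥)
    have hm : derivedSeries ↥K m = ⊥ := Nat.find_spec (⟨n, hn⟩ : ∃ n, derivedSeries ↥K n = ⊥)
    obtain ⟨j, hj⟩ : ∃ j, m = j + 1 := Nat.exists_eq_succ_of_ne_zero fun e => by
      rw [e, derivedSeries_zero] at hm
      exact top_ne_bot hm
    have hj' : derivedSeries ↥K j ≠ ⊥ :=
      Nat.find_min (⟨n, hn⟩ : ∃ n, derivedSeries ↥K n = ⊥) (show j < m by omega)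
    haveI : (derivedSeries ↥K j).Characteristic := derivedSeries_characteristic ↥K j
    refine ⟨(derivedSeries ↥K j).map K.subtype, ConjAct.normal_of_characteristic_of_normal,
      fun e => hj' ((map_eq_bot_iff_of_injective _ K.subtype_injective).1 e), ?_, map_subtype_le _⟩
    rw [hj, derivedSeries_succ, commutator_eq_bot_iff_le_centralizer] at hm
    haveI : IsMulCommutative ↥(derivedSeries ↥K j) :=
      ⟨⟨fun a b => Subtype.ext (mem_centralizer_iff.1 (hm b.2) a a.2)⟩⟩
    infer_instance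
  obtain ⟨x₀, hx₀, hx₀1⟩ := (bot_or_exists_ne_one A).resolve_left hA1
  -- an involution fixing a point of `A`
  have hfix : ∃ e x : G, orderOf e = 2 ∧ x ∈ A ∧ x ≠ 1 ∧ Commute x e := by
    by_contra hcon
    push Not at hcon
    have hinv : ∀ e : G, orderOf e = 2 → ∀ a ∈ A, e * a * e⁻¹ = a⁻¹ := by
      intro e he a ha
      by_contra hne'
      have hc := congrArg Subtype.val
        (mul_comm' (⟨a, ha⟩ : ↥A) ⟨e * a * e⁻¹, hAn.conj_mem a ha e⟩)
      refine hcon e (a * (e * a * e⁻¹)) he (mul_mem ha (hAn.conj_mem a ha e))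
        (fun e1 => hne' (eq_inv_of_mul_eq_one_right e1)) ?_
      show a * (e * a * e⁻¹) * e = e * (a * (e * a * e⁻¹))
      have hc' : a * (e * a * e⁻¹) = e * a * e⁻¹ * a := hc
      rw [hc']
      rw [inv_eq_self_of_involution he]
      calc e * a * e * a * e = e * (a * (e * a * e⁻¹)) := by
            rw [inv_eq_self_of_involution he]; group
        _ = _ := by
            rw [hc', inv_eq_self_of_involution he]
    have hst2 : orderOf (s * t) = 2 := by
      rw [orderOf_eq_two_iff_mul]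
      refine ⟨fun e => hne ?_, ?_⟩
      · rw [mul_eq_one_iff_eq_inv, inv_eq_self_of_involution ht] at e
        exact e
      · rw [hst.symm.mul_mul_mul_comm, mul_self_eq_one hs, mul_self_eq_one ht, one_mul]
    refine hcon (s * t) x₀ hst2 hx₀ hx₀1 ?_
    have e : s * t * x₀ * (s * t)⁻¹ = x₀ := by
      calc s * t * x₀ * (s * t)⁻¹ = s * (t * x₀ * t⁻¹) * s⁻¹ := by group
        _ = _ := by rw [hinv t ht x₀ hx₀, hinv s hs _ (inv_mem hx₀), inv_inv]
    exact (mul_inv_eq_iff_eq_mul.1 e).symm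
  obtain ⟨e, x, he, hx, hx1, hxe⟩ := hfix
  -- `e` centralises the abelian subgroup `A`
  have hAe : ∀ a ∈ A, Commute e a := by
    intro a ha
    have hodd : Odd (orderOf a) := by
      rw [← Nat.coprime_two_right]
      exact CfsgLib.PCore.pPrimeCore_coprime.coprime_dvd_left (orderOf_dvd_natCard _ (hAK ha))
    exact CfsgLib.CNGroup.commute_of_mem_nilpotent (hCN x hx1)
      (mem_centralizer_singleton_iff.2 hxe.eq.symm)
      (mem_centralizer_singleton_iff.2 (congrArg Subtype.val (mul_comm' (⟨a, ha⟩ : ↥A) ⟨x, hx⟩)))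
      (by rw [he]; exact Nat.coprime_two_left.2 hodd)
  set C := centralizer (A : Set G)
  have hCnil : Group.IsNilpotent ↥C := by
    haveI := hCN x₀ hx₀1
    exact Subgroup.isNilpotent_of_ker_le_center (Subgroup.inclusion
      (centralizer_le (Set.singleton_subset_iff.2 hx₀) : C ≤ centralizer ({x₀} : Set G))) (by
        rw [(MonoidHom.ker_eq_bot_iff _).2 (Subgroup.inclusion_injective _)]; exact bot_le)
  -- the normal Sylow 2-subgroup of the centralizer
  set Q := (Cfsg.pCore 2 ↥C).map C.subtype with hQdef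
  have hQ1 : Q ≠ ⊥ := by
    intro h0
    rw [hQdef, map_eq_bot_iff_of_injective _ C.subtype_injective] at h0
    haveI := hCnil
    obtain ⟨R⟩ : Nonempty (Sylow 2 ↥C) := inferInstance
    have hRn : (R : Subgroup ↥C).Normal :=
      ((Group.isNilpotent_of_finite_tfae (G := ↥C)).out 0 3 rfl rfl).1 hCnil 2 inferInstance R
    have h1 := CfsgLib.PCore.le_pCore hRn R.isPGroup'
    rw [h0, le_bot_iff] at h1
    have heC : e ∈ C := mem_centralizer_iff.2 fun a ha => (hAe a ha).eq.symm
    exact CfsgLib.CNGroup.sylow_map_ne_bot (H := C) (p := 2)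
      (he ▸ orderOf_dvd_natCard C heC) R (by rw [h1, Subgroup.map_bot])
  haveI : C.Normal := inferInstance
  haveI : (Cfsg.pCore 2 ↥C).Characteristic := CfsgLib.PCore.pCore_characteristic_inst
  have hQn : Q.Normal := ConjAct.normal_of_characteristic_of_normal
  obtain ⟨S⟩ : Nonempty (Sylow 2 G) := inferInstance
  have hQ2 : IsPGroup 2 Q := CfsgLib.PCore.pCore_isPGroup.map _
  have hQS : Q ≤ (S : Subgroup G) :=
    (CfsgLib.PCore.le_pCore hQn hQ2).trans (CfsgLib.PCore.pCore_le_sylow S)
  haveI := hQn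
  obtain ⟨w, hwQ, hw1, hwS⟩ := CfsgLib.CNGroup.exists_central_in S.isPGroup' hQS hQ1
    Subgroup.le_normalizer_of_normal
  have hSC : (S : Subgroup G) ≤ C := by
    intro y hy
    rw [mem_centralizer_iff]
    intro a ha
    obtain ⟨k, hk⟩ := CfsgLib.CNGroup.orderOf_eq_pow S.isPGroup' hy
    have hodd : Odd (orderOf a) := by
      rw [← Nat.coprime_two_right]
      exact CfsgLib.PCore.pPrimeCore_coprime.coprime_dvd_left (orderOf_dvd_natCard _ (hAK ha))
    exact (CfsgLib.CNGroup.commute_of_mem_nilpotent (hCN w hw1)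
      (mem_centralizer_singleton_iff.2 (hwS y hy).eq.symm)
      (mem_centralizer_singleton_iff.2 (mem_centralizer_iff.1 (map_subtype_le _ hwQ) a ha))
      (by rw [hk]; exact Nat.Coprime.pow_left _ (Nat.coprime_two_left.2 hodd))).eq.symm
  haveI := hCnil
  refine hns (isSolvable_of_normal_of_odd_index C inferInstance ?_)
  rw [← Nat.not_even_iff_odd, even_iff_two_dvd, ← Subgroup.index_eq_card]
  exact fun h => S.not_dvd_index (h.trans (index_dvd_of_le hSC))

/-- A nonsolvable group with nilpotent centralizers has 2-groups as involution centralizers. -/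
theorem isCIT_of_cn (hns : ¬ Group.IsSolvable G) (hCN : Cfsg.IsCNGroup G) : IsCIT G := by
  haveI : Fact (Nat.Prime 2) := ⟨Nat.prime_two⟩
  haveI : Nontrivial G := by
    by_contra h
    rw [not_nontrivial_iff_subsingleton] at h
    exact hns inferInstance
  have hO := pPrimeCore_eq_bot_of_cn hns hCN
  by_cases h2 : Cfsg.pCore 2 G = ⊥
  · exact isCIT_of_cn_cores h2 hO hCN
  set D := Cfsg.pCore 2 G
  have hD : IsPGroup 2 D := CfsgLib.PCore.pCore_isPGroup
  intro t ht
  rw [isPGroup_two_iff_no_odd]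
  intro y hy hyo
  -- a central element of `D` fixed by `t`
  set W := D ⊓ centralizer (D : Set G)
  have hW1 : W ≠ ⊥ := by
    haveI : Nontrivial ↥D := (Subgroup.nontrivial_iff_ne_bot _).2 h2
    haveI := hD.center_nontrivial
    obtain ⟨z, hz⟩ := exists_ne (1 : Subgroup.center ↥D)
    intro e
    have hzW : ((z.1 : ↥D) : G) ∈ W := ⟨z.1.2, mem_centralizer_iff.2 fun d hd =>
      congrArg Subtype.val (Subgroup.mem_center_iff.1 z.2 ⟨d, hd⟩)⟩
    rw [e, mem_bot] at hzW
    exact hz (Subtype.ext (Subtype.ext hzW))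
  obtain ⟨S, hS⟩ := (IsPGroup.of_card (n := 1) (by rw [Nat.card_zpowers, ht, pow_one]) :
    IsPGroup 2 (zpowers t)).exists_le_sylow
  obtain ⟨w, hwW, hw1, hwS⟩ := CfsgLib.CNGroup.exists_central_in S.isPGroup'
    (inf_le_left.trans (CfsgLib.PCore.pCore_le_sylow S) : W ≤ (S : Subgroup G)) hW1
    Subgroup.le_normalizer_of_normal
  have h2pow : ∀ {x : G}, x ∈ D → (orderOf y).Coprime (orderOf x) := fun {x} hx => by
    obtain ⟨k, hk⟩ := CfsgLib.CNGroup.orderOf_eq_pow hD hx
    rw [hk]
    exact Nat.Coprime.pow_right _ (Nat.coprime_two_right.2 hyo)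
  have hyw : Commute y w := CfsgLib.CNGroup.commute_of_mem_nilpotent
    (hCN t (ne_one_of_involution ht)) hy
    (mem_centralizer_singleton_iff.2 (hwS t (hS (mem_zpowers t))).eq) (h2pow hwW.1)
  have hyD : y ∈ centralizer (D : Set G) := mem_centralizer_iff.2 fun d hd =>
    (CfsgLib.CNGroup.commute_of_mem_nilpotent (hCN w hw1) (mem_centralizer_singleton_iff.2 hyw.eq)
      (mem_centralizer_singleton_iff.2 (mem_centralizer_iff.1 hwW.2 d hd)) (h2pow hd)).eq.symm
  set C := centralizer (D : Set G)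
  haveI hC : Group.IsNilpotent ↥C := by
    haveI := hCN w hw1
    exact Subgroup.isNilpotent_of_ker_le_center (Subgroup.inclusion
      (centralizer_le (Set.singleton_subset_iff.2 hwW.1) : C ≤ centralizer ({w} : Set G))) (by
        rw [(MonoidHom.ker_eq_bot_iff _).2 (Subgroup.inclusion_injective _)]; exact bot_le)
  by_contra hy1
  obtain ⟨p, hp, hpd⟩ := Nat.exists_prime_and_dvd (mt orderOf_eq_one_iff.1 hy1)
  haveI := Fact.mk hp
  have hp2 : p ≠ 2 := fun e => Nat.not_even_iff_odd.2 hyo (even_iff_two_dvd.2 (e ▸ hpd))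
  obtain ⟨P⟩ : Nonempty (Sylow p ↥C) := inferInstance
  haveI hPn : (P : Subgroup ↥C).Normal :=
    ((Group.isNilpotent_of_finite_tfae (G := ↥C)).out 0 3 rfl rfl).1 hC p inferInstance P
  haveI : (P : Subgroup ↥C).Characteristic := P.characteristic_of_normal hPn
  have hPK : (P : Subgroup ↥C).map C.subtype ≤ Cfsg.pPrimeCore 2 G := by
    refine CfsgLib.PCore.le_pPrimeCore ConjAct.normal_of_characteristic_of_normal ?_
    obtain ⟨k, hk⟩ := (P.isPGroup'.map C.subtype).exists_card_eq
    rw [hk]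
    exact Nat.Coprime.pow_left _ ((Nat.coprime_primes hp Nat.prime_two).2 hp2)
  rw [hO, le_bot_iff] at hPK
  exact CfsgLib.CNGroup.sylow_map_ne_bot (H := C) (hpd.trans (orderOf_dvd_natCard C hyD)) P hPK

end CfsgLib.CIT
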