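import Mathlib
import Cfsg.Agent.Lib.CIT.Reduce

/-!
# The core of a nonsolvable group whose involution centralizers are 2-groups is abelian

Elements of order 3 act without fixed points on `O₂(G)`; this bounds its class by 2, and two noncommuting
elements of order 3 exclude class 2.
-/

set_option autoImplicit false
set_option linter.style.haveILetI false

namespace CfsgLib.CIT.Core

open Subgroup
open scoped commutatorElement

universe u

variable {G : Type u} [Group G]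

/-- Conjugation by an element of order three acting without fixed points. -/
theorem telescope [Finite G] {D : Subgroup G} [D.Normal] {y : G} (hy : y ^ 3 = 1)
    (hfpf : ∀ d ∈ D, Commute d y → d = 1) {a : G} (ha : a ∈ D) :
    a * (y * a * y⁻¹) * (y * (y * a * y⁻¹) * y⁻¹) = 1 := by
  let f : ↥D → ↥D := fun x => ⟨(x : G)⁻¹ * (y * x * y⁻¹),
    mul_mem (inv_mem x.2) (Normal.conj_mem inferInstance _ x.2 y)⟩
  have hf : Function.Injective f := by
    intro p q e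
    have e' : (p : G)⁻¹ * (y * p * y⁻¹) = (q : G)⁻¹ * (y * q * y⁻¹) := congrArg Subtype.val e
    have h1 : y * ((p : G) * (q : G)⁻¹) * y⁻¹ = (p : G) * (q : G)⁻¹ := by
      calc y * ((p : G) * (q : G)⁻¹) * y⁻¹
          = p * ((p : G)⁻¹ * (y * p * y⁻¹)) * (y * (q : G)⁻¹ * y⁻¹) := by group
        _ = _ := by rw [e']; group
    have h2 := hfpf _ (mul_mem p.2 (inv_mem q.2)) (mul_inv_eq_iff_eq_mul.1 h1).symm
    exact Subtype.ext (mul_inv_eq_one.1 h2)
  obtain ⟨x, hx⟩ := (Finite.injective_iff_surjective.1 hf) ⟨a, ha⟩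
  have hx' : (x : G)⁻¹ * (y * x * y⁻¹) = a := congrArg Subtype.val hx
  have h3 : y * y * y = 1 := by rw [← hy, pow_succ, pow_two]
  calc a * (y * a * y⁻¹) * (y * (y * a * y⁻¹) * y⁻¹)
      = (x : G)⁻¹ * (y * y * y) * x * (y * y * y)⁻¹ := by rw [← hx']; group
    _ = 1 := by rw [h3]; group

theorem twice_eq [Finite G] {D : Subgroup G} [D.Normal] {y : G} (hy : y ^ 3 = 1)
    (hfpf : ∀ d ∈ D, Commute d y → d = 1) {a : G} (ha : a ∈ D) :
    y * (y * a * y⁻¹) * y⁻¹ = (a * (y * a * y⁻¹))⁻¹ ∧ Commute a (y * a * y⁻¹) := by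
  have h1 := telescope hy hfpf ha
  have h2 := telescope hy hfpf (inv_mem ha)
  refine ⟨eq_inv_of_mul_eq_one_right h1, ?_⟩
  have e1 : y * (y * a * y⁻¹) * y⁻¹ = (a * (y * a * y⁻¹))⁻¹ := eq_inv_of_mul_eq_one_right h1
  have e2 : (y * (y * a * y⁻¹) * y⁻¹)⁻¹ = (a⁻¹ * (y * a * y⁻¹)⁻¹)⁻¹ := by
    rw [← eq_inv_of_mul_eq_one_right (a := a⁻¹ * (y * a * y⁻¹)⁻¹)
      (b := (y * (y * a * y⁻¹) * y⁻¹)⁻¹) ?_]
    rw [← h2]
    group
  rw [e1] at e2
  rw [inv_inv, mul_inv_rev, inv_inv, inv_inv] at e2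
  exact e2

/-- In class 2 the commutator is bilinear. -/
theorem comm_mul_left {D : Subgroup G} (hcl : ∀ a ∈ D, ∀ b ∈ D, ∀ c ∈ D, Commute ⁅a, b⁆ c)
    {a b c : G} (ha : a ∈ D) (hb : b ∈ D) (hc : c ∈ D) : ⁅a * b, c⁆ = ⁅a, c⁆ * ⁅b, c⁆ := by
  have h1 : ⁅a * b, c⁆ = a * ⁅b, c⁆ * a⁻¹ * ⁅a, c⁆ := by simp only [commutatorElement_def]; group
  have hcm : ⁅a, c⁆ ∈ D := by
    rw [commutatorElement_def]
    exact mul_mem (mul_mem (mul_mem ha hc) (inv_mem ha)) (inv_mem hc)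
  rw [h1, (hcl b hb c hc a ha).symm.eq, mul_inv_cancel_right, (hcl b hb c hc _ hcm).eq]

theorem comm_mul_right {D : Subgroup G} (hcl : ∀ a ∈ D, ∀ b ∈ D, ∀ c ∈ D, Commute ⁅a, b⁆ c)
    {a b c : G} (ha : a ∈ D) (hb : b ∈ D) (hc : c ∈ D) : ⁅a, b * c⁆ = ⁅a, b⁆ * ⁅a, c⁆ := by
  have h1 : ⁅a, b * c⁆ = ⁅a, b⁆ * (b * ⁅a, c⁆ * b⁻¹) := by simp only [commutatorElement_def]; group
  rw [h1, (hcl a ha c hc b hb).symm.eq, mul_inv_cancel_right]

theorem comm_conj (g a b : G) : g * ⁅a, b⁆ * g⁻¹ = ⁅g * a * g⁻¹, g * b * g⁻¹⁆ := by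
  simp only [commutatorElement_def]; group

theorem comm_inv (a b : G) : ⁅a, b⁆⁻¹ = ⁅b, a⁆ := by
  simp only [commutatorElement_def]; group

/-- The identity of an element of order 3 on the commutators. -/
theorem comm_three [Finite G] {D : Subgroup G} [D.Normal]
    (hcl : ∀ a ∈ D, ∀ b ∈ D, ∀ c ∈ D, Commute ⁅a, b⁆ c) {y : G} (hy : y ^ 3 = 1)
    (hfpf : ∀ d ∈ D, Commute d y → d = 1) {a b : G} (ha : a ∈ D) (hb : b ∈ D) :
    ⁅y * a * y⁻¹, b⁆ = y * (y * ⁅a, b⁆ * y⁻¹) * y⁻¹ ∧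
      ⁅a, y * b * y⁻¹⁆ = y * (y * ⁅a, b⁆ * y⁻¹) * y⁻¹ := by
  have hD : ∀ {x}, x ∈ D → y * x * y⁻¹ ∈ D := fun hx => Normal.conj_mem inferInstance _ hx y
  have sym : ∀ p ∈ D, ∀ q ∈ D, ⁅p, y * q * y⁻¹⁆ = ⁅y * p * y⁻¹, q⁆ := by
    intro p hp q hq
    have h0 : ⁅p * q, y * (p * q) * y⁻¹⁆ = 1 :=
      commutatorElement_eq_one_iff_commute.2 (twice_eq hy hfpf (mul_mem hp hq)).2
    rw [show y * (p * q) * y⁻¹ = y * p * y⁻¹ * (y * q * y⁻¹) by group,
      comm_mul_left hcl hp hq (mul_mem (hD hp) (hD hq)), comm_mul_right hcl hp (hD hp) (hD hq),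
      comm_mul_right hcl hq (hD hp) (hD hq),
      commutatorElement_eq_one_iff_commute.2 (twice_eq hy hfpf hp).2,
      commutatorElement_eq_one_iff_commute.2 (twice_eq hy hfpf hq).2, one_mul, mul_one] at h0
    rw [eq_inv_of_mul_eq_one_left h0, comm_inv]
  have hc : ⁅a, b⁆ ∈ D := by
    rw [commutatorElement_def]
    exact mul_mem (mul_mem (mul_mem ha hb) (inv_mem ha)) (inv_mem hb)
  set c := ⁅a, b⁆ with hcdef
  set e := ⁅a, y * b * y⁻¹⁆ with he
  have h1 : y * c * y⁻¹ = (c * e)⁻¹ := by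
    rw [comm_conj, ← sym a ha _ (hD hb), (twice_eq hy hfpf hb).1]
    have h2 : ∀ u ∈ D, ⁅a, u⁻¹⁆ = ⁅a, u⁆⁻¹ := fun u hu => by
      have := comm_mul_right hcl ha hu (inv_mem hu)
      rw [mul_inv_cancel, commutatorElement_one_right] at this
      exact eq_inv_of_mul_eq_one_right this.symm
    rw [h2 _ (mul_mem hb (hD hb)), comm_mul_right hcl ha hb (hD hb)]
  have h3 : e = c⁻¹ * (y * c * y⁻¹)⁻¹ := by rw [h1, inv_inv, inv_mul_cancel_left]
  have h4 : y * (y * c * y⁻¹) * y⁻¹ = e := by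
    rw [(twice_eq hy hfpf hc).1, h3, (twice_eq hy hfpf hc).2.eq, mul_inv_rev]
  exact ⟨by rw [← sym a ha b hb]; exact h4.symm, h4.symm⟩

/-- Two elements of order three commute modulo the centralizer of the commutators. -/
theorem comm_two_threes [Finite G] {D : Subgroup G} [D.Normal]
    (hcl : ∀ a ∈ D, ∀ b ∈ D, ∀ c ∈ D, Commute ⁅a, b⁆ c) {y z : G} (hy : y ^ 3 = 1) (hz : z ^ 3 = 1)
    (hfy : ∀ d ∈ D, Commute d y → d = 1) (hfz : ∀ d ∈ D, Commute d z → d = 1) {a b : G}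
    (ha : a ∈ D) (hb : b ∈ D) :
    (z * z * (y * y))⁻¹ * (y * y * (z * z)) ∈ centralizer ({⁅a, b⁆} : Set G) := by
  have hD : ∀ (g : G) {x}, x ∈ D → g * x * g⁻¹ ∈ D := fun g _ hx =>
    Normal.conj_mem inferInstance _ hx g
  set c := ⁅a, b⁆
  have h1 : ⁅y * a * y⁻¹, z * b * z⁻¹⁆ = y * (y * (z * (z * c * z⁻¹) * z⁻¹) * y⁻¹) * y⁻¹ := by
    rw [(comm_three hcl hy hfy ha (hD z hb)).1, (comm_three hcl hz hfz ha hb).2]
  have h2 : ⁅y * a * y⁻¹, z * b * z⁻¹⁆ = z * (z * (y * (y * c * y⁻¹) * y⁻¹) * z⁻¹) * z⁻¹ := by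
    rw [(comm_three hcl hz hfz (hD y ha) hb).2, (comm_three hcl hy hfy ha hb).1]
  rw [mem_centralizer_singleton_iff]
  have h3 := h1.symm.trans h2
  calc (z * z * (y * y))⁻¹ * (y * y * (z * z)) * c
      = (z * z * (y * y))⁻¹ * (y * (y * (z * (z * c * z⁻¹) * z⁻¹) * y⁻¹) * y⁻¹) *
          (y * y * (z * z)) := by group
    _ = _ := by rw [h3]; group

/-- An element of `O₂(G)` commuting with an element of odd order is trivial. -/
theorem fpf_pCore [Finite G] (hG : IsCIT G) {y : G} (hy : Odd (orderOf y)) (hy1 : y ≠ 1) :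
    ∀ d ∈ Cfsg.pCore 2 G, Commute d y → d = 1 := by
  intro d hd hc
  by_contra hd1
  haveI : Fact (Nat.Prime 2) := ⟨Nat.prime_two⟩
  exact hy1 (hG.eq_one_of_commute (isTwo_of_mem CfsgLib.PCore.pCore_isPGroup hd) hd1 hy hc.eq.symm)

/-- A lift of order three. -/
theorem exists_lift_three [Finite G] (q : G ⧸ Cfsg.pCore 2 G) (hq : orderOf q = 3) :
    ∃ y : G, (y : G ⧸ Cfsg.pCore 2 G) = q ∧ orderOf y = 3 := by
  haveI : Fact (Nat.Prime 2) := ⟨Nat.prime_two⟩
  obtain ⟨g, rfl⟩ := QuotientGroup.mk'_surjective (Cfsg.pCore 2 G) q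
  have h3 : g ^ 3 ∈ Cfsg.pCore 2 G := by
    rw [← QuotientGroup.eq_one_iff, QuotientGroup.mk_pow, ← hq]
    exact pow_orderOf_eq_one _
  obtain ⟨k, hk⟩ := isTwo_of_mem CfsgLib.PCore.pCore_isPGroup h3
  have key : ∀ j : ℕ, (2 ^ (2 * j)) % 3 = 1 := fun j => by
    rw [pow_mul, Nat.pow_mod]; simp
  refine ⟨g ^ 2 ^ (2 * k), ?_, ?_⟩
  · rw [QuotientGroup.mk_pow]
    show (QuotientGroup.mk' (Cfsg.pCore 2 G) g) ^ 2 ^ (2 * k) = _
    rw [← pow_mod_orderOf, hq, key, pow_one]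
  · have hpow : (g ^ 2 ^ (2 * k)) ^ 3 = 1 := by
      rw [← pow_mul, mul_comm, pow_mul, show 2 * k = k + k by ring, pow_add, pow_mul, hk, one_pow]
    refine orderOf_eq_prime (hp := ⟨Nat.prime_three⟩) hpow fun e => ?_
    have h1 : ((g ^ 2 ^ (2 * k) : G) : G ⧸ Cfsg.pCore 2 G) = 1 := by rw [e]; rfl
    rw [QuotientGroup.mk_pow] at h1
    rw [show ((g : G ⧸ Cfsg.pCore 2 G)) = QuotientGroup.mk' (Cfsg.pCore 2 G) g from rfl,
      ← pow_mod_orderOf, hq, key, pow_one] at h1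
    rw [h1, orderOf_one] at hq
    omega

/-- Without normal abelian subgroups there are noncommuting elements of order three. -/
theorem exists_noncomm_threes {Q : Type u} [Group Q] [Finite Q] (h3 : 3 ∣ Nat.card Q)
    (hO : Cfsg.pPrimeCore 2 Q = ⊥) :
    ∃ a b : Q, orderOf a = 3 ∧ orderOf b = 3 ∧ a * b ≠ b * a := by
  haveI : Fact (Nat.Prime 3) := ⟨Nat.prime_three⟩
  by_contra hcon
  push Not at hcon
  set S : Set Q := {a | orderOf a = 3}
  haveI : IsMulCommutative ↥(closure S) := isMulCommutative_closure fun a ha b hb => hcon a b ha hb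
  have hP : IsPGroup 3 ↥(closure S) := by
    intro x
    refine ⟨1, Subtype.ext ?_⟩
    rw [pow_one, SubmonoidClass.coe_pow, OneMemClass.coe_one]
    refine closure_induction (p := fun g _ => g ^ 3 = 1) (fun g hg => ?_) (one_pow 3)
      (fun g k hg hk h1 h2 => ?_) (fun g _ h1 => ?_) x.2
    · rw [← show orderOf g = 3 from hg]; exact pow_orderOf_eq_one g
    · rw [Commute.mul_pow (congrArg Subtype.val (mul_comm' (⟨g, hg⟩ : ↥(closure S)) ⟨k, hk⟩)), h1,
        h2, one_mul]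
    · rw [inv_pow, h1, inv_one]
  have hn : (closure S).Normal := by
    have hS : S = ⋃ _ : Unit, S := (Set.iUnion_const S).symm
    refine ⟨fun x hx g => ?_⟩
    refine closure_induction (p := fun z _ => g * z * g⁻¹ ∈ closure S) (fun z hz => subset_closure ?_)
      (by simp) (fun z w _ _ h1 h2 => ?_) (fun z _ h1 => ?_) hx
    · show orderOf (g * z * g⁻¹) = 3
      rw [CfsgLib.Involutions.orderOf_conj_eq]
      exact hz
    · convert mul_mem h1 h2 using 1; group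
    · convert inv_mem h1 using 1; group
  obtain ⟨a, ha⟩ := exists_prime_orderOf_dvd_card' (G := Q) 3 h3
  have hle : closure S ≤ Cfsg.pPrimeCore 2 Q := by
    refine CfsgLib.PCore.le_pPrimeCore hn ?_
    obtain ⟨k, hk⟩ := hP.exists_card_eq
    rw [hk]
    exact Nat.Coprime.pow_left _ (by norm_num)
  rw [hO, le_bot_iff] at hle
  have : a ∈ closure S := subset_closure ha
  rw [hle, mem_bot] at this
  rw [this, orderOf_one] at ha
  omega

/-- The class 2 case. -/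
theorem comm_of_class_two [Finite G] (hG : IsCIT G)
    (hO : Cfsg.pPrimeCore 2 (G ⧸ Cfsg.pCore 2 G) = ⊥) (h3 : 3 ∣ Nat.card (G ⧸ Cfsg.pCore 2 G))
    (hcl : ∀ a ∈ Cfsg.pCore 2 G, ∀ b ∈ Cfsg.pCore 2 G, ∀ c ∈ Cfsg.pCore 2 G, Commute ⁅a, b⁆ c) :
    ⁅Cfsg.pCore 2 G, Cfsg.pCore 2 G⁆ = ⊥ := by
  haveI : Fact (Nat.Prime 2) := ⟨Nat.prime_two⟩
  set D := Cfsg.pCore 2 G with hDdef
  by_contra hne
  set C := centralizer ((⁅D, D⁆ : Subgroup G) : Set G) with hC
  haveI : (⁅D, D⁆ : Subgroup G).Normal := Subgroup.commutator_normal D D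
  haveI : C.Normal := inferInstance
  have hCD : C ≤ D := CfsgLib.PCore.le_pCore inferInstance (hG.centralizer_isPGroup
    (CfsgLib.PCore.pCore_isPGroup.to_le (Subgroup.commutator_le_self D)) hne)
  obtain ⟨p, q, hp, hq, hpq⟩ := exists_noncomm_threes h3 hO
  obtain ⟨y, hyp, hy⟩ := exists_lift_three p hp
  obtain ⟨z, hzq, hz⟩ := exists_lift_three q hq
  have hy1 : y ≠ 1 := fun e => by rw [e, orderOf_one] at hy; omega
  have hz1 : z ≠ 1 := fun e => by rw [e, orderOf_one] at hz; omega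
  set w := (z * z * (y * y))⁻¹ * (y * y * (z * z)) with hw
  have hwC : w ∈ C := by
    have h1 : ⁅D, D⁆ ≤ centralizer ({w} : Set G) := by
      rw [Subgroup.commutator_le]
      intro a ha b hb
      rw [mem_centralizer_singleton_iff]
      exact (mem_centralizer_singleton_iff.1 (comm_two_threes hcl (hy ▸ pow_orderOf_eq_one y)
        (hz ▸ pow_orderOf_eq_one z) (fpf_pCore hG (hy ▸ by decide) hy1)
        (fpf_pCore hG (hz ▸ by decide) hz1) ha hb)).symm
    exact mem_centralizer_iff.2 fun m hm => mem_centralizer_singleton_iff.1 (h1 hm)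
  have h2 : ((w : G) : G ⧸ D) = 1 := (QuotientGroup.eq_one_iff w).2 (hCD hwC)
  rw [hw, QuotientGroup.mk_mul, QuotientGroup.mk_inv, inv_mul_eq_one] at h2
  have hyp' : QuotientGroup.mk' D y = p := hyp
  have hzq' : QuotientGroup.mk' D z = q := hzq
  replace h2 : QuotientGroup.mk' D z * QuotientGroup.mk' D z * (QuotientGroup.mk' D y * QuotientGroup.mk' D y) =
      QuotientGroup.mk' D y * QuotientGroup.mk' D y * (QuotientGroup.mk' D z * QuotientGroup.mk' D z) := h2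
  rw [hyp', hzq'] at h2
  have sq : ∀ {r : G ⧸ D}, orderOf r = 3 → r * r = r⁻¹ := fun {r} hr => by
    refine eq_inv_of_mul_eq_one_left ?_
    rw [← pow_two, ← pow_succ]
    show r ^ 3 = 1
    rw [← hr]
    exact pow_orderOf_eq_one r
  rw [sq hp, sq hq, ← mul_inv_rev, ← mul_inv_rev, inv_inj] at h2
  exact hpq h2

/-- `O₂(G)` is abelian if 3 divides the order of the quotient. -/
theorem comm_pCore [Finite G] (hG : IsCIT G) (hns : ¬ Group.IsSolvable G)
    (h3 : 3 ∣ Nat.card (G ⧸ Cfsg.pCore 2 G)) : IsMulCommutative ↥(Cfsg.pCore 2 G) := by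
  haveI : Fact (Nat.Prime 2) := ⟨Nat.prime_two⟩
  set D := Cfsg.pCore 2 G with hDdef
  suffices h : ⁅D, D⁆ = ⊥ by
    rw [Subgroup.commutator_eq_bot_iff_le_centralizer] at h
    exact ⟨⟨fun a b => Subtype.ext (mem_centralizer_iff.1 (h b.2) a a.2)⟩⟩
  by_contra hne
  set K := ⁅⁅D, D⁆, D⁆ with hK
  haveI : (⁅D, D⁆ : Subgroup G).Normal := Subgroup.commutator_normal D D
  haveI : K.Normal := Subgroup.commutator_normal _ D
  have hKD : K ≤ D := Subgroup.commutator_le_right _ D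
  have hK2 : IsPGroup 2 ↥K := CfsgLib.PCore.pCore_isPGroup.to_le hKD
  -- the commutator subgroup is not contained in the third term
  have hlt : ¬ ⁅D, D⁆ ≤ K := by
    intro hle
    haveI : Group.IsNilpotent ↥D := CfsgLib.PCore.pCore_isPGroup.isNilpotent
    obtain ⟨n, hn⟩ :=
      (Subgroup.isNilpotent_iff_lowerCentralSeries (S := D)).1 (inferInstance : Group.IsNilpotent ↥D)
    have h1 : ∀ m : ℕ, ⁅D, D⁆ ≤ D.lowerCentralSeries m := by
      intro m
      induction m with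
      | zero => exact Subgroup.commutator_le_self D
      | succ m ih => exact hle.trans (Subgroup.commutator_mono ih le_rfl)
    have h2 := h1 n
    rw [hn, le_bot_iff] at h2
    exact hne h2
  set π := QuotientGroup.mk' K
  have hD' : Cfsg.pCore 2 (G ⧸ K) = D.map π := by
    refine le_antisymm ?_ (CfsgLib.PCore.le_pCore
      ((inferInstance : D.Normal).map π (QuotientGroup.mk'_surjective K))
      (CfsgLib.PCore.pCore_isPGroup.map π))
    intro x hx
    obtain ⟨g, rfl⟩ := QuotientGroup.mk'_surjective K x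
    refine mem_map_of_mem π (CfsgLib.PCore.le_pCore (N := (Cfsg.pCore 2 (G ⧸ K)).comap π)
      inferInstance ?_ hx)
    exact (CfsgLib.PCore.pCore_isPGroup (G := G ⧸ K) (p := 2)).comap_of_ker_isPGroup π
      (by rw [QuotientGroup.ker_mk']; exact hK2)
  let e : (G ⧸ K) ⧸ Cfsg.pCore 2 (G ⧸ K) ≃* G ⧸ D :=
    (QuotientGroup.quotientMulEquivOfEq hD').trans (QuotientGroup.quotientQuotientEquivQuotient K D hKD)
  have hO := (hG.nonsolvable_structure hns).2.2.2.2.1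
  have hO' : Cfsg.pPrimeCore 2 ((G ⧸ K) ⧸ Cfsg.pCore 2 (G ⧸ K)) = ⊥ := by
    set P := Cfsg.pPrimeCore 2 ((G ⧸ K) ⧸ Cfsg.pCore 2 (G ⧸ K))
    have h1 : P.map e.toMonoidHom ≤ Cfsg.pPrimeCore 2 (G ⧸ D) := by
      refine CfsgLib.PCore.le_pPrimeCore
        ((inferInstance : P.Normal).map _ e.surjective) ?_
      rw [Subgroup.card_map_of_injective e.injective]
      exact CfsgLib.PCore.pPrimeCore_coprime
    rw [hO, le_bot_iff] at h1
    exact (map_eq_bot_iff_of_injective _ e.injective).1 h1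
  refine hlt fun g hg => ?_
  have h4 := comm_of_class_two (hG.quotient K hK2) hO' (by rwa [Nat.card_congr e.toEquiv]) ?_
  · rw [hD', ← Subgroup.map_commutator, Subgroup.map_eq_bot_iff, QuotientGroup.ker_mk'] at h4
    exact h4 hg
  · rw [hD']
    rintro _ ⟨a, ha, rfl⟩ _ ⟨b, hb, rfl⟩ _ ⟨c, hc, rfl⟩
    refine commutatorElement_eq_one_iff_commute.1 ?_
    rw [← map_commutatorElement, ← map_commutatorElement, ← MonoidHom.mem_ker, QuotientGroup.ker_mk']
    exact Subgroup.commutator_mem_commutator (Subgroup.commutator_mem_commutator ha hb) hc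

end CfsgLib.CIT.Core
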