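import Mathlib

/-!
# Modules of exponent 4 with fixed-point-free elements of odd order

Let `s, t` be commuting involutions, `x` an element of order 3 inverted by `s`, and suppose the elements
`x t`, `x (s t)` have odd order. If all elements of odd order act without fixed points on an abelian group
of exponent dividing 4, then that group has exponent 2.
-/

set_option autoImplicit false
set_option linter.style.haveILetI false

namespace CfsgLib.CIT.ExpTwo

universe u v

theorem add_pow_two_pow {R : Type*} [Ring R] (h2 : ∀ r : R, r + r = 0) {a b : R} (hc : Commute a b) :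
    ∀ j : ℕ, (a + b) ^ 2 ^ j = a ^ 2 ^ j + b ^ 2 ^ j
  | 0 => by simp
  | j + 1 => by
    rw [pow_succ 2 j, pow_mul, pow_mul, pow_mul, add_pow_two_pow h2 hc j, pow_two, pow_two, pow_two,
      add_mul, mul_add, mul_add]
    have hc' : b ^ 2 ^ j * a ^ 2 ^ j = a ^ 2 ^ j * b ^ 2 ^ j := (hc.pow_pow _ _).eq.symm
    rw [hc']
    calc a ^ 2 ^ j * a ^ 2 ^ j + a ^ 2 ^ j * b ^ 2 ^ j +
          (a ^ 2 ^ j * b ^ 2 ^ j + b ^ 2 ^ j * b ^ 2 ^ j)
        = a ^ 2 ^ j * a ^ 2 ^ j + (a ^ 2 ^ j * b ^ 2 ^ j + a ^ 2 ^ j * b ^ 2 ^ j) +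
          b ^ 2 ^ j * b ^ 2 ^ j := by abel
      _ = _ := by rw [h2, add_zero]

/-- The reduction of endomorphisms modulo `2`. -/
def twoMap (C : Type v) [AddCommGroup C] : C →+ C := nsmulAddMonoidHom 2

/-- The quotient by the multiples of 2. -/
abbrev ModTwo (C : Type v) [AddCommGroup C] : Type v := C ⧸ (twoMap C).range

theorem mem_two {C : Type v} [AddCommGroup C] {c : C} :
    c ∈ (twoMap C).range ↔ ∃ d : C, c = 2 • d := by
  constructor
  · rintro ⟨d, rfl⟩; exact ⟨d, rfl⟩
  · rintro ⟨d, rfl⟩; exact ⟨d, rfl⟩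

theorem mk_two {C : Type v} [AddCommGroup C] (q : ModTwo C) : q + q = 0 := by
  induction q using QuotientAddGroup.induction_on with
  | _ c =>
    rw [← QuotientAddGroup.mk_add, QuotientAddGroup.eq_zero_iff]
    exact mem_two.2 ⟨c, (two_nsmul c).symm⟩

/-- The induced endomorphism. -/
def red {C : Type v} [AddCommGroup C] : AddMonoid.End C →+* AddMonoid.End (ModTwo C) where
  toFun f := QuotientAddGroup.map _ _ f (by
    rintro _ ⟨d, rfl⟩
    exact ⟨f d, (map_nsmul f 2 d).symm⟩)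
  map_one' := AddMonoidHom.ext fun q => QuotientAddGroup.induction_on q fun _ => rfl
  map_mul' f g := AddMonoidHom.ext fun q => QuotientAddGroup.induction_on q fun _ => rfl
  map_zero' := AddMonoidHom.ext fun q => QuotientAddGroup.induction_on q fun _ => rfl
  map_add' f g := AddMonoidHom.ext fun q => QuotientAddGroup.induction_on q fun _ => rfl

theorem red_mk {C : Type v} [AddCommGroup C] (f : AddMonoid.End C) (c : C) :
    red f (c : ModTwo C) = ((f c : C) : ModTwo C) := rfl

theorem red_double {C : Type v} [AddCommGroup C] (r : AddMonoid.End (ModTwo C)) : r + r = 0 := by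
  refine AddMonoidHom.ext fun q => ?_
  show r q + r q = 0
  exact mk_two _

variable {Q : Type u} [Group Q] {M : Type v} [AddCommGroup M]

/-- The hypotheses for one of the involutions. -/
structure Tri (ρ : Q →* AddMonoid.End M) (s t x : Q) : Prop where
  four : ∀ v : M, 4 • v = 0
  fpf : ∀ g : Q, Odd (orderOf g) → g ≠ 1 → ∀ v : M, ρ g v = v → v = 0
  hs : s * s = 1
  ht : t * t = 1
  comm : s * t = t * s
  hx : x * x * x = 1
  hx1 : x ≠ 1
  inv : s * x = x * x * s
  odd : Odd (orderOf (x * t))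
  odd' : Odd (orderOf (t * (x * t * x⁻¹)))
  ne : t * (x * t * x⁻¹) ≠ 1

namespace Tri

variable {ρ : Q →* AddMonoid.End M} {s t x : Q}

/-- The fixed points of `s`. -/
def fixS (ρ : Q →* AddMonoid.End M) (s : Q) : AddSubgroup M where
  carrier := {v | ρ s v = v}
  add_mem' := fun {a b} ha hb => by
    show ρ s (a + b) = a + b
    rw [map_add, show ρ s a = a from ha, show ρ s b = b from hb]
  zero_mem' := map_zero (ρ s)
  neg_mem' := fun {a} ha => by
    show ρ s (-a) = -a
    rw [map_neg, show ρ s a = a from ha]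

theorem comp (g h : Q) (v : M) : ρ (g * h) v = ρ g (ρ h v) := by rw [map_mul]; rfl

theorem one_apply (v : M) : ρ 1 v = v := by rw [map_one]; rfl

section
variable (h : Tri ρ s t x)
include h

theorem cube (v : M) : v + ρ x v + ρ x (ρ x v) = 0 := by
  have hord : orderOf x = 3 := by
    haveI : Fact (Nat.Prime 3) := ⟨Nat.prime_three⟩
    exact orderOf_eq_prime (by rw [pow_succ, pow_two]; exact h.hx) h.hx1
  refine h.fpf x (hord ▸ by decide) h.hx1 _ ?_
  rw [map_add, map_add, ← comp x x (ρ x v), ← comp (x * x) x v, h.hx, one_apply]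
  abel

theorem xx_apply (v : M) : ρ x (ρ x v) = -v - ρ x v := by
  rw [eq_sub_iff_add_eq, eq_neg_iff_add_eq_zero]
  calc ρ x (ρ x v) + ρ x v + v = v + ρ x v + ρ x (ρ x v) := by abel
    _ = 0 := h.cube v

theorem sx_apply (v : M) : ρ s (ρ x v) = ρ x (ρ x (ρ s v)) := by
  rw [← comp, h.inv, comp, comp]

theorem sxx_apply (v : M) : ρ s (ρ x (ρ x v)) = ρ x (ρ s v) := by
  rw [h.sx_apply, h.sx_apply, ← comp x x (ρ x (ρ x (ρ s v))), ← comp (x * x) x, h.hx, one_apply]

theorem ss_apply (v : M) : ρ s (ρ s v) = v := by rw [← comp, h.hs, one_apply]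

theorem tt_apply (v : M) : ρ t (ρ t v) = v := by rw [← comp, h.ht, one_apply]

theorem st_apply (v : M) : ρ s (ρ t v) = ρ t (ρ s v) := by rw [← comp, h.comm, comp]

theorem unique {a b : M} (ha : a ∈ fixS ρ s) (hb : b ∈ fixS ρ s) (h0 : a + ρ x b = 0) :
    a = 0 ∧ b = 0 := by
  have h1 : a + ρ x (ρ x b) = 0 := by
    have h2 := congrArg (ρ s) h0
    rwa [map_add, map_zero, h.sx_apply, show ρ s a = a from ha, show ρ s b = b from hb] at h2
  have h3 : ρ x b = ρ x (ρ x b) := add_left_cancel (h0.trans h1.symm)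
  have h4 : b = ρ x b := by
    have h5 := congrArg (ρ x) (congrArg (ρ x) h3)
    simp only [← comp, ← mul_assoc, h.hx, one_mul, one_apply] at h5
    exact h5
  haveI : Fact (Nat.Prime 3) := ⟨Nat.prime_three⟩
  have hb0 : b = 0 := h.fpf x
    (by rw [orderOf_eq_prime (by rw [pow_succ, pow_two]; exact h.hx) h.hx1]; decide) h.hx1 b h4.symm
  rw [hb0, map_zero, add_zero] at h0
  exact ⟨h0, hb0⟩

theorem unique' {a a' b b' : M} (ha : a ∈ fixS ρ s) (ha' : a' ∈ fixS ρ s) (hb : b ∈ fixS ρ s)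
    (hb' : b' ∈ fixS ρ s) (e : a + ρ x b = a' + ρ x b') : a = a' ∧ b = b' := by
  obtain ⟨h1, h2⟩ := h.unique (sub_mem ha ha') (sub_mem hb hb') (by
    rw [map_sub]
    calc a - a' + (ρ x b - ρ x b') = (a + ρ x b) - (a' + ρ x b') := by abel
      _ = 0 := by rw [e, sub_self])
  exact ⟨sub_eq_zero.1 h1, sub_eq_zero.1 h2⟩

theorem fix_sum (v : M) : v + ρ s v ∈ fixS ρ s := by
  show ρ s (v + ρ s v) = v + ρ s v
  rw [map_add, h.ss_apply, add_comm]

end

/-- The first coordinate. -/
def projA (h : Tri ρ s t x) : M →+ ↥(fixS ρ s) where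
  toFun v := ⟨-(2 • (v + ρ s v) + (ρ x (ρ x v) + ρ s (ρ x (ρ x v)))),
    neg_mem (add_mem (nsmul_mem (h.fix_sum v) 2) (h.fix_sum _))⟩
  map_zero' := Subtype.ext (by simp)
  map_add' v w := Subtype.ext (by
    show -(2 • (v + w + ρ s (v + w)) + (ρ x (ρ x (v + w)) + ρ s (ρ x (ρ x (v + w))))) = _
    simp only [map_add, AddSubgroup.coe_add]
    abel)

/-- The second coordinate. -/
def projB (h : Tri ρ s t x) : M →+ ↥(fixS ρ s) where
  toFun v := ⟨-((v + ρ s v) + 2 • (ρ x (ρ x v) + ρ s (ρ x (ρ x v)))),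
    neg_mem (add_mem (h.fix_sum v) (nsmul_mem (h.fix_sum _) 2))⟩
  map_zero' := Subtype.ext (by simp)
  map_add' v w := Subtype.ext (by
    show -((v + w + ρ s (v + w)) + 2 • (ρ x (ρ x (v + w)) + ρ s (ρ x (ρ x (v + w))))) = _
    simp only [map_add, AddSubgroup.coe_add]
    abel)

section
variable (h : Tri ρ s t x)
include h

theorem decomp (v : M) : (h.projA v : M) + ρ x (h.projB v) = v := by
  show -(2 • (v + ρ s v) + (ρ x (ρ x v) + ρ s (ρ x (ρ x v)))) +
    ρ x (-((v + ρ s v) + 2 • (ρ x (ρ x v) + ρ s (ρ x (ρ x v))))) = v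
  rw [h.sxx_apply]
  simp only [map_neg, map_add, map_nsmul]
  rw [← comp x x (ρ x v), ← comp (x * x) x v, h.hx, one_apply, h.xx_apply v, h.xx_apply (ρ s v)]
  have h4 := h.four (ρ s v)
  have h4v := h.four v
  rw [← sub_eq_zero]
  calc _ = -(4 • v) - (0 : M) := by abel
    _ = 0 := by rw [h4v, sub_zero, neg_zero]

theorem eq_decomp {v : M} {a b : ↥(fixS ρ s)} (e : v = (a : M) + ρ x b) :
    h.projA v = a ∧ h.projB v = b := by
  obtain ⟨h1, h2⟩ := h.unique' (h.projA v).2 a.2 (h.projB v).2 b.2 ((h.decomp v).trans e)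
  exact ⟨Subtype.ext h1, Subtype.ext h2⟩

theorem projA_mem (a : ↥(fixS ρ s)) : h.projA (a : M) = a :=
  (h.eq_decomp (b := 0) (by rw [ZeroMemClass.coe_zero, map_zero, add_zero])).1

theorem mem_range_two {a : ↥(fixS ρ s)} {w : M} (e : (a : M) = 2 • w) :
    a ∈ (twoMap ↥(fixS ρ s)).range :=
  mem_two.2 ⟨h.projA w, by rw [← map_nsmul, ← e, h.projA_mem]⟩

end

/-- The action of `t` on the fixed points of `s`. -/
def opA (h : Tri ρ s t x) : AddMonoid.End ↥(fixS ρ s) :=
  AddMonoidHom.mk' (fun c => ⟨ρ t c, by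
    show ρ s (ρ t c) = ρ t c
    rw [h.st_apply, show ρ s (c : M) = c from c.2]⟩)
    fun c d => Subtype.ext (map_add (ρ t) (c : M) d)

/-- The off-diagonal entry of `t`. -/
def opB (h : Tri ρ s t x) : AddMonoid.End ↥(fixS ρ s) :=
  h.projA.comp (((ρ t).comp (ρ x)).comp (fixS ρ s).subtype)

/-- The second diagonal entry of `t`. -/
def opD (h : Tri ρ s t x) : AddMonoid.End ↥(fixS ρ s) :=
  h.projB.comp (((ρ t).comp (ρ x)).comp (fixS ρ s).subtype)

section
variable (h : Tri ρ s t x)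
include h

theorem opA_val (c : ↥(fixS ρ s)) : (h.opA c : M) = ρ t c := rfl

theorem t_x (c : ↥(fixS ρ s)) : ρ t (ρ x c) = (h.opB c : M) + ρ x (h.opD c) :=
  (h.decomp _).symm

theorem opD_eq : h.opD = h.opA + 2 • h.opB := by
  refine AddMonoidHom.ext fun c => ?_
  have h1 : ρ s (ρ t (ρ x c)) = ((-(h.opA c) - h.opB c : ↥(fixS ρ s)) : M) + ρ x (-(h.opD c) :) := by
    rw [h.st_apply, h.sx_apply, show ρ s (c : M) = c from c.2, h.xx_apply, map_sub, map_neg, h.t_x,
      AddSubgroup.coe_sub, AddSubgroup.coe_neg, AddSubgroup.coe_neg, h.opA_val, map_neg]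
    abel
  have h2 : ρ s (ρ t (ρ x c)) = ((h.opB c - h.opD c : ↥(fixS ρ s)) : M) + ρ x (-(h.opD c) :) := by
    rw [h.t_x, map_add, h.sx_apply, show ρ s (h.opB c : M) = h.opB c from (h.opB c).2,
      show ρ s (h.opD c : M) = h.opD c from (h.opD c).2, h.xx_apply, AddSubgroup.coe_sub,
      AddSubgroup.coe_neg, map_neg]
    abel
  have h3 : -(h.opA c) - h.opB c = h.opB c - h.opD c :=
    (h.eq_decomp (v := ρ s (ρ t (ρ x c))) h1).1.symm.trans (h.eq_decomp h2).1
  show h.opD c = h.opA c + 2 • h.opB c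
  rw [two_nsmul, ← sub_eq_zero]
  calc h.opD c - (h.opA c + (h.opB c + h.opB c))
      = (-(h.opA c) - h.opB c) - (h.opB c - h.opD c) := by abel
    _ = 0 := by rw [h3, sub_self]

theorem opA_sq : h.opA * h.opA = 1 :=
  AddMonoidHom.ext fun c => Subtype.ext (h.tt_apply c)

theorem rel : h.opA * h.opB + h.opB * h.opD = 0 := by
  refine AddMonoidHom.ext fun c => ?_
  have h1 : ρ x (c : M) = ((h.opA (h.opB c) + h.opB (h.opD c) : ↥(fixS ρ s)) : M) +
      ρ x (h.opD (h.opD c)) := by
    conv_lhs => rw [← h.tt_apply (ρ x c)]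
    rw [h.t_x, map_add, h.t_x, AddSubgroup.coe_add, h.opA_val, add_assoc]
  exact (h.eq_decomp h1).1.symm.trans
    (h.eq_decomp (v := ρ x (c : M)) (a := 0) (b := c) (by simp)).1

theorem red_opD : red h.opD = red h.opA := by
  rw [h.opD_eq, map_add, two_nsmul, map_add, red_double, add_zero]

theorem red_comm : Commute (red h.opA) (red h.opB) := by
  have h1 := congrArg red h.rel
  rw [map_add, map_mul, map_mul, h.red_opD, map_zero] at h1
  exact (eq_neg_of_add_eq_zero_left h1).trans (neg_eq_of_add_eq_zero_left (red_double _))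

theorem red_sum_pow {N : ℕ} (hN : (x * t) ^ 2 ^ N = x * t) :
    (red h.opA + red h.opB) ^ 2 ^ N = red h.opA + red h.opB := by
  set w := x * t with hw
  set Z : AddMonoid.End M := ρ w + ρ w⁻¹ with hZ
  set P := red h.opA + red h.opB with hP
  have hwi : w⁻¹ = t * (x * x) := by
    rw [hw, mul_inv_rev, inv_eq_of_mul_eq_one_right h.ht,
      inv_eq_of_mul_eq_one_right (show x * (x * x) = 1 by rw [← mul_assoc]; exact h.hx)]
  have hbase : ∀ c : ↥(fixS ρ s),
      Z c = ((-(h.opA c + h.opB c) : ↥(fixS ρ s)) : M) + 2 • ρ x (-(h.opB c) :) := by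
    intro c
    show ρ w c + ρ w⁻¹ c = _
    rw [hwi, hw, comp, comp, comp, ← h.opA_val, h.xx_apply, map_sub, map_neg, ← h.opA_val, h.t_x,
      show h.opD c = h.opA c + 2 • h.opB c from DFunLike.congr_fun h.opD_eq c,
      AddSubgroup.coe_neg, AddSubgroup.coe_neg, AddSubgroup.coe_add, AddSubgroup.coe_add,
      AddSubmonoidClass.coe_nsmul, map_add, map_nsmul, map_neg]
    abel
  have hiter : ∀ k, ∀ c : ↥(fixS ρ s), ∃ d : ↥(fixS ρ s),
      (d : ModTwo ↥(fixS ρ s)) = (P ^ k) (c : ModTwo ↥(fixS ρ s)) ∧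
        ∃ m : M, (Z ^ k) (c : M) = (d : M) + 2 • m := by
    intro k
    induction k with
    | zero => exact fun c => ⟨c, rfl, 0, by simp⟩
    | succ k ih =>
      intro c
      obtain ⟨d, hd, m, hm⟩ := ih c
      refine ⟨-(h.opA d + h.opB d), ?_, ρ x (-(h.opB d) :) + Z m, ?_⟩
      · rw [pow_succ']
        show _ = P ((P ^ k) _)
        rw [← hd, hP]
        show _ = red h.opA (d : ModTwo _) + red h.opB (d : ModTwo _)
        rw [red_mk, red_mk, QuotientAddGroup.mk_neg, QuotientAddGroup.mk_add]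
        exact neg_eq_of_add_eq_zero_left (mk_two _)
      · rw [pow_succ']
        show Z ((Z ^ k) (c : M)) = _
        rw [hm, map_add, map_nsmul, hbase, smul_add, add_assoc]
  have hfrob : ∀ j : ℕ, ∃ K : AddMonoid.End M,
      Z ^ 2 ^ j = ρ (w ^ 2 ^ j) + ρ ((w ^ 2 ^ j)⁻¹) + 2 • K := by
    intro j
    induction j with
    | zero => exact ⟨0, by simp [hZ]⟩
    | succ j ih =>
      obtain ⟨K, hK⟩ := ih
      set a := w ^ 2 ^ j
      refine ⟨1 + (ρ a + ρ a⁻¹) * K + K * (ρ a + ρ a⁻¹) + 2 • (K * K), ?_⟩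
      rw [pow_succ 2 j, pow_mul, hK, pow_two, pow_mul, pow_two, mul_inv_rev, map_mul, map_mul]
      have h1 : ρ a * ρ a⁻¹ = 1 := by rw [← map_mul, mul_inv_cancel, map_one]
      have h2 : ρ a⁻¹ * ρ a = 1 := by rw [← map_mul, inv_mul_cancel, map_one]
      simp only [add_mul, mul_add, smul_mul_assoc, mul_smul_comm, h1, h2, smul_add]
      abel
  refine AddMonoidHom.ext fun q => ?_
  induction q using QuotientAddGroup.induction_on with
  | _ c =>
    obtain ⟨d, hd, m, hm⟩ := hiter (2 ^ N) c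
    obtain ⟨d', hd', m', hm'⟩ := hiter 1 c
    obtain ⟨K, hK⟩ := hfrob N
    rw [pow_one] at hd' hm'
    rw [hN] at hK
    refine hd.symm.trans (Eq.trans ?_ hd')
    rw [QuotientAddGroup.eq]
    refine h.mem_range_two (w := m + (-m') + (-(K (c : M)))) ?_
    rw [hK] at hm
    have e : Z (c : M) + 2 • K (c : M) = (d : M) + 2 • m := hm
    rw [hm'] at e
    rw [AddSubgroup.coe_add, AddSubgroup.coe_neg, smul_add, smul_add, smul_neg, smul_neg]
    calc -(d : M) + (d' : M) = ((d' : M) + 2 • m' + 2 • K (c : M)) - (d : M) - 2 • m' - 2 • K (c : M) := by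
          abel
      _ = _ := by rw [e]; abel

theorem opB_inj {c : ↥(fixS ρ s)} (hA : red h.opA = 1) (hB : red h.opB (c : ModTwo _) = 0) :
    c ∈ (twoMap ↥(fixS ρ s)).range := by
  rw [red_mk, QuotientAddGroup.eq_zero_iff] at hB
  obtain ⟨b, hb⟩ := mem_two.1 hB
  have hA' : ∀ e : ↥(fixS ρ s), ∃ f : ↥(fixS ρ s), h.opA e = e + 2 • f := by
    intro e
    have h1 := DFunLike.congr_fun hA (e : ModTwo _)
    rw [red_mk] at h1
    have h1' : ((h.opA e : ↥(fixS ρ s)) : ModTwo ↥(fixS ρ s)) = (e : ModTwo ↥(fixS ρ s)) := h1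
    obtain ⟨f, hf⟩ := mem_two.1 (QuotientAddGroup.eq.1 h1'.symm)
    exact ⟨f, by rw [← hf]; abel⟩
  obtain ⟨f, hf⟩ := hA' c
  have h1 : ρ t (ρ x c) = ρ x c + 2 • ((b : M) + ρ x (f : M) + ρ x (h.opB c)) := by
    rw [h.t_x, show h.opD c = h.opA c + 2 • h.opB c from DFunLike.congr_fun h.opD_eq c, hf,
      show (h.opB c : M) = 2 • (b : M) by rw [hb]; rfl]
    simp only [AddSubgroup.coe_add, AddSubmonoidClass.coe_nsmul, map_add, map_nsmul, smul_add]
    rw [show (h.opB c : M) = 2 • (b : M) by rw [hb]; rfl]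
    simp only [map_nsmul]
    abel
  set g := t * (x * t * x⁻¹)
  have h2 : ∃ m : M, ρ g (ρ x c) = ρ x c + 2 • m := by
    refine ⟨(b : M) + ρ x (f : M) + ρ x (h.opB c) + ρ t (ρ x (f : M)), ?_⟩
    rw [comp, comp, comp, ← comp x⁻¹ x, inv_mul_cancel, one_apply, ← h.opA_val, hf]
    simp only [AddSubgroup.coe_add, AddSubmonoidClass.coe_nsmul, map_add, map_nsmul, h1, smul_add]
    abel
  obtain ⟨m, hm⟩ := h2
  -- averaging over the powers of `g`
  have hsum : ∀ i : ℕ, ∃ m : M, ρ (g ^ i) (ρ x c) = ρ x c + 2 • m := by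
    intro i
    induction i with
    | zero => exact ⟨0, by simp [one_apply]⟩
    | succ i ih =>
      obtain ⟨m', hm'⟩ := ih
      refine ⟨m + ρ g m', ?_⟩
      rw [pow_succ', comp, hm', map_add, hm, map_nsmul, smul_add, add_assoc]
  set S := ∑ i ∈ Finset.range (orderOf g), ρ (g ^ i) (ρ x c) with hS
  have hS0 : S = 0 := by
    refine h.fpf g h.odd' h.ne S ?_
    rw [hS, map_sum]
    have h3 : ∀ i, ρ g (ρ (g ^ i) (ρ x c)) = ρ (g ^ (i + 1)) (ρ x c) := fun i => by
      rw [← comp, pow_succ']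
    simp only [h3]
    have h4 := Finset.sum_range_succ' (fun i => ρ (g ^ i) (ρ x c)) (orderOf g)
    have h5 := Finset.sum_range_succ (fun i => ρ (g ^ i) (ρ x c)) (orderOf g)
    rw [h4, pow_orderOf_eq_one, pow_zero] at h5
    exact add_right_cancel h5
  choose ms hms using hsum
  have h6 : S = orderOf g • ρ x c + 2 • ∑ i ∈ Finset.range (orderOf g), ms i := by
    rw [hS, Finset.sum_congr rfl fun i _ => hms i, Finset.sum_add_distrib, Finset.sum_const,
      Finset.card_range, Finset.smul_sum]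
  rw [hS0] at h6
  obtain ⟨k, hk⟩ := h.odd'
  rw [hk, add_nsmul, one_nsmul, mul_nsmul] at h6
  have h7 : (c : M) = 2 • ρ x⁻¹ (-(k • ρ x c) - ∑ i ∈ Finset.range (2 * k + 1), ms i) := by
    have h8 : ρ x c = 2 • (-(k • ρ x c) - ∑ i ∈ Finset.range (2 * k + 1), ms i) := by
      rw [smul_sub, smul_neg, ← sub_eq_zero]
      refine Eq.trans ?_ h6.symm
      rw [← mul_nsmul, mul_comm k 2, mul_nsmul]
      abel
    rw [← map_nsmul, ← h8, ← comp, inv_mul_cancel, one_apply]
  exact h.mem_range_two h7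

end

end Tri

/-- The exponent is 2. -/
theorem two_nsmul_eq_zero [Finite Q] [Finite M] {ρ : Q →* AddMonoid.End M} {s t x : Q}
    (h : Tri ρ s t x) (h' : Tri ρ s (s * t) x) : ∀ v : M, 2 • v = 0 := by
  set C := Tri.fixS ρ s
  -- the data of `s t`
  have hA' : h'.opA = h.opA := AddMonoidHom.ext fun c => Subtype.ext (by
    show ρ (s * t) (c : M) = ρ t c
    rw [Tri.comp, h.st_apply, show ρ s (c : M) = c from c.2])
  have hB' : h'.opB = h.opB - h.opD := AddMonoidHom.ext fun c => by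
    refine (h'.eq_decomp (a := h.opB c - h.opD c) (b := -(h.opD c)) ?_).1
    show ρ (s * t) (ρ x c) = _
    rw [Tri.comp, h.t_x, map_add, h.sx_apply, show ρ s (h.opB c : M) = h.opB c from (h.opB c).2,
      show ρ s (h.opD c : M) = h.opD c from (h.opD c).2, h.xx_apply, AddSubgroup.coe_sub,
      AddSubgroup.coe_neg, map_neg]
    abel
  have hB'red : red h'.opB = red h.opB + red h.opA := by
    rw [hB', map_sub, h.red_opD, sub_eq_iff_eq_add, add_assoc, red_double, add_zero]
  -- a common exponent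
  obtain ⟨N, hN1, hN, hN'⟩ : ∃ N, 1 ≤ N ∧ (x * t) ^ 2 ^ N = x * t ∧
      (x * (s * t)) ^ 2 ^ N = x * (s * t) := by
    refine ⟨(orderOf (x * t)).totient * (orderOf (x * (s * t))).totient,
      Nat.one_le_iff_ne_zero.2 (mul_ne_zero (Nat.totient_pos.2 (orderOf_pos _)).ne'
        (Nat.totient_pos.2 (orderOf_pos _)).ne'), ?_, ?_⟩
    · conv_rhs => rw [← pow_one (x * t)]
      rw [pow_eq_pow_iff_modEq, pow_mul, ← one_pow (orderOf (x * (s * t))).totient]
      exact (Nat.ModEq.pow_totient (Nat.coprime_two_left.2 h.odd)).pow _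
    · conv_rhs => rw [← pow_one (x * (s * t))]
      rw [pow_eq_pow_iff_modEq, mul_comm, pow_mul, ← one_pow (orderOf (x * t)).totient]
      exact (Nat.ModEq.pow_totient (Nat.coprime_two_left.2 h'.odd)).pow _
  set K := 2 ^ N with hK
  obtain ⟨L, hL⟩ : ∃ L, K = 2 * L := ⟨2 ^ (N - 1), by rw [hK, ← pow_succ']; congr 1; omega⟩
  have hP := h.red_sum_pow hN
  have hP' := h'.red_sum_pow hN'
  rw [hA', hB'red] at hP'
  have hAsq : red h.opA * red h.opA = 1 := by rw [← map_mul, h.opA_sq, map_one]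
  have hBK : red h.opB ^ K = red h.opB := by
    have e : red h.opA + (red h.opB + red h.opA) = red h.opB := by
      rw [add_left_comm, red_double, add_zero]
    rw [e] at hP'
    exact hP'
  have hA1 : red h.opA = 1 := by
    rw [add_pow_two_pow red_double h.red_comm N, ← hK, hBK] at hP
    have h1 : red h.opA ^ K = 1 := by rw [hL, pow_mul, pow_two, hAsq, one_pow]
    rw [h1] at hP
    exact (add_right_cancel hP).symm
  -- injectivity
  have hinj : ∀ (f : AddMonoid.End ↥C), (∀ c : ↥C, red f (c : ModTwo ↥C) = 0 → c ∈ (twoMap ↥C).range) →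
      Function.Bijective (red f) := by
    intro f hf
    refine Finite.injective_iff_bijective.1 ((injective_iff_map_eq_zero _).2 fun q => ?_)
    induction q using QuotientAddGroup.induction_on with
    | _ c => exact fun e => (QuotientAddGroup.eq_zero_iff c).2 (hf c e)
  have hBbij := hinj h.opB fun c => h.opB_inj hA1
  have hB'bij := hinj h'.opB fun c => h'.opB_inj (by rw [hA', hA1])
  have hBm : red h.opB ^ (2 * L - 1) = 1 := by
    refine AddMonoidHom.ext fun q => ?_
    obtain ⟨q', rfl⟩ := hBbij.2 q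
    show (red h.opB ^ (2 * L - 1)) (red h.opB q') = red h.opB q'
    conv_rhs => rw [← hBK, hL]
    have hL1 : 1 ≤ L := by have := Nat.two_pow_pos N; omega
    rw [show 2 * L = (2 * L - 1) + 1 by omega, pow_succ]
    rfl
  -- the ideal of maps into `2 C`
  set α : AddMonoid.End ↥C := h.opA - 1 with hα
  have hαI : ∀ c, ∃ d, α c = 2 • d := fun c => by
    have h1 : red α (c : ModTwo ↥C) = 0 := by rw [hα, map_sub, map_one, hA1, sub_self]; rfl
    rw [red_mk, QuotientAddGroup.eq_zero_iff] at h1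
    exact mem_two.1 h1
  have four : ∀ c : ↥C, 4 • c = 0 := fun c => Subtype.ext (h.four (c : M))
  have h2α : α + α = 0 := AddMonoidHom.ext fun c => by
    obtain ⟨d, hd⟩ := hαI c
    show α c + α c = 0
    rw [hd, ← add_nsmul]
    exact four d
  set B := h.opB with hBdef
  set X : AddMonoid.End ↥C := 2 • B + 2 • (B * B) with hX
  have hrel : X = α * B - B * α := by
    have h1 := h.rel
    rw [h.opD_eq, show h.opA = 1 + α by rw [hα]; abel] at h1
    simp only [add_mul, one_mul, mul_add, mul_one, mul_smul_comm, ← hBdef] at h1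
    have h4 : -(α * B) = α * B := neg_eq_of_add_eq_zero_left (by rw [← add_mul, h2α, zero_mul])
    have h5 : X + (α * B + B * α) = 0 := by
      rw [hX, two_nsmul B, ← h1]
      abel
    rw [eq_neg_of_add_eq_zero_left h5, neg_add, h4, ← sub_eq_add_neg]
  have hcomm : Commute B X :=
    ((Commute.refl B).smul_right 2).add_right (((Commute.refl B).mul_right (Commute.refl B)).smul_right 2)
  have htel : ∀ i : ℕ, α * B ^ (i + 1) - B ^ (i + 1) * α = (i + 1) • (B ^ i * X) := by
    intro i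
    induction i with
    | zero => rw [zero_add, pow_one, pow_zero, one_mul, one_nsmul, hrel]
    | succ i ih =>
      have key : ∀ a b P : AddMonoid.End ↥C,
          a * (P * b) - P * b * a = (a * P - P * a) * b + P * (a * b - b * a) := by
        intro a b P
        rw [sub_mul, mul_sub]
        simp only [mul_assoc]
        abel
      have e : α * B ^ (i + 1 + 1) - B ^ (i + 1 + 1) * α =
          (α * B ^ (i + 1) - B ^ (i + 1) * α) * B + B ^ (i + 1) * (α * B - B * α) := by
        rw [pow_succ B (i + 1)]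
        exact key α B _
      rw [e, ih, ← hrel, smul_mul_assoc, mul_assoc (B ^ i), ← hcomm.eq, ← mul_assoc, ← pow_succ,
        ← succ_nsmul]
  have hbim : ∀ f g g' : AddMonoid.End ↥C, (∀ c, ∃ d, f c = 2 • d) → red g = red g' →
      f * g = f * g' ∧ g * f = g' * f := by
    intro f g g' hf hg
    have hdiff : ∀ c, ∃ d, g c = g' c + 2 • d := fun c => by
      have h1 := DFunLike.congr_fun hg (c : ModTwo ↥C)
      rw [red_mk, red_mk] at h1
      obtain ⟨d, hd⟩ := mem_two.1 (QuotientAddGroup.eq.1 h1.symm)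
      exact ⟨d, by rw [← hd]; abel⟩
    refine ⟨AddMonoidHom.ext fun c => ?_, AddMonoidHom.ext fun c => ?_⟩
    · obtain ⟨d, hd⟩ := hdiff c
      obtain ⟨e, he⟩ := hf d
      show f (g c) = f (g' c)
      rw [hd, map_add, map_nsmul, he, ← mul_nsmul, four, add_zero]
    · obtain ⟨e, he⟩ := hf c
      obtain ⟨d, hd⟩ := hdiff e
      show g (f c) = g' (f c)
      rw [he, map_nsmul, map_nsmul, hd, smul_add, ← mul_nsmul, four, add_zero]
  have hL1 : 1 ≤ L := by have := Nat.two_pow_pos N; omega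
  obtain ⟨i, hi⟩ : ∃ i, 2 * L - 1 = i + 1 := ⟨2 * L - 2, by omega⟩
  have hXI : ∀ c, ∃ d, X c = 2 • d := fun c => ⟨B c + B (B c), by
    rw [smul_add]; rfl⟩
  have h2X : X + X = 0 := AddMonoidHom.ext fun c => by
    obtain ⟨d, hd⟩ := hXI c
    show X c + X c = 0
    rw [hd, ← add_nsmul]
    exact four d
  have hred1 : red (B ^ (i + 1)) = red (1 : AddMonoid.End ↥C) := by
    rw [map_pow, map_one, ← hi, hBm]
  have hX0 : X = 0 := by
    have h1 := htel i
    obtain ⟨e1, e2⟩ := hbim α (B ^ (i + 1)) 1 hαI hred1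
    rw [e1, e2, mul_one, one_mul, sub_self] at h1
    have h2 : B ^ i * X = 0 := by
      obtain ⟨l, hl⟩ : ∃ l, i + 1 = 2 * l + 1 := ⟨L - 1, by omega⟩
      rw [hl, add_nsmul, mul_nsmul, one_nsmul, two_nsmul (B ^ i * X), ← mul_add, h2X, mul_zero,
        nsmul_zero, zero_add] at h1
      exact h1.symm
    obtain ⟨-, e4⟩ := hbim X (B ^ (i + 1)) 1 hXI hred1
    rw [one_mul] at e4
    rw [← e4, pow_succ', mul_assoc, h2, mul_zero]
  -- conclusion
  have h2C : ∀ c : ↥C, 2 • c = 0 := by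
    intro c
    obtain ⟨q, hq⟩ := hBbij.2 (c : ModTwo ↥C)
    obtain ⟨q', hq'⟩ := hB'bij.2 q
    rw [hB'red, hA1] at hq'
    induction q' using QuotientAddGroup.induction_on with
    | _ c' =>
      rw [← hq'] at hq
      have h1 : (((B (B c' + c')) : ↥C) : ModTwo ↥C) = (c : ModTwo ↥C) := hq
      obtain ⟨d, hd⟩ := mem_two.1 (QuotientAddGroup.eq.1 h1)
      have h2 : X c' = 2 • B (B c' + c') := by
        rw [map_add, smul_add, add_comm]; rfl
      rw [hX0] at h2
      have h3 : c = B (B c' + c') + 2 • d := by rw [← hd]; abel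
      rw [h3, smul_add, ← h2, ← mul_nsmul, four, add_zero]
      rfl
  intro v
  rw [← h.decomp v, smul_add, ← map_nsmul]
  have e1 : 2 • (h.projA v : M) = 0 := congrArg Subtype.val (h2C (h.projA v))
  have e2 : 2 • (h.projB v : M) = 0 := congrArg Subtype.val (h2C (h.projB v))
  rw [e1, e2, map_zero, add_zero]

end CfsgLib.CIT.ExpTwo
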