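import Mathlib
import Cfsg.Agent.Lib.CIT.Reduce
import Cfsg.Agent.Lib.CIT.ExponentTwo

/-!
# The abelian core has exponent 2 when the quotient is `PSL₂(2ⁿ)`
-/

set_option autoImplicit false
set_option linter.style.haveILetI false

namespace CfsgLib.CIT.CoreExp

open Subgroup Matrix Matrix.SpecialLinearGroup
open scoped MatrixGroups

universe u

variable {F : Type} [Field F]

/-- In characteristic 2, an element of nonzero trace has odd order. -/
theorem odd_orderOf_sl [CharP F 2] [Finite F] (g : SL(2, F)) (hg : g.1 0 0 + g.1 1 1 ≠ 0) :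
    Odd (orderOf g) := by
  rw [← Nat.not_even_iff_odd]
  rintro ⟨k, hk⟩
  have hpos := orderOf_pos g
  set h := g ^ k with hh
  have h2 : h * h = 1 := by rw [hh, ← pow_add, ← hk]; exact pow_orderOf_eq_one g
  have hne : h ≠ 1 := fun e => by
    have := Nat.le_of_dvd (by omega) (orderOf_dvd_of_pow_eq_one e)
    omega
  have hc : g * h = h * g := by rw [hh]; exact (Commute.self_pow g k).eq
  have hinv : h⁻¹ = h := inv_eq_of_mul_eq_one_right h2
  have e := congrArg Subtype.val hinv
  rw [Matrix.SpecialLinearGroup.coe_inv, Matrix.adjugate_fin_two] at e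
  have e00 : h.1 1 1 = h.1 0 0 := by simpa using congrFun (congrFun e 0) 0
  have c01 : (g * h).1 0 1 = (h * g).1 0 1 := by rw [hc]
  have c10 : (g * h).1 1 0 = (h * g).1 1 0 := by rw [hc]
  simp only [Matrix.SpecialLinearGroup.coe_mul, Matrix.mul_apply, Fin.sum_univ_two, e00] at c01 c10
  have q01 : h.1 0 1 = 0 := by
    have : (g.1 0 0 + g.1 1 1) * h.1 0 1 = 0 := by
      linear_combination c01 + h.1 0 1 * g.1 1 1 * (CharTwo.two_eq_zero : (2 : F) = 0)
    exact (mul_eq_zero.1 this).resolve_left hg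
  have q10 : h.1 1 0 = 0 := by
    have : (g.1 0 0 + g.1 1 1) * h.1 1 0 = 0 := by
      linear_combination c10.symm + h.1 1 0 * g.1 1 1 * (CharTwo.two_eq_zero : (2 : F) = 0)
    exact (mul_eq_zero.1 this).resolve_left hg
  have d := h.2
  rw [Matrix.det_fin_two, e00, q01, zero_mul, sub_zero] at d
  have d1 : h.1 0 0 = 1 := by
    have : (h.1 0 0 - 1) * (h.1 0 0 - 1) = 0 := by
      linear_combination d + (1 - h.1 0 0) * (CharTwo.two_eq_zero : (2 : F) = 0)
    exact sub_eq_zero.1 (mul_self_eq_zero.1 this)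
  refine hne ?_
  ext i j
  fin_cases i <;> fin_cases j <;> simp [q01, q10, d1, e00]

/-- The unipotent element. -/
def upp (a : F) : SL(2, F) := ⟨!![1, a; 0, 1], by simp [Matrix.det_fin_two]⟩

/-- An element of order 3. -/
def rot [CharP F 2] : SL(2, F) :=
  ⟨!![0, 1; 1, 1], by simp [Matrix.det_fin_two, CharTwo.neg_eq]⟩

theorem upp_coe (a : F) : (upp a).1 = !![1, a; 0, 1] := rfl

theorem rot_coe [CharP F 2] : (rot (F := F)).1 = !![0, 1; 1, 1] := rfl

theorem upp_mul (a b : F) : upp a * upp b = upp (a + b) := by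
  ext i j
  fin_cases i <;> fin_cases j <;>
    simp [Matrix.SpecialLinearGroup.coe_mul, upp_coe, Matrix.mul_apply, Fin.sum_univ_two, add_comm]

theorem upp_zero : upp (0 : F) = 1 := by
  ext i j; fin_cases i <;> fin_cases j <;> simp [upp_coe]

theorem rot_cube [CharP F 2] : rot (F := F) * rot * rot = 1 := by
  ext i j
  fin_cases i <;> fin_cases j <;>
    simp [Matrix.SpecialLinearGroup.coe_mul, rot_coe, Matrix.mul_apply, Fin.sum_univ_two,
      CharTwo.add_self_eq_zero]

theorem upp_rot [CharP F 2] : upp (1 : F) * rot = rot * rot * upp 1 := by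
  ext i j
  fin_cases i <;> fin_cases j <;>
    simp [Matrix.SpecialLinearGroup.coe_mul, rot_coe, upp_coe, Matrix.mul_apply, Fin.sum_univ_two,
      CharTwo.add_self_eq_zero]

theorem rot_ne_one [CharP F 2] : rot (F := F) ≠ 1 := fun e => by
  have h := congrArg (fun g : SL(2, F) => g.1 0 0) e
  simp [rot_coe] at h

/-- The data of `Tri` in `SL₂(F)`. -/
theorem tri_sl [CharP F 2] [Finite F] {a : F} (h0 : a ≠ 0) (h1 : a ≠ 1) :
    Odd (orderOf (rot * upp a)) ∧ Odd (orderOf (upp a * (rot * upp a * rot⁻¹))) ∧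
      upp a * (rot * upp a * rot⁻¹) ≠ 1 := by
  have hinv : (rot (F := F))⁻¹ = rot * rot := inv_eq_of_mul_eq_one_right (by
    rw [← mul_assoc, rot_cube])
  have hw : (upp a * (rot * upp a * rot⁻¹)).1 0 0 + (upp a * (rot * upp a * rot⁻¹)).1 1 1 = a * a := by
    rw [hinv]
    simp [Matrix.SpecialLinearGroup.coe_mul, rot_coe, upp_coe, Matrix.mul_apply, Fin.sum_univ_two]
    linear_combination (2 + 2 * a + 0 * a) * (CharTwo.two_eq_zero : (2 : F) = 0)
  refine ⟨odd_orderOf_sl _ ?_, odd_orderOf_sl _ (by rw [hw]; exact mul_ne_zero h0 h0), fun e => ?_⟩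
  · simp [Matrix.SpecialLinearGroup.coe_mul, rot_coe, upp_coe, Matrix.mul_apply, Fin.sum_univ_two]
    intro h
    exact h1 (CharTwo.add_eq_zero.1 h)
  · rw [e] at hw
    simp at hw
    have : a * a = 0 := by
      linear_combination -hw + (CharTwo.two_eq_zero : (2 : F) = 0)
    exact mul_ne_zero h0 h0 this

variable {G : Type u} [Group G] [Finite G]

/-- The abelian core has exponent 2. -/
theorem sq_eq_one (hG : IsCIT G) (hab : IsMulCommutative ↥(Cfsg.pCore 2 G)) [Fintype F] [CharP F 2]
    (hF : 4 ≤ Fintype.card F)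
    (e : G ⧸ Cfsg.pCore 2 G ≃* Matrix.ProjectiveSpecialLinearGroup (Fin 2) F) :
    ∀ x ∈ Cfsg.pCore 2 G, x * x = 1 := by
  classical
  haveI : Fact (Nat.Prime 2) := ⟨Nat.prime_two⟩
  set D := Cfsg.pCore 2 G with hDdef
  have comm : ∀ {p q : G}, p ∈ D → q ∈ D → Commute p q := fun {p q} hp hq =>
    congrArg Subtype.val (mul_comm' (⟨p, hp⟩ : ↥D) ⟨q, hq⟩)
  let N : Subgroup G :=
    { carrier := {x | x ∈ D ∧ x ^ 4 = 1}
      one_mem' := ⟨one_mem _, one_pow 4⟩
      mul_mem' := fun {p q} hp hq => ⟨mul_mem hp.1 hq.1, by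
        rw [(comm hp.1 hq.1).mul_pow, hp.2, hq.2, one_mul]⟩
      inv_mem' := fun {p} hp => ⟨inv_mem hp.1, by rw [inv_pow, hp.2, inv_one]⟩ }
  suffices key : ∀ x ∈ N, x * x = 1 by
    intro x hx
    obtain ⟨k, hk⟩ := isTwo_of_mem CfsgLib.PCore.pCore_isPGroup hx
    have step : ∀ j : ℕ, x ^ 2 ^ (j + 2) = 1 → x ^ 2 ^ (j + 1) = 1 := fun j hj => by
      have := key (x ^ 2 ^ j) ⟨pow_mem hx _, by rw [← pow_mul, ← hj]; ring_nf⟩
      rw [← pow_add] at this
      rw [pow_succ, mul_two]
      exact this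
    have : ∀ j : ℕ, x ^ 2 ^ (j + 1) = 1 → x ^ 2 ^ 1 = 1 := fun j => by
      induction j with
      | zero => exact id
      | succ j ih => exact fun h => ih (step j h)
    have h2 := this k (by rw [pow_succ, pow_mul, hk, one_pow])
    rwa [pow_one, pow_two] at h2
  haveI hN : N.Normal := ⟨fun p hp g => ⟨(inferInstance : D.Normal).conj_mem p hp.1 g, by
    rw [conj_pow, hp.2, mul_one, mul_inv_cancel]⟩⟩
  haveI : IsMulCommutative ↥N := ⟨⟨fun p q => Subtype.ext (comm p.2.1 q.2.1)⟩⟩
  letI : CommGroup ↥N := { (inferInstance : Group ↥N) with mul_comm := mul_comm' }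
  let ρ₀ : G →* AddMonoid.End (Additive ↥N) :=
    { toFun := fun g => MonoidHom.toAdditive ((MulAut.conjNormal (H := N) g).toMonoidHom)
      map_one' := AddMonoidHom.ext fun v => by
        refine Additive.toMul.injective (Subtype.ext ?_)
        show (1 : G) * ((Additive.toMul v : ↥N) : G) * (1 : G)⁻¹ = ((Additive.toMul v : ↥N) : G)
        group
      map_mul' := fun g k => AddMonoidHom.ext fun v => by
        refine Additive.toMul.injective (Subtype.ext ?_)
        show g * k * ((Additive.toMul v : ↥N) : G) * (g * k)⁻¹ = g * (k * ((Additive.toMul v : ↥N) : G) * k⁻¹) * g⁻¹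
        group }
  have hker : D ≤ ρ₀.ker := fun d hd => by
    refine MonoidHom.mem_ker.2 (AddMonoidHom.ext fun v => ?_)
    refine Additive.toMul.injective (Subtype.ext ?_)
    show d * ((Additive.toMul v : ↥N) : G) * d⁻¹ = ((Additive.toMul v : ↥N) : G)
    rw [(comm hd (Additive.toMul v).2.1).eq, mul_inv_cancel_right]
  let ρ : G ⧸ D →* AddMonoid.End (Additive ↥N) := QuotientGroup.lift D ρ₀ hker
  let π : SL(2, F) →* G ⧸ D := e.symm.toMonoidHom.comp
    (QuotientGroup.mk' (Subgroup.center SL(2, F)))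
  have hπ : Function.Injective π := by
    refine e.symm.injective.comp ?_
    rw [← MonoidHom.ker_eq_bot_iff, QuotientGroup.ker_mk']
    rw [eq_bot_iff]
    intro g hg
    rw [Subgroup.mem_bot]
    obtain ⟨r, hr, hrg⟩ := Matrix.SpecialLinearGroup.mem_center_iff.1 hg
    have hr1 : r = 1 := by
      have : (r - 1) * (r - 1) = 0 := by
        rw [Fintype.card_fin] at hr
        linear_combination hr + (1 - r) * (CharTwo.two_eq_zero : (2 : F) = 0)
      exact sub_eq_zero.1 (mul_self_eq_zero.1 this)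
    ext i j
    rw [← hrg, hr1]
    simp [Matrix.scalar_apply, Matrix.one_apply, Matrix.diagonal_apply]
  have htri : ∀ a : F, a ≠ 0 → a ≠ 1 → ExpTwo.Tri ρ (π (upp 1)) (π (upp a)) (π rot) := by
    intro a h0 h1
    obtain ⟨o1, o2, o3⟩ := tri_sl h0 h1
    refine
      { four := fun v => ?_
        fpf := ?_
        hs := by rw [← map_mul, upp_mul, CharTwo.add_self_eq_zero, upp_zero, map_one]
        ht := by rw [← map_mul, upp_mul, CharTwo.add_self_eq_zero, upp_zero, map_one]
        comm := by rw [← map_mul, ← map_mul, upp_mul, upp_mul, add_comm]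
        hx := by rw [← map_mul, ← map_mul, rot_cube, map_one]
        hx1 := fun h => rot_ne_one (hπ (h.trans (map_one π).symm))
        inv := by rw [← map_mul, upp_rot, map_mul, map_mul]
        odd := by rw [← map_mul, orderOf_injective π hπ]; exact o1
        odd' := by rw [← map_inv, ← map_mul, ← map_mul, ← map_mul, orderOf_injective π hπ]; exact o2
        ne := fun h => o3 (hπ (by rw [map_mul, map_mul, map_mul, map_inv, map_one]; exact h)) }
    · refine Additive.toMul.injective (Subtype.ext ?_)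
      show ((Additive.toMul v : ↥N) : G) ^ 4 = 1
      exact (Additive.toMul v).2.2
    · intro q hq hq1 v hv
      obtain ⟨g, rfl⟩ := QuotientGroup.mk'_surjective D q
      by_contra hv0
      refine hq1 (eq_one_of_isTwo_of_odd ?_ hq)
      have h1 : g * ((Additive.toMul v : ↥N) : G) * g⁻¹ = ((Additive.toMul v : ↥N) : G) :=
        congrArg (fun w => ((Additive.toMul w : ↥N) : G)) hv
      have hne : ((Additive.toMul v : ↥N) : G) ≠ 1 := fun h =>
        hv0 (Additive.toMul.injective (Subtype.ext h))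
      obtain ⟨k, hk⟩ := isTwo_of_mem (hG.centralizer_two
        (isTwo_of_mem CfsgLib.PCore.pCore_isPGroup (Additive.toMul v).2.1) hne)
        (mem_centralizer_singleton_iff.2 (mul_inv_eq_iff_eq_mul.1 h1))
      exact ⟨k, by rw [← map_pow, hk, map_one]⟩
  obtain ⟨a, ha⟩ : ∃ a : F, a ∉ ({0, 1} : Finset F) := by
    by_contra hcon
    push Not at hcon
    have := Finset.card_le_card (fun x _ => hcon x : (Finset.univ : Finset F) ⊆ {0, 1})
    have h2 : ({0, 1} : Finset F).card ≤ 2 := Finset.card_le_two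
    rw [Finset.card_univ] at this
    omega
  simp only [Finset.mem_insert, Finset.mem_singleton, not_or] at ha
  have h' := htri (1 + a) (fun h => ha.2 (CharTwo.add_eq_zero.1 h).symm)
    (fun h => ha.1 (by simpa using h))
  rw [← upp_mul, map_mul] at h'
  have key := ExpTwo.two_nsmul_eq_zero (htri a ha.1 ha.2) h'
  intro x hx
  have h2 := key (Additive.ofMul (⟨x, hx⟩ : ↥N))
  have h3 : ((Additive.toMul (2 • Additive.ofMul (⟨x, hx⟩ : ↥N)) : ↥N) : G) = 1 := by rw [h2]; rfl
  rw [toMul_nsmul, toMul_ofMul, SubmonoidClass.coe_pow, pow_two] at h3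
  exact h3

end CfsgLib.CIT.CoreExp
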