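import Mathlib
import Cfsg.Agent.Lib.CIT.Reduce
import Cfsg.Agent.Lib.CIT.CoreAbelian

/-!
# The core of a group whose involution centralizers are 2-groups, in terms of modules

Two module hypotheses on the quotient `Q` by `O₂(G)` force `O₂(G)` to be elementary abelian: no nonzero
equivariant alternating pairing between modules in which elements of odd order are fixed-point-free, and
no such module of exponent 4.
-/

set_option autoImplicit false
set_option linter.style.haveILetI false

namespace CfsgLib.CIT.CoreModules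

open Subgroup
open scoped commutatorElement

universe u w

variable {Q : Type w} [Group Q]

/-- Elements of odd order act without fixed points. -/
def FPF {V : Type u} [AddCommGroup V] (ρ : Q →* AddMonoid.End V) : Prop :=
  ∀ g : Q, Odd (orderOf g) → g ≠ 1 → ∀ v : V, ρ g v = v → v = 0

/-- No equivariant alternating pairing on modules of exponent 2. -/
def NoPairing (Q : Type w) [Group Q] : Prop :=
  ∀ (V W : Type u) [AddCommGroup V] [AddCommGroup W] [Finite V] [Finite W],
    (∀ v : V, v + v = 0) → (∀ w : W, w + w = 0) →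
    ∀ (ρ : Q →* AddMonoid.End V) (σ : Q →* AddMonoid.End W), FPF ρ → FPF σ →
    ∀ b : V →+ V →+ W, (∀ v, b v v = 0) → (∀ g x y, b (ρ g x) (ρ g y) = σ g (b x y)) →
      ∀ x y, b x y = 0

/-- No module of exponent 4. -/
def NoFour (Q : Type w) [Group Q] : Prop :=
  ∀ (M : Type u) [AddCommGroup M] [Finite M], (∀ v : M, 4 • v = 0) →
    ∀ ρ : Q →* AddMonoid.End M, FPF ρ → ∀ v : M, 2 • v = 0

variable {G : Type u} [Group G] [Finite G]

/-- An element of odd order acts without fixed points on sections of `O₂(G)`. -/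
theorem fpf_section (hG : IsCIT G) {N : Subgroup G} [N.Normal] (hN : N ≤ Cfsg.pCore 2 G) {g : G}
    (hg : Odd (orderOf g)) (hg1 : g ≠ 1) {x : G} (hx : x ∈ Cfsg.pCore 2 G)
    (h : x⁻¹ * (g * x * g⁻¹) ∈ N) : x ∈ N := by
  have inj : ∀ p ∈ Cfsg.pCore 2 G, ∀ q ∈ Cfsg.pCore 2 G,
      p⁻¹ * (g * p * g⁻¹) = q⁻¹ * (g * q * g⁻¹) → p = q := by
    intro p hp q hq e
    have h1 : g * (p * q⁻¹) * g⁻¹ = p * q⁻¹ := by
      calc g * (p * q⁻¹) * g⁻¹ = p * (p⁻¹ * (g * p * g⁻¹)) * (g * q⁻¹ * g⁻¹) := by group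
        _ = _ := by rw [e]; group
    exact mul_inv_eq_one.1 (Core.fpf_pCore hG hg hg1 _ (mul_mem hp (inv_mem hq))
      (mul_inv_eq_iff_eq_mul.1 h1).symm)
  let f : ↥N → ↥N := fun n => ⟨(n : G)⁻¹ * (g * n * g⁻¹),
    mul_mem (inv_mem n.2) (Normal.conj_mem inferInstance _ n.2 g)⟩
  have hf : Function.Injective f := fun p q e =>
    Subtype.ext (inj _ (hN p.2) _ (hN q.2) (congrArg Subtype.val e))
  obtain ⟨n, hn⟩ := Finite.injective_iff_surjective.1 hf ⟨_, h⟩
  rw [inj x hx n (hN n.2) (congrArg Subtype.val hn).symm]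
  exact n.2

/-- A lift of odd order. -/
theorem exists_odd_lift {π : G →* Q} (hker : π.ker = Cfsg.pCore 2 G) {q : Q}
    (hπ : Function.Surjective π) (hq : Odd (orderOf q)) :
    ∃ g : G, π g = q ∧ Odd (orderOf g) := by
  haveI : Fact (Nat.Prime 2) := ⟨Nat.prime_two⟩
  obtain ⟨g, rfl⟩ := hπ q
  have h1 : g ^ orderOf (π g) ∈ Cfsg.pCore 2 G := by
    rw [← hker, MonoidHom.mem_ker, map_pow, pow_orderOf_eq_one]
  obtain ⟨k, hk⟩ := isTwo_of_mem CfsgLib.PCore.pCore_isPGroup h1
  set o := orderOf (π g) with ho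
  refine ⟨g ^ 2 ^ (k * o.totient), ?_, hq.of_dvd_nat (orderOf_dvd_of_pow_eq_one ?_)⟩
  · have h2 : 2 ^ (k * o.totient) % o = 1 % o := by
      rw [mul_comm, pow_mul, ← one_pow k]
      exact (Nat.ModEq.pow_totient (Nat.coprime_two_left.2 hq)).pow k
    rw [map_pow, ← pow_mod_orderOf, ← ho, h2, ho, pow_mod_orderOf, pow_one]
  · rw [← pow_mul, mul_comm, pow_mul]
    have h3 : 2 ^ (k * o.totient) = 2 ^ k * 2 ^ (k * (o.totient - 1)) := by
      rw [← pow_add]
      congr 1
      have : 0 < o.totient := Nat.totient_pos.2 hq.pos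
      obtain ⟨t, ht⟩ : ∃ t, o.totient = t + 1 := ⟨o.totient - 1, by omega⟩
      rw [ht, Nat.add_sub_cancel]
      ring
    rw [h3, pow_mul, hk, one_pow]

/-- Factoring through a surjection. -/
theorem descend {H M : Type*} [Group H] [Monoid M] {π : H →* Q} (hπ : Function.Surjective π)
    (a : H →* M) (h : ∀ x, π x = 1 → a x = 1) : ∃ ρ : Q →* M, ∀ g, ρ (π g) = a g := by
  choose r hr using hπ
  have key : ∀ g, a (r (π g)) = a g := fun g => by
    have h1 := h (g⁻¹ * r (π g)) (by rw [map_mul, map_inv, hr, inv_mul_cancel])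
    calc a (r (π g)) = a (g * (g⁻¹ * r (π g))) := by rw [mul_inv_cancel_left]
      _ = a g := by rw [map_mul, h1, mul_one]
  refine ⟨{ toFun := fun q => a (r q), map_one' := ?_, map_mul' := fun p q => ?_ }, key⟩
  · rw [← map_one π, key, map_one]
  · show a (r (p * q)) = a (r p) * a (r q)
    rw [← map_mul, ← key (r p * r q), map_mul π, hr, hr]

/-- The pairing of a group of class 2. -/
theorem comm_of_class_two (hG : IsCIT G) {π : G →* Q} (hπ : Function.Surjective π)
    (hker : π.ker = Cfsg.pCore 2 G) (hP : NoPairing.{u} Q)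
    (hcl : ∀ a ∈ Cfsg.pCore 2 G, ∀ b ∈ Cfsg.pCore 2 G, ∀ c ∈ Cfsg.pCore 2 G, Commute ⁅a, b⁆ c)
    (hsq : ∀ x ∈ ⁅Cfsg.pCore 2 G, Cfsg.pCore 2 G⁆, x * x = 1) :
    ∀ a ∈ Cfsg.pCore 2 G, ∀ b ∈ Cfsg.pCore 2 G, Commute a b := by
  classical
  set D := Cfsg.pCore 2 G with hDdef
  set D' := ⁅D, D⁆ with hD'
  haveI : D'.Normal := Subgroup.commutator_normal D D
  have hD'D : D' ≤ D := Subgroup.commutator_le_self D
  set Z := D ⊓ centralizer (D : Set G) with hZ
  haveI : Z.Normal := inferInstance
  have hD'Z : D' ≤ Z := by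
    rw [hD', Subgroup.commutator_le]
    exact fun a ha b hb => ⟨hD'D (Subgroup.commutator_mem_commutator ha hb),
      mem_centralizer_iff.2 fun c hc => (hcl a ha b hb c hc).eq.symm⟩
  haveI : IsMulCommutative ↥D' := ⟨⟨fun p q => Subtype.ext
    (mem_centralizer_iff.1 (hD'Z q.2).2 p (hD'D p.2))⟩⟩
  letI : CommGroup ↥D' := { (inferInstance : Group ↥D') with mul_comm := mul_comm' }
  set ZD := Z.subgroupOf D with hZD
  letI : CommGroup (↥D ⧸ ZD) :=
    { (inferInstance : Group (↥D ⧸ ZD)) with
      mul_comm := fun p q => by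
        induction p using QuotientGroup.induction_on with
        | _ a =>
        induction q using QuotientGroup.induction_on with
        | _ b =>
        rw [← QuotientGroup.mk_mul, ← QuotientGroup.mk_mul, QuotientGroup.eq, mem_subgroupOf]
        refine hD'Z ?_
        have h := Subgroup.commutator_mem_commutator (inv_mem b.2) (inv_mem a.2)
        rw [commutatorElement_def] at h
        simpa [mul_assoc] using h }
  -- the pairing
  let c : ↥D →* ↥D →* ↥D' :=
    { toFun := fun a =>
        { toFun := fun b => ⟨⁅(a : G), (b : G)⁆, Subgroup.commutator_mem_commutator a.2 b.2⟩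
          map_one' := Subtype.ext (commutatorElement_one_right _)
          map_mul' := fun p q => Subtype.ext (Core.comm_mul_right hcl a.2 p.2 q.2) }
      map_one' := MonoidHom.ext fun b => Subtype.ext (commutatorElement_one_left _)
      map_mul' := fun p q => MonoidHom.ext fun b => Subtype.ext (Core.comm_mul_left hcl p.2 q.2 b.2) }
  have hc : ∀ z : ↥D, z ∈ ZD → ∀ b : ↥D, c z b = 1 ∧ c b z = 1 := fun z hz b =>
    ⟨Subtype.ext (commutatorElement_eq_one_iff_commute.2
        (mem_centralizer_iff.1 (mem_subgroupOf.1 hz).2 b b.2).symm),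
      Subtype.ext (commutatorElement_eq_one_iff_commute.2
        (mem_centralizer_iff.1 (mem_subgroupOf.1 hz).2 b b.2))⟩
  let c₁ : ↥D →* (↥D ⧸ ZD) →* ↥D' :=
    { toFun := fun a => QuotientGroup.lift ZD (c a) (fun z hz => (hc z hz a).2)
      map_one' := by
        refine MonoidHom.ext fun q => ?_
        induction q using QuotientGroup.induction_on with
        | _ b => exact DFunLike.congr_fun (map_one c) b
      map_mul' := fun p q => by
        refine MonoidHom.ext fun r => ?_
        induction r using QuotientGroup.induction_on with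
        | _ b => exact DFunLike.congr_fun (map_mul c p q) b }
  let B : (↥D ⧸ ZD) →* (↥D ⧸ ZD) →* ↥D' := QuotientGroup.lift ZD c₁ fun z hz => by
    refine MonoidHom.ext fun q => ?_
    induction q using QuotientGroup.induction_on with
    | _ b => exact (hc z hz b).1
  let b : Additive (↥D ⧸ ZD) →+ Additive (↥D ⧸ ZD) →+ Additive ↥D' :=
    AddMonoidHom.mk' (fun x => MonoidHom.toAdditive (B (Additive.toMul x))) fun p q =>
      AddMonoidHom.ext fun r => by
        show Additive.ofMul (B (Additive.toMul (p + q)) (Additive.toMul r)) = _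
        rw [toMul_add, map_mul]
        rfl
  -- the actions
  have hconj : ∀ (g : G) (d : ↥D), g * (d : G) * g⁻¹ ∈ D := fun g d =>
    Normal.conj_mem inferInstance _ d.2 g
  let aV : G →* AddMonoid.End (Additive (↥D ⧸ ZD)) :=
    { toFun := fun g => MonoidHom.toAdditive (QuotientGroup.map ZD ZD
        (MulAut.conjNormal (H := D) g).toMonoidHom fun z hz =>
          show MulAut.conjNormal g z ∈ ZD from mem_subgroupOf.2 (Normal.conj_mem (inferInstance : Z.Normal) _ (mem_subgroupOf.1 hz) g))
      map_one' := AddMonoidHom.ext fun v => by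
        induction v using Additive.rec with
        | _ q =>
        induction q using QuotientGroup.induction_on with
        | _ d =>
        exact congrArg (fun x : ↥D => Additive.ofMul (x : ↥D ⧸ ZD))
          (Subtype.ext (show (1 : G) * (d : G) * (1 : G)⁻¹ = d by group))
      map_mul' := fun g k => AddMonoidHom.ext fun v => by
        induction v using Additive.rec with
        | _ q =>
        induction q using QuotientGroup.induction_on with
        | _ d =>
        exact congrArg (fun x : ↥D => Additive.ofMul (x : ↥D ⧸ ZD))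
          (Subtype.ext (show g * k * (d : G) * (g * k)⁻¹ = g * (k * d * k⁻¹) * g⁻¹ by group)) }
  let aW : G →* AddMonoid.End (Additive ↥D') :=
    { toFun := fun g => MonoidHom.toAdditive (MulAut.conjNormal (H := D') g).toMonoidHom
      map_one' := AddMonoidHom.ext fun v => by
        refine Additive.toMul.injective (Subtype.ext ?_)
        show (1 : G) * ((Additive.toMul v : ↥D') : G) * (1 : G)⁻¹ = _
        group; rfl
      map_mul' := fun g k => AddMonoidHom.ext fun v => by
        refine Additive.toMul.injective (Subtype.ext ?_)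
        show g * k * ((Additive.toMul v : ↥D') : G) * (g * k)⁻¹ =
          g * (k * ((Additive.toMul v : ↥D') : G) * k⁻¹) * g⁻¹
        group }
  have hkV : ∀ x, π x = 1 → aV x = 1 := by
    intro x hx
    replace hx : x ∈ D := hker ▸ MonoidHom.mem_ker.2 hx
    refine AddMonoidHom.ext fun v => ?_
    induction v using Additive.rec with
    | _ q =>
    induction q using QuotientGroup.induction_on with
    | _ d =>
    refine congrArg Additive.ofMul ((QuotientGroup.eq).2 (mem_subgroupOf.2 (hD'Z ?_)))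
    show (x * (d : G) * x⁻¹)⁻¹ * (d : G) ∈ D'
    have h := Subgroup.commutator_mem_commutator hx (inv_mem d.2)
    rw [commutatorElement_def] at h
    simpa [mul_assoc] using h
  have hkW : ∀ x, π x = 1 → aW x = 1 := by
    intro x hx
    replace hx : x ∈ D := hker ▸ MonoidHom.mem_ker.2 hx
    refine AddMonoidHom.ext fun v => Additive.toMul.injective (Subtype.ext ?_)
    show x * ((Additive.toMul v : ↥D') : G) * x⁻¹ = ((Additive.toMul v : ↥D') : G)
    rw [(mem_centralizer_iff.1 (hD'Z (Additive.toMul v).2).2 x hx), mul_inv_cancel_right]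
  obtain ⟨ρ, hρ⟩ := descend hπ aV hkV
  obtain ⟨σ, hσ⟩ := descend hπ aW hkW
  intro a ha a' ha'
  have key := hP (Additive (↥D ⧸ ZD)) (Additive ↥D') ?_ ?_ ρ σ ?_ ?_ b ?_ ?_
    (Additive.ofMul (⟨a, ha⟩ : ↥D)) (Additive.ofMul (⟨a', ha'⟩ : ↥D))
  · exact commutatorElement_eq_one_iff_commute.1
      (congrArg (fun w => ((Additive.toMul w : ↥D') : G)) key)
  · intro v
    induction v using Additive.rec with
    | _ q =>
    induction q using QuotientGroup.induction_on with
    | _ d =>
    refine congrArg Additive.ofMul ((QuotientGroup.eq_one_iff (d * d)).2 (mem_subgroupOf.2 ?_))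
    refine ⟨mul_mem d.2 d.2, mem_centralizer_iff.2 fun x hx => ?_⟩
    refine (commutatorElement_eq_one_iff_commute.1 ?_).eq.symm
    rw [show ((d * d : ↥D) : G) = (d : G) * d from rfl, Core.comm_mul_left hcl d.2 d.2 hx]
    exact hsq _ (Subgroup.commutator_mem_commutator d.2 hx)
  · intro w
    exact Additive.toMul.injective (Subtype.ext (hsq _ (Additive.toMul w).2))
  · intro q hq hq1 v hv
    obtain ⟨g, rfl, hgo⟩ := exists_odd_lift hker hπ hq
    have hg1 : g ≠ 1 := fun e => hq1 (by rw [e, map_one])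
    rw [hρ] at hv
    induction v using Additive.rec with
    | _ r =>
    induction r using QuotientGroup.induction_on with
    | _ d =>
    have h := (QuotientGroup.eq (s := ZD)).1 (congrArg Additive.toMul hv).symm
    exact congrArg Additive.ofMul ((QuotientGroup.eq_one_iff d).2 (mem_subgroupOf.2
      (fpf_section hG inf_le_left hgo hg1 d.2 (mem_subgroupOf.1 h))))
  · intro q hq hq1 v hv
    obtain ⟨g, rfl, hgo⟩ := exists_odd_lift hker hπ hq
    have hg1 : g ≠ 1 := fun e => hq1 (by rw [e, map_one])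
    rw [hσ] at hv
    refine Additive.toMul.injective (Subtype.ext (Core.fpf_pCore hG hgo hg1 _
      (hD'D (Additive.toMul v).2) (Commute.symm (mul_inv_eq_iff_eq_mul.1 ?_))))
    exact congrArg (fun w => ((Additive.toMul w : ↥D') : G)) hv
  · intro v
    induction v using Additive.rec with
    | _ q =>
    induction q using QuotientGroup.induction_on with
    | _ d => exact Additive.toMul.injective (Subtype.ext (commutatorElement_self _))
  · intro g x y
    obtain ⟨g, rfl⟩ := hπ g
    rw [hρ, hσ]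
    induction x using Additive.rec with
    | _ p =>
    induction y using Additive.rec with
    | _ q =>
    induction p using QuotientGroup.induction_on with
    | _ d =>
    induction q using QuotientGroup.induction_on with
    | _ d₂ => exact Additive.toMul.injective (Subtype.ext (Core.comm_conj g (d : G) d₂).symm)

/-- Passing to the quotient by a normal subgroup of the core. -/
theorem quotient_step (hG : IsCIT G) {π : G →* Q} (hπ : Function.Surjective π)
    (hker : π.ker = Cfsg.pCore 2 G) (K : Subgroup G) [K.Normal] (hK : K ≤ Cfsg.pCore 2 G) :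
    IsCIT (G ⧸ K) ∧ Cfsg.pCore 2 (G ⧸ K) = (Cfsg.pCore 2 G).map (QuotientGroup.mk' K) ∧
      ∃ π' : G ⧸ K →* Q, Function.Surjective π' ∧ π'.ker = Cfsg.pCore 2 (G ⧸ K) := by
  haveI : Fact (Nat.Prime 2) := ⟨Nat.prime_two⟩
  set D := Cfsg.pCore 2 G
  have hK2 : IsPGroup 2 ↥K := CfsgLib.PCore.pCore_isPGroup.to_le hK
  set pr := QuotientGroup.mk' K
  have hD' : Cfsg.pCore 2 (G ⧸ K) = D.map pr := by
    refine le_antisymm ?_ (CfsgLib.PCore.le_pCore
      ((inferInstance : D.Normal).map pr (QuotientGroup.mk'_surjective K))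
      (CfsgLib.PCore.pCore_isPGroup.map pr))
    intro x hx
    obtain ⟨g, rfl⟩ := QuotientGroup.mk'_surjective K x
    refine mem_map_of_mem pr (CfsgLib.PCore.le_pCore (N := (Cfsg.pCore 2 (G ⧸ K)).comap pr)
      inferInstance ?_ hx)
    exact (CfsgLib.PCore.pCore_isPGroup (G := G ⧸ K) (p := 2)).comap_of_ker_isPGroup pr
      (by rw [QuotientGroup.ker_mk']; exact hK2)
  refine ⟨hG.quotient K hK2, hD', QuotientGroup.lift K π (hker ▸ hK), fun q => ?_, ?_⟩
  · obtain ⟨g, rfl⟩ := hπ q
    exact ⟨pr g, rfl⟩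
  · rw [hD']
    ext x
    obtain ⟨g, rfl⟩ := QuotientGroup.mk'_surjective K x
    constructor
    · exact fun h => mem_map_of_mem pr (hker ▸ h)
    · rintro ⟨d, hd, e⟩
      have h1 : d ∈ π.ker := hker ▸ hd
      rw [MonoidHom.mem_ker, ← e]
      exact h1

theorem comm_of_class (hG : IsCIT G) {π : G →* Q} (hπ : Function.Surjective π)
    (hker : π.ker = Cfsg.pCore 2 G) (hP : NoPairing.{u} Q)
    (hcl : ∀ a ∈ Cfsg.pCore 2 G, ∀ b ∈ Cfsg.pCore 2 G, ∀ c ∈ Cfsg.pCore 2 G, Commute ⁅a, b⁆ c) :
    ⁅Cfsg.pCore 2 G, Cfsg.pCore 2 G⁆ = ⊥ := by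
  classical
  haveI : Fact (Nat.Prime 2) := ⟨Nat.prime_two⟩
  set D := Cfsg.pCore 2 G with hDdef
  set D' := ⁅D, D⁆ with hD'
  haveI : D'.Normal := Subgroup.commutator_normal D D
  have hD'D : D' ≤ D := Subgroup.commutator_le_self D
  have hD'C : D' ≤ centralizer (D : Set G) := by
    rw [hD', Subgroup.commutator_le]
    exact fun a ha b hb => mem_centralizer_iff.2 fun c hc => (hcl a ha b hb c hc).eq.symm
  have hcm : ∀ p ∈ D', ∀ q ∈ D', Commute p q := fun p hp q hq =>
    mem_centralizer_iff.1 (hD'C hq) p (hD'D hp)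
  let K : Subgroup G :=
    { carrier := {x | ∃ y ∈ D', x = y * y}
      one_mem' := ⟨1, one_mem _, (one_mul 1).symm⟩
      mul_mem' := by
        rintro _ _ ⟨p, hp, rfl⟩ ⟨q, hq, rfl⟩
        exact ⟨p * q, mul_mem hp hq, ((hcm q hq p hp).mul_mul_mul_comm p q).symm⟩
      inv_mem' := by
        rintro _ ⟨p, hp, rfl⟩
        exact ⟨p⁻¹, inv_mem hp, mul_inv_rev p p⟩ }
  haveI : K.Normal := ⟨by
    rintro _ ⟨p, hp, rfl⟩ g
    exact ⟨g * p * g⁻¹, Normal.conj_mem inferInstance p hp g, by group⟩⟩
  have hKD' : K ≤ D' := by rintro _ ⟨p, hp, rfl⟩; exact mul_mem hp hp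
  by_contra hne
  have hlt : ¬ D' ≤ K := by
    intro hle
    let f : ↥D' → ↥D' := fun p => p * p
    have hf : Function.Injective f := Finite.injective_iff_surjective.2 fun x => by
      obtain ⟨y, hy, e⟩ := hle x.2
      exact ⟨⟨y, hy⟩, Subtype.ext e.symm⟩
    refine hne ((Subgroup.eq_bot_iff_forall _).2 fun x hx => ?_)
    obtain ⟨k, hk⟩ := isTwo_of_mem CfsgLib.PCore.pCore_isPGroup (hD'D hx)
    clear hle
    induction k generalizing x with
    | zero => simpa using hk
    | succ k ih =>
      rw [pow_succ', pow_mul, pow_two] at hk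
      have h1 := ih (x * x) (mul_mem hx hx) hk
      exact congrArg Subtype.val (hf (a₁ := ⟨x, hx⟩) (a₂ := 1) (Subtype.ext (h1.trans (one_mul 1).symm)))
  obtain ⟨hG', hD, π', hπ', hker'⟩ := quotient_step hG hπ hker K (hKD'.trans hD'D)
  refine hlt ((Subgroup.commutator_le).2 fun a ha b hb => ?_)
  have key := comm_of_class_two hG' hπ' hker' hP ?_ ?_ (a : G ⧸ K) (by rw [hD]; exact mem_map_of_mem _ ha)
    (b : G ⧸ K) (by rw [hD]; exact mem_map_of_mem _ hb)
  · have h1 := commutatorElement_eq_one_iff_commute.2 key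
    rw [← QuotientGroup.mk'_apply, ← QuotientGroup.mk'_apply, ← map_commutatorElement,
      ← MonoidHom.mem_ker, QuotientGroup.ker_mk'] at h1
    exact h1
  · rw [hD]
    rintro _ ⟨p, hp, rfl⟩ _ ⟨q, hq, rfl⟩ _ ⟨r, hr, rfl⟩
    exact (map_commutatorElement (QuotientGroup.mk' K) p q) ▸ (hcl p hp q hq r hr).map _
  · rw [hD, ← Subgroup.map_commutator]
    rintro _ ⟨p, hp, rfl⟩
    rw [← map_mul, ← MonoidHom.mem_ker, QuotientGroup.ker_mk']
    exact ⟨p, hp, rfl⟩

/-- `O₂(G)` is abelian. -/
theorem comm_core (hG : IsCIT G) {π : G →* Q} (hπ : Function.Surjective π)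
    (hker : π.ker = Cfsg.pCore 2 G) (hP : NoPairing.{u} Q) : IsMulCommutative ↥(Cfsg.pCore 2 G) := by
  haveI : Fact (Nat.Prime 2) := ⟨Nat.prime_two⟩
  set D := Cfsg.pCore 2 G with hDdef
  suffices h : ⁅D, D⁆ = ⊥ by
    rw [Subgroup.commutator_eq_bot_iff_le_centralizer] at h
    exact ⟨⟨fun a b => Subtype.ext (mem_centralizer_iff.1 (h b.2) a a.2)⟩⟩
  by_contra hne
  set K := ⁅⁅D, D⁆, D⁆ with hK
  haveI : (⁅D, D⁆ : Subgroup G).Normal := Subgroup.commutator_normal D D
  haveI : K.Normal := Subgroup.commutator_normal _ D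
  have hKD : K ≤ D := Subgroup.commutator_le_right _ D
  have hlt : ¬ ⁅D, D⁆ ≤ K := by
    intro hle
    haveI : Group.IsNilpotent ↥D := CfsgLib.PCore.pCore_isPGroup.isNilpotent
    obtain ⟨n, hn⟩ :=
      (Subgroup.isNilpotent_iff_lowerCentralSeries (S := D)).1 (inferInstance : Group.IsNilpotent ↥D)
    have h1 : ∀ m : ℕ, ⁅D, D⁆ ≤ D.lowerCentralSeries m := by
      intro m
      induction m with
      | zero => exact Subgroup.commutator_le_self D
      | succ m ih => exact hle.trans (Subgroup.commutator_mono ih le_rfl)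
    have h2 := h1 n
    rw [hn, le_bot_iff] at h2
    exact hne h2
  obtain ⟨hG', hD, π', hπ', hker'⟩ := quotient_step hG hπ hker K hKD
  have h4 := comm_of_class hG' hπ' hker' hP ?_
  · rw [hD, ← Subgroup.map_commutator, Subgroup.map_eq_bot_iff, QuotientGroup.ker_mk'] at h4
    exact hlt h4
  · rw [hD]
    rintro _ ⟨a, ha, rfl⟩ _ ⟨b, hb, rfl⟩ _ ⟨c, hc, rfl⟩
    refine commutatorElement_eq_one_iff_commute.1 ?_
    rw [← map_commutatorElement, ← map_commutatorElement, ← MonoidHom.mem_ker, QuotientGroup.ker_mk']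
    exact Subgroup.commutator_mem_commutator (Subgroup.commutator_mem_commutator ha hb) hc

/-- `O₂(G)` is elementary abelian. -/
theorem elementary_core (hG : IsCIT G) {π : G →* Q} (hπ : Function.Surjective π)
    (hker : π.ker = Cfsg.pCore 2 G) (hP : NoPairing.{u} Q) (h4 : NoFour.{u} Q) :
    IsMulCommutative ↥(Cfsg.pCore 2 G) ∧ ∀ x ∈ Cfsg.pCore 2 G, x * x = 1 := by
  classical
  have hab := comm_core hG hπ hker hP
  refine ⟨hab, ?_⟩
  haveI : Fact (Nat.Prime 2) := ⟨Nat.prime_two⟩
  set D := Cfsg.pCore 2 G with hDdef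
  have comm : ∀ {p q : G}, p ∈ D → q ∈ D → Commute p q := fun {p q} hp hq =>
    congrArg Subtype.val (mul_comm' (⟨p, hp⟩ : ↥D) ⟨q, hq⟩)
  let N : Subgroup G :=
    { carrier := {x | x ∈ D ∧ x ^ 4 = 1}
      one_mem' := ⟨one_mem _, one_pow 4⟩
      mul_mem' := fun {p q} hp hq => ⟨mul_mem hp.1 hq.1, by
        rw [(comm hp.1 hq.1).mul_pow, hp.2, hq.2, one_mul]⟩
      inv_mem' := fun {p} hp => ⟨inv_mem hp.1, by rw [inv_pow, hp.2, inv_one]⟩ }
  haveI : IsMulCommutative ↥N := ⟨⟨fun p q => Subtype.ext (comm p.2.1 q.2.1)⟩⟩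
  letI : CommGroup ↥N := { (inferInstance : Group ↥N) with mul_comm := mul_comm' }
  haveI hN : N.Normal := ⟨fun p hp g => ⟨(inferInstance : D.Normal).conj_mem p hp.1 g, by
    rw [conj_pow, hp.2, mul_one, mul_inv_cancel]⟩⟩
  let ρ₀ : G →* AddMonoid.End (Additive ↥N) :=
    { toFun := fun g => MonoidHom.toAdditive (MulAut.conjNormal (H := N) g).toMonoidHom
      map_one' := AddMonoidHom.ext fun v => by
        refine Additive.toMul.injective (Subtype.ext ?_)
        show (1 : G) * ((Additive.toMul v : ↥N) : G) * (1 : G)⁻¹ = ((Additive.toMul v : ↥N) : G)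
        group
      map_mul' := fun g k => AddMonoidHom.ext fun v => by
        refine Additive.toMul.injective (Subtype.ext ?_)
        show g * k * ((Additive.toMul v : ↥N) : G) * (g * k)⁻¹ =
          g * (k * ((Additive.toMul v : ↥N) : G) * k⁻¹) * g⁻¹
        group }
  have hk : ∀ d, π d = 1 → ρ₀ d = 1 := by
    intro d hd
    replace hd : d ∈ D := hker ▸ MonoidHom.mem_ker.2 hd
    refine AddMonoidHom.ext fun v => Additive.toMul.injective (Subtype.ext ?_)
    show d * ((Additive.toMul v : ↥N) : G) * d⁻¹ = ((Additive.toMul v : ↥N) : G)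
    rw [(comm hd (Additive.toMul v).2.1).eq, mul_inv_cancel_right]
  obtain ⟨ρ, hρ⟩ := descend hπ ρ₀ hk
  have key := h4 (Additive ↥N) (fun v => Additive.toMul.injective (Subtype.ext
      (Additive.toMul v).2.2)) ρ (fun q hq hq1 v hv => ?_)
  · intro x hx
    obtain ⟨k, hk⟩ := isTwo_of_mem CfsgLib.PCore.pCore_isPGroup hx
    clear hk
    have sq : ∀ y ∈ N, y * y = 1 := fun y hy => by
      have h2 := key (Additive.ofMul (⟨y, hy⟩ : ↥N))
      have h3 : ((Additive.toMul (2 • Additive.ofMul (⟨y, hy⟩ : ↥N)) : ↥N) : G) = 1 := by rw [h2]; rfl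
      rw [toMul_nsmul, toMul_ofMul, SubmonoidClass.coe_pow, pow_two] at h3
      exact h3
    obtain ⟨k, hk⟩ := isTwo_of_mem CfsgLib.PCore.pCore_isPGroup hx
    induction k generalizing x with
    | zero => simp only [pow_zero, pow_one] at hk; rw [hk, one_mul]
    | succ k ih =>
      rw [pow_succ', pow_mul] at hk
      have h1 := ih (x ^ 2) (pow_mem hx _) hk
      refine sq x ⟨hx, ?_⟩
      rw [show (4 : ℕ) = 2 * 2 from rfl, pow_mul, pow_two]
      exact h1
  · obtain ⟨g, rfl, hgo⟩ := exists_odd_lift hker hπ hq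
    have hg1 : g ≠ 1 := fun e => hq1 (by rw [e, map_one])
    rw [hρ] at hv
    refine Additive.toMul.injective (Subtype.ext (Core.fpf_pCore hG hgo hg1 _
      (Additive.toMul v).2.1 (Commute.symm (mul_inv_eq_iff_eq_mul.1 ?_))))
    exact congrArg (fun w => ((Additive.toMul w : ↥N) : G)) hv

end CfsgLib.CIT.CoreModules
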