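import Mathlib
import Cfsg.Agent.Lib.CIT.Basic

/-!
# Groups all of whose element orders are prime powers
-/

set_option autoImplicit false

namespace CfsgLib.CIT

open Subgroup

universe u

variable {G : Type u} [Group G] [Finite G]

theorem isTwo_of_even_primePow {x : G} (hx : IsPrimePow (orderOf x)) (h2 : 2 ∣ orderOf x) :
    IsTwo x := by
  obtain ⟨p, k, hp, -, hpk⟩ := (isPrimePow_nat_iff _).1 hx
  have hp2 : (2 : ℕ) = p :=
    (Nat.prime_dvd_prime_iff_eq Nat.prime_two hp).1 (Nat.prime_two.dvd_of_dvd_pow (hpk ▸ h2))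
  exact ⟨k, by rw [hp2, hpk, pow_orderOf_eq_one]⟩

/-- Involution centralizers are 2-groups if all element orders are prime powers. -/
theorem isCIT_of_primePow (h : ∀ g : G, g ≠ 1 → IsPrimePow (orderOf g)) : IsCIT G := by
  intro t ht
  rw [isPGroup_two_iff_no_odd]
  intro y hy ho
  by_contra hy1
  have hc : Commute y t := mem_centralizer_singleton_iff.1 hy
  have hcop : (orderOf y).Coprime (orderOf t) := by
    rw [ht]; exact Nat.coprime_two_right.2 ho
  have hm := hc.orderOf_mul_eq_mul_orderOf_of_coprime hcop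
  rw [ht] at hm
  have hne : y * t ≠ 1 := fun e => by
    rw [e, orderOf_one] at hm
    omega
  obtain ⟨k, hk⟩ := isTwo_of_even_primePow (h _ hne) (hm ▸ dvd_mul_left 2 _)
  refine hy1 (eq_one_of_isTwo_of_odd ?_ ho)
  obtain ⟨j, -, hj⟩ := (Nat.dvd_prime_pow Nat.prime_two).1
    ((dvd_mul_right (orderOf y) 2).trans (hm ▸ orderOf_dvd_of_pow_eq_one hk))
  exact ⟨j, by rw [← hj, pow_orderOf_eq_one]⟩

end CfsgLib.CIT
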