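import Mathlib
import Cfsg.Prelude.Def_Sz
import Cfsg.Agent.Lib.CIT.Reduce
import Cfsg.Agent.Lib.CIT.PrimePowerOrders
import Cfsg.Agent.Lib.ClassicalGroups.SmallIso
import Cfsg.Agent.S1475

/-!
# Simple and arbitrary groups all of whose element orders are prime powers, modulo the shape lemmas
-/

set_option autoImplicit false
set_option linter.style.haveILetI false

namespace CfsgLib.CIT

open Subgroup

universe u

/-- The Suzuki groups of exponent 3 and 5. -/
def SzSmall (G : Type u) [Group G] : Prop :=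
  ∃ (F : Type) (_ : Field F) (_ : Fintype F),
    (Fintype.card F = 8 ∧ Nonempty (G ≃* ↥(Cfsg.Lie.Sz F 4))) ∨
      (Fintype.card F = 32 ∧ Nonempty (G ≃* ↥(Cfsg.Lie.Sz F 8)))

/-- The list of shapes with prime power element orders. -/
def PowerList : Prop :=
  ∀ (G : Type u) [Group G] [Finite G], (∀ g : G, g ≠ 1 → IsPrimePow (orderOf g)) → ShapeAny G →
    ((∃ (F : Type) (_ : Field F) (_ : Fintype F), Fintype.card F ∈ ({4, 7, 8, 9, 17} : Finset ℕ) ∧
        Nonempty (G ≃* Matrix.ProjectiveSpecialLinearGroup (Fin 2) F)) ∨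
      ShapeNine G ∨ ShapeFour G ∨ SzSmall G) ∧
    ((Nat.card G).primeFactors.card ≤ 4 ∧
      ((Nat.card G).primeFactors.card = 4 → ShapeFour G ∨ SzSmall G))

/-- No extension of a 2-group by `PSL₃(4)`. -/
def NoFourExtension : Prop :=
  ∀ (G : Type u) [Group G] [Finite G], IsCIT G → Cfsg.pCore 2 G ≠ ⊥ →
    ¬ ShapeFour (G ⧸ Cfsg.pCore 2 G)

variable {G : Type u} [Group G] [Finite G]

theorem simple_primePow_list (hK : KleinStep.{u}) (hC : CountStep.{u}) (hL : PowerList.{u})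
    [IsSimpleGroup G] (hG : ¬ IsMulCommutative G)
    (h : ∀ g : G, g ≠ 1 → IsPrimePow (orderOf g)) :
    Nonempty (G ≃* alternatingGroup (Fin 6)) ∨
    (∃ (F : Type) (_ : Field F) (_ : Fintype F), Fintype.card F ∈ ({4, 7, 8, 17} : Finset ℕ) ∧
      Nonempty (G ≃* Matrix.ProjectiveSpecialLinearGroup (Fin 2) F)) ∨
    (∃ (F : Type) (_ : Field F) (_ : Fintype F), Fintype.card F = 4 ∧
      Nonempty (G ≃* Matrix.ProjectiveSpecialLinearGroup (Fin 3) F)) ∨
    (∃ (F : Type) (_ : Field F) (_ : Fintype F),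
      (Fintype.card F = 8 ∧ Nonempty (G ≃* ↥(Cfsg.Lie.Sz F 4))) ∨
        (Fintype.card F = 32 ∧ Nonempty (G ≃* ↥(Cfsg.Lie.Sz F 8)))) := by
  have hab : ∃ a b : G, a * b ≠ b * a := by
    by_contra hcon
    push Not at hcon
    exact hG ⟨⟨hcon⟩⟩
  obtain ⟨h2, hO, hnt⟩ := simple_cores hab
  rcases (hL G h (shapeAny_of_steps hK hC (isCIT_of_primePow h) h2 hO)).1 with
    ⟨F, i1, i2, hF, ⟨e⟩⟩ | ⟨N, hN, hN2, -⟩ | ⟨-, -, h3⟩ | h4
  · by_cases h9 : Fintype.card F = 9
    · obtain ⟨e9⟩ := CfsgLib.ClassicalGroups.psl_two_nine_alternating (K := F) h9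
      exact Or.inl ⟨e.trans e9⟩
    · refine Or.inr (Or.inl ⟨F, i1, i2, ?_, ⟨e⟩⟩)
      simp only [Finset.mem_insert, Finset.mem_singleton] at hF ⊢
      omega
  · exfalso
    rcases hN.eq_bot_or_eq_top with e | e
    · rw [e, index_bot] at hN2
      haveI : Fact (Nat.Prime 2) := ⟨Nat.prime_two⟩
      haveI := isCyclic_of_prime_card hN2
      exact hG inferInstance
    · rw [e, index_top] at hN2
      omega
  · exact Or.inr (Or.inr (Or.inl h3))
  · exact Or.inr (Or.inr (Or.inr h4))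

theorem primePow_primeFactors (hK : KleinStep.{u}) (hC : CountStep.{u}) (hL : PowerList.{u})
    (hN : NoFourExtension.{u}) (h : ∀ g : G, g ≠ 1 → IsPrimePow (orderOf g)) :
    (Nat.card G).primeFactors.card ≤ 4 ∧
    ((Nat.card G).primeFactors.card = 4 →
      (∃ (F : Type) (_ : Field F) (_ : Fintype F), Fintype.card F = 4 ∧
        Nonempty (G ≃* Matrix.ProjectiveSpecialLinearGroup (Fin 3) F)) ∨
      (∃ (N : Subgroup G) (_ : N.Normal), IsPGroup 2 ↥N ∧
        ∃ (F : Type) (_ : Field F) (_ : Fintype F),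
          (Fintype.card F = 8 ∧ Nonempty (G ⧸ N ≃* ↥(Cfsg.Lie.Sz F 4))) ∨
          (Fintype.card F = 32 ∧ Nonempty (G ⧸ N ≃* ↥(Cfsg.Lie.Sz F 8))))) := by
  haveI : Fact (Nat.Prime 2) := ⟨Nat.prime_two⟩
  by_cases hs : Group.IsSolvable G
  · have h1 := Cfsg.Agent.S1475.result (G := G) (fun g => by
      by_cases hg : g = 1
      · exact Or.inr hg
      · exact Or.inl (h g hg))
    exact ⟨by omega, fun h4 => by omega⟩
  have hCIT := isCIT_of_primePow h
  obtain ⟨-, hQCIT, hQnt, hQ2, hQO, hQns⟩ := hCIT.nonsolvable_structure hs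
  set D := Cfsg.pCore 2 G with hDdef
  have hQ : ∀ q : G ⧸ D, q ≠ 1 → IsPrimePow (orderOf q) := by
    intro q hq
    obtain ⟨g, rfl⟩ := QuotientGroup.mk'_surjective D q
    have hg : g ≠ 1 := fun e => hq (by rw [e, map_one])
    exact (h g hg).dvd (orderOf_map_dvd _ g) (mt orderOf_eq_one_iff.1 hq)
  haveI := hQnt
  obtain ⟨-, hle, heq⟩ := hL _ hQ (shapeAny_of_steps hK hC hQCIT hQ2 hQO)
  have h2Q : 2 ∣ Nat.card (G ⧸ D) := by
    by_contra hodd
    exact hQns (Cfsg.Agent.S0205.result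
      (Nat.not_even_iff_odd.1 fun e => hodd (even_iff_two_dvd.1 e)))
  have hpf : (Nat.card G).primeFactors = (Nat.card (G ⧸ D)).primeFactors := by
    obtain ⟨k, hk⟩ := (CfsgLib.PCore.pCore_isPGroup (p := 2) (G := G)).exists_card_eq
    rw [Subgroup.card_eq_card_quotient_mul_card_subgroup D,
      Nat.primeFactors_mul Nat.card_pos.ne' Nat.card_pos.ne', Finset.union_eq_left, hDdef, hk]
    intro p hp
    obtain ⟨hp', hpd, -⟩ := Nat.mem_primeFactors.1 hp
    rw [(Nat.prime_dvd_prime_iff_eq hp' Nat.prime_two).1 (hp'.dvd_of_dvd_pow hpd)]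
    exact Nat.mem_primeFactors.2 ⟨Nat.prime_two, h2Q, Nat.card_pos.ne'⟩
  rw [hpf]
  refine ⟨hle, fun h4 => ?_⟩
  rcases heq h4 with hF | ⟨F, i1, i2, hF⟩
  · left
    have hD : D = ⊥ := by_contra fun hD => hN G hCIT hD hF
    obtain ⟨-, -, F, i1, i2, hF4, ⟨e⟩⟩ := hF
    exact ⟨F, i1, i2, hF4,
      ⟨((QuotientGroup.quotientMulEquivOfEq hD).trans QuotientGroup.quotientBot).symm.trans e⟩⟩
  · exact Or.inr ⟨D, inferInstance, CfsgLib.PCore.pCore_isPGroup, F, i1, i2, hF⟩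

end CfsgLib.CIT
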