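import Mathlib
import Cfsg.Agent.Lib.CIT.TI
import Cfsg.Agent.Lib.Suzuki.Recognition.Zassenhaus
import Cfsg.Agent.Lib.Zass29.FeitTheorem

/-!
# Suzuki groups among the strongly embedded groups of Frobenius type

In the situation of `CIT.TI.Hyp`, a group of Suzuki order has a nonabelian kernel `H` of order `q²`
with `q - 1` involutions, by Feit's theorem on Zassenhaus groups, so it is isomorphic to a Suzuki
group.
-/

set_option autoImplicit false

namespace CfsgLib.CIT.TI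

open MulAction CfsgLib.Involutions CfsgLib.StrongEmbedding

variable {G : Type*} [Group G] [Finite G] {M H : Subgroup G}

theorem H_le_stabilizer (h : Hyp M H) : H ≤ stabilizer G (base M) := fun _ hx => mem_iff.1 (h.le hx)

theorem odd_twoStab (h : Hyp M H) {y : G ⧸ M} (hy : y ≠ base M) : Odd (Nat.card (twoStab M y)) := by
  haveI : Fact (Nat.Prime 2) := ⟨Nat.prime_two⟩
  rw [← Nat.not_even_iff_odd, even_iff_two_dvd]
  intro h2
  obtain ⟨d, hd⟩ := exists_prime_orderOf_dvd_card' (G := twoStab M y) 2 h2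
  exact not_two h hy d.2 (by rw [Subgroup.orderOf_coe, hd])

/-- In a group of Suzuki order the parameters are `|H| = q²` and `q - 1` involutions. -/
theorem suzuki_card (h : Hyp M H) (hs : Cfsg.IsSuzuki G) :
    ∃ m : ℕ, 1 ≤ m ∧ Nat.card ↥H = (2 ^ (2 * m + 1)) ^ 2 ∧
      Nat.card (Inv M) = 2 ^ (2 * m + 1) - 1 ∧
      Nat.card G = (2 ^ (2 * m + 1)) ^ 2 * ((2 ^ (2 * m + 1)) ^ 2 + 1) * (2 ^ (2 * m + 1) - 1) := by
  obtain ⟨-, m, hm, hG⟩ := hs
  obtain ⟨-, hH2, hcard, -⟩ := main h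
  obtain ⟨y, hy⟩ := exists_ne_base h
  haveI : Fact (Nat.Prime 2) := ⟨Nat.prime_two⟩
  obtain ⟨j, hj⟩ := hH2.exists_card_eq
  have hk : Odd (Nat.card (Inv M)) := by
    rw [← card_twoStab h hy]; exact odd_twoStab h hy
  refine ⟨m, hm, ?_⟩
  set k := Nat.card (Inv M)
  set q := 2 ^ (2 * m + 1) with hq
  have h2 : 2 ≤ q := by
    rw [hq]; calc 2 = 2 ^ 1 := rfl
      _ ≤ _ := Nat.pow_le_pow_right (by norm_num) (by omega)
  have hqe : Even q := by rw [hq]; exact Nat.even_pow.2 ⟨even_two, by omega⟩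
  have hHe : Even (Nat.card ↥H) := by
    rw [hj]
    refine Nat.even_pow.2 ⟨even_two, fun e => ?_⟩
    have := two_le_H h
    rw [hj, e] at this
    omega
  have e : q ^ 2 * ((q ^ 2 + 1) * (q - 1)) = Nat.card ↥H * ((Nat.card ↥H + 1) * k) := by
    rw [← mul_assoc, ← hG, hcard]; ring
  have ho1 : Odd ((q ^ 2 + 1) * (q - 1)) :=
    ((Nat.even_pow.2 ⟨hqe, two_ne_zero⟩).add_one).mul
      (Nat.Even.sub_odd (by omega) hqe odd_one)
  have ho2 : Odd ((Nat.card ↥H + 1) * k) := hHe.add_one.mul hk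
  have hH : Nat.card ↥H = q ^ 2 := by
    apply Nat.dvd_antisymm
    · refine Nat.Coprime.dvd_of_dvd_mul_right ?_ (e.symm ▸ dvd_mul_right _ _)
      rw [hj]
      exact (Nat.coprime_two_left.2 ho1).pow_left _
    · refine Nat.Coprime.dvd_of_dvd_mul_right ?_ (e ▸ dvd_mul_right _ _)
      rw [hq, ← pow_mul]
      exact (Nat.coprime_two_left.2 ho2).pow_left _
  refine ⟨hH, ?_, hG⟩
  rw [hH] at e
  have e' := Nat.eq_of_mul_eq_mul_left (by positivity) e
  exact (Nat.eq_of_mul_eq_mul_left (by positivity) e').symm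

/-- In a group of Suzuki order `H` is not abelian. -/
theorem suzuki_nonabelian (h : Hyp M H) (hs : Cfsg.IsSuzuki G) : ∃ u v : H, u * v ≠ v * u := by
  by_contra hcon
  push Not at hcon
  haveI : Fintype (G ⧸ M) := Fintype.ofFinite _
  obtain ⟨y, hy⟩ := exists_ne_base h
  obtain ⟨m, hm, hH, hk, -⟩ := suzuki_card h hs
  have hcard : Nat.card ↥H + 1 = Fintype.card (G ⧸ M) := by
    rw [← card_points h, Nat.card_eq_fintype_card]
  have hfix : ∀ u ∈ H, u ≠ 1 → ∀ c : G ⧸ M, u • c = c → c = base M := by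
    intro u hu hu1 c hc
    by_contra hcb
    exact hu1 (congrArg Subtype.val
      (free h hcb (a₁ := ⟨u, hu⟩) (a₂ := 1) (hc.trans (one_smul G c).symm)))
  rcases CfsgLib.Zass29.FeitThm.feit (isZassenhaus h) hy.symm (odd_twoStab h hy) H
    (H_le_stabilizer h) hcard hfix with hle | ⟨-, ⟨u, v, huv⟩, -⟩
  · have hp : Nat.card (CfsgLib.PermSmall.Zassenhaus.pairStab G (base M) y) =
        2 ^ (2 * m + 1) - 1 := by
      rw [← hk, ← card_twoStab h hy]
      rfl
    rw [← hcard, hH, hp] at hle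
    have h2 : 8 ≤ 2 ^ (2 * m + 1) := calc
      8 = 2 ^ 3 := rfl
      _ ≤ _ := Nat.pow_le_pow_right (by norm_num) (by omega)
    generalize 2 ^ (2 * m + 1) = q at hle h2
    have : 8 * q ≤ q ^ 2 := by rw [pow_two]; exact Nat.mul_le_mul_right q h2
    omega
  · exact huv (hcon u v)

/-- A group of Suzuki order with a strongly embedded subgroup of Frobenius type is a Suzuki
group. -/
theorem isoSuzuki (h : Hyp M H) (hs : Cfsg.IsSuzuki G) : Cfsg.Lie.IsoSuzuki G :=
  haveI : IsSimpleGroup G := hs.1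
  CfsgLib.Suzuki.Recognition.isoSuzuki_of_regular (isZassenhaus h) (base M) H
    (H_le_stabilizer h) (main h).2.1 (suzuki_nonabelian h hs) fun a b ha hb => by
      obtain ⟨x, hx, hxe⟩ := transitive_others h ha hb
      exact ⟨⟨x, hx⟩, hxe, fun u hu => free h ha (hu.trans hxe.symm)⟩

/-- In a group of Suzuki order `H` is a Sylow 2-subgroup. -/
theorem suzuki_sylow (h : Hyp M H) (hs : Cfsg.IsSuzuki G) :
    ∃ S : Sylow 2 G, (S : Subgroup G) = H := by
  haveI : Fact (Nat.Prime 2) := ⟨Nat.prime_two⟩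
  obtain ⟨S, hS⟩ := (main h).2.1.exists_le_sylow
  obtain ⟨y, hy⟩ := exists_ne_base h
  have hk : Odd (Nat.card (Inv M)) := by
    rw [← card_twoStab h hy]; exact odd_twoStab h hy
  obtain ⟨m, -, hH, -, -⟩ := suzuki_card h hs
  obtain ⟨n, hn⟩ := S.isPGroup'.exists_card_eq
  refine ⟨S, (Subgroup.eq_of_le_of_card_ge hS (Nat.le_of_dvd Nat.card_pos ?_)).symm⟩
  have hd := Subgroup.card_subgroup_dvd_card (S : Subgroup G)
  rw [(main h).2.2.1, mul_left_comm] at hd
  refine Nat.Coprime.dvd_of_dvd_mul_right ?_ hd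
  rw [hn]
  refine (Nat.coprime_two_left.2 ((Even.add_one ?_).mul hk)).pow_left _
  rw [hH]
  exact Nat.even_pow.2 ⟨Nat.even_pow.2 ⟨even_two, by omega⟩, two_ne_zero⟩

/-- In a group of Suzuki order no Sylow 2-subgroup is abelian. -/
theorem suzuki_sylow_nonabelian (h : Hyp M H) (hs : Cfsg.IsSuzuki G) (P : Sylow 2 G) :
    ∃ u v : (P : Subgroup G), u * v ≠ v * u := by
  haveI : Fact (Nat.Prime 2) := ⟨Nat.prime_two⟩
  obtain ⟨S, hS⟩ := suzuki_sylow h hs
  obtain ⟨u, v, huv⟩ := suzuki_nonabelian h hs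
  let e : ↥H ≃* (P : Subgroup G) := (MulEquiv.subgroupCongr hS.symm).trans (S.equiv P)
  exact ⟨e u, e v, fun e' => huv (e.injective (by simpa only [map_mul] using e'))⟩

end CfsgLib.CIT.TI
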