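import Mathlib
import Cfsg.Agent.Lib.CIT.PrimePowerMain
import Cfsg.Agent.Lib.CIT.SuzukiIso
import Cfsg.Agent.Lib.Recog.RootPowers
import Cfsg.Agent.Lib.SuzukiGroup.Tori
import Cfsg.Agent.Lib.PSL2.Basic

/-!
# The shapes in which every element has prime power order

The cyclic tori force the field to be small.
-/

set_option autoImplicit false
set_option linter.style.haveILetI false

namespace CfsgLib.CIT.EPPO

universe u

/-- A prime power divisible by the prime `p` is a power of `p`. -/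
theorem eq_pow_of_dvd {n p : ℕ} (hp : p.Prime) (h : IsPrimePow n) (hd : p ∣ n) :
    ∃ a : ℕ, 1 ≤ a ∧ n = p ^ a := by
  obtain ⟨r, k, hr, hk, rfl⟩ := (isPrimePow_nat_iff _).1 h
  have : p = r := (Nat.prime_dvd_prime_iff_eq hp hr).1 (hp.dvd_of_dvd_pow hd)
  exact ⟨k, hk, by rw [this]⟩

theorem three_pow_add_one {a n : ℕ} (h : 3 ^ a + 1 = 2 ^ n) : n ≤ 2 := by
  by_contra hn
  push Not at hn
  have h8 : (8 : ℕ) ∣ 2 ^ n := pow_dvd_pow 2 (show 3 ≤ n by omega)
  have key : ∀ j : ℕ, (3 ^ j) % 8 = 1 ∨ (3 ^ j) % 8 = 3 := fun j => by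
    induction j with
    | zero => simp
    | succ j ih => rw [pow_succ, Nat.mul_mod]; rcases ih with e | e <;> rw [e] <;> simp
  rcases key a with e | e <;> omega

theorem three_pow_eq {a n : ℕ} (h : 3 ^ a = 2 ^ n + 1) : n = 1 ∨ n = 3 := by
  rcases Nat.even_or_odd' a with ⟨b, rfl | rfl⟩
  · obtain ⟨x, hx⟩ : ∃ x, 3 ^ b = x + 1 := ⟨3 ^ b - 1, by have := Nat.one_le_pow b 3 (by norm_num); omega⟩
    have h2 : x * (x + 2) = 2 ^ n := by
      rw [pow_mul'] at h
      rw [hx] at h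
      have : x * (x + 2) + 1 = (x + 1) ^ 2 := by ring
      omega
    obtain ⟨i, hi, hxi⟩ := (Nat.dvd_prime_pow Nat.prime_two).1 ⟨x + 2, h2.symm⟩
    obtain ⟨j, hj, hxj⟩ := (Nat.dvd_prime_pow Nat.prime_two).1 (h2 ▸ dvd_mul_left (x + 2) x)
    have hij : i < j := by
      by_contra hcon
      have := Nat.pow_le_pow_right (show 0 < 2 by norm_num) (not_lt.1 hcon)
      omega
    have h4 : 2 ^ i ∣ 2 := by
      have h5 : 2 ^ i ∣ 2 ^ j := pow_dvd_pow 2 hij.le
      rw [← hxj, ← hxi] at h5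
      rw [← hxi]
      exact (Nat.dvd_add_right dvd_rfl).1 h5
    have hx2 : x ≤ 2 := hxi ▸ Nat.le_of_dvd (by norm_num) h4
    interval_cases x
    · exfalso
      have := Nat.one_le_two_pow (n := n)
      omega
    · exfalso
      have : b ≠ 0 := fun e => by rw [e] at hx; simp at hx
      have h3 : 3 ∣ 3 ^ b := dvd_pow_self 3 this
      omega
    · right
      exact Nat.pow_right_injective le_rfl (show 2 ^ n = 2 ^ 3 by omega)
  · left
    by_contra hn
    have h4 : (3 ^ (2 * b + 1)) % 4 = 3 := by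
      rw [pow_succ, pow_mul, Nat.mul_mod, Nat.pow_mod]
      simp
    rcases Nat.lt_or_ge n 2 with e | e
    · interval_cases n
      · omega
      · exact hn rfl
    · have : (4 : ℕ) ∣ 2 ^ n := pow_dvd_pow 2 e
      omega

theorem three_dvd_cases (n : ℕ) : 2 ^ n % 3 = if Even n then 1 else 2 := by
  induction n with
  | zero => simp
  | succ n ih =>
    rw [pow_succ, Nat.mul_mod, ih]
    rcases Nat.even_or_odd n with e | e
    · simp [e, Nat.even_add_one]
    · simp [Nat.not_even_iff_odd.2 e, Nat.even_add_one]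

/-- The arithmetic in characteristic 2. -/
theorem even_exponent {n : ℕ} (hn : 2 ≤ n) (hp : IsPrimePow (2 ^ n + 1))
    (hm : IsPrimePow (2 ^ n - 1)) : n = 2 ∨ n = 3 := by
  have h1 := Nat.one_le_two_pow (n := n)
  have hc := three_dvd_cases n
  rcases Nat.even_or_odd n with e | e
  · rw [if_pos e] at hc
    obtain ⟨a, -, ha⟩ := eq_pow_of_dvd Nat.prime_three hm (by omega)
    have := three_pow_add_one (show 3 ^ a + 1 = 2 ^ n by omega)
    omega
  · rw [if_neg (Nat.not_even_iff_odd.2 e)] at hc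
    obtain ⟨a, -, ha⟩ := eq_pow_of_dvd Nat.prime_three hp (by omega)
    have := three_pow_eq ha.symm
    omega

/-- The arithmetic in odd characteristic. -/
theorem odd_field {p k : ℕ} (hp : p.Prime) (h7 : 7 ≤ p) (hk : p = 2 ^ k + 1 ∨ p + 1 = 2 ^ k)
    (hpl : IsPrimePow ((p + 1) / 2)) (hmi : IsPrimePow ((p - 1) / 2)) : p = 7 ∨ p = 17 := by
  obtain ⟨j, rfl⟩ : ∃ j, k = j + 1 := Nat.exists_eq_succ_of_ne_zero fun e => by
    rw [e] at hk; simp at hk; omega
  have h1 := Nat.one_le_two_pow (n := j)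
  have hc := three_dvd_cases j
  have hp3 : ¬ 3 ∣ p := fun e => by
    have := (Nat.prime_dvd_prime_iff_eq Nat.prime_three hp).1 e
    omega
  rw [pow_succ] at hk
  rcases hk with hk | hk
  · rcases Nat.even_or_odd j with e | e
    · rw [if_pos e] at hc
      omega
    · rw [if_neg (Nat.not_even_iff_odd.2 e)] at hc
      rw [show (p + 1) / 2 = 2 ^ j + 1 by omega] at hpl
      obtain ⟨a, -, ha⟩ := eq_pow_of_dvd Nat.prime_three hpl (by omega)
      rcases three_pow_eq ha.symm with r | r <;> rw [r] at hk <;> omega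
  · rcases Nat.even_or_odd j with e | e
    · rw [if_pos e] at hc
      rw [show (p - 1) / 2 = 2 ^ j - 1 by omega] at hmi
      obtain ⟨a, -, ha⟩ := eq_pow_of_dvd Nat.prime_three hmi (by omega)
      have hj := three_pow_add_one (show 3 ^ a + 1 = 2 ^ j by omega)
      interval_cases j <;> omega
    · rw [if_neg (Nat.not_even_iff_odd.2 e)] at hc
      omega

/-- The arithmetic of the Suzuki tori. -/
theorem suzuki_exponent {m : ℕ} (hm : 1 ≤ m) (hA : IsPrimePow (CfsgLib.SuzukiGroup.toA m))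
    (hB : IsPrimePow (CfsgLib.SuzukiGroup.toB m)) : m = 1 ∨ m = 2 := by
  unfold CfsgLib.SuzukiGroup.toA at hA
  unfold CfsgLib.SuzukiGroup.toB at hB
  set q := 2 ^ (2 * m + 1) with hq
  set r := 2 ^ (m + 1) with hr
  have hrq : r ≤ q := CfsgLib.SuzukiGroup.r_le_q m
  have hprod : (q + r + 1) * (q - r + 1) = q ^ 2 + 1 := CfsgLib.SuzukiGroup.toA_mul_toB m
  have h5 : 5 ∣ (q + r + 1) * (q - r + 1) := by
    rw [hprod, hq, ← pow_mul, show (2 * m + 1) * 2 = 4 * m + 2 by ring, pow_add, pow_mul]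
    norm_num
    rw [Nat.dvd_iff_mod_eq_zero, Nat.add_mod, Nat.mul_mod, Nat.pow_mod]
    norm_num
  obtain ⟨t, ht, htl⟩ : ∃ a, 2 ^ (m + 1) ∣ 5 ^ a - 1 ∧ (1 ≤ a ∧ 5 ^ a ≤ q + r + 1) := by
    rcases (Nat.Prime.dvd_mul (by norm_num : Nat.Prime 5)).1 h5 with e | e
    · obtain ⟨a, ha1, ha⟩ := eq_pow_of_dvd (by norm_num) hA e
      refine ⟨a, ?_, ha1, ha ▸ le_rfl⟩
      rw [← ha, Nat.add_sub_cancel]
      exact dvd_add (pow_dvd_pow 2 (by omega)) dvd_rfl
    · obtain ⟨a, ha1, ha⟩ := eq_pow_of_dvd (by norm_num) hB e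
      refine ⟨a, ?_, ha1, ha.symm.le.trans (Nat.add_le_add_right (le_trans (Nat.sub_le q r) (Nat.le_add_right q r)) 1)⟩
      rw [← ha, Nat.add_sub_cancel]
      exact Nat.dvd_sub (pow_dvd_pow 2 (by omega)) dvd_rfl
  obtain ⟨j, rfl⟩ : ∃ j, m = j + 1 := ⟨m - 1, by omega⟩
  have hdvd : 2 ^ j ∣ t := by
    rw [← ZMod.orderOf_five j, orderOf_dvd_iff_pow_eq_one]
    have h1 : ((5 ^ t : ℕ) : ZMod (2 ^ (j + 2))) = ((1 : ℕ) : ZMod (2 ^ (j + 2))) :=
      (ZMod.natCast_eq_natCast_iff _ _ _).2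
        ((Nat.modEq_iff_dvd' (Nat.one_le_pow _ _ (by norm_num))).2 ht).symm
    simpa using h1
  by_contra hj
  have hj2 : 2 ≤ j := by omega
  have hgrow : ∀ i : ℕ, 2 ≤ i → 2 ^ (2 * i + 3) + 2 ^ (i + 2) + 1 < 5 ^ (2 ^ i) := by
    intro i hi
    induction i with
    | zero => omega
    | succ i ih =>
      rcases Nat.lt_or_ge i 2 with e | e
      · interval_cases i <;> first | omega | norm_num
      · have h1 := ih e
        have h2 : (2 : ℕ) ^ (2 * (i + 1) + 3) = 4 * 2 ^ (2 * i + 3) := by ring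
        have h3 : (2 : ℕ) ^ (i + 1 + 2) = 2 * 2 ^ (i + 2) := by ring
        rw [h2, h3, pow_succ 2 i, mul_comm (2 ^ i) 2, pow_mul']
        have h4 : 5 ^ 4 ≤ 5 ^ 2 ^ i := Nat.pow_le_pow_right (by norm_num)
          (le_trans (by norm_num) (Nat.pow_le_pow_right (by norm_num) e))
        have h5 : 625 * 5 ^ 2 ^ i ≤ 5 ^ 2 ^ i * 5 ^ 2 ^ i :=
          Nat.mul_le_mul_right _ (le_trans (by norm_num) h4)
        rw [pow_two]
        omega
  have := hgrow j hj2
  have h6 : 5 ^ 2 ^ j ≤ 5 ^ t := Nat.pow_le_pow_right (by norm_num) (Nat.le_of_dvd htl.1 hdvd)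
  have h7 : q + r + 1 = 2 ^ (2 * j + 3) + 2 ^ (j + 2) + 1 := by
    rw [hq, hr, show 2 * (j + 1) + 1 = 2 * j + 3 by ring]
  omega

variable {G : Type u} [Group G] [Finite G]

theorem isPrimePow_of_equiv (h : ∀ g : G, g ≠ 1 → IsPrimePow (orderOf g)) {H : Type*} [Group H]
    (e : G ≃* H) {x : H} {d : ℕ} (hd : d ∣ orderOf x) (h1 : 1 < d) : IsPrimePow d := by
  rw [← e.symm.orderOf_eq] at hd
  exact (h (e.symm x) fun h0 => by
    rw [h0, orderOf_one] at hd
    have := Nat.le_of_dvd one_pos hd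
    omega).dvd hd (by omega)

theorem center_sq {F : Type} [Field F] {z : Matrix.SpecialLinearGroup (Fin 2) F}
    (hz : z ∈ Subgroup.center (Matrix.SpecialLinearGroup (Fin 2) F)) : z * z = 1 := by
  obtain ⟨r, hr, hrz⟩ := Matrix.SpecialLinearGroup.mem_center_iff.1 hz
  rw [Fintype.card_fin] at hr
  refine Subtype.ext ?_
  rw [Matrix.SpecialLinearGroup.coe_mul, ← hrz, ← map_mul, ← pow_two, hr, map_one,
    Matrix.SpecialLinearGroup.coe_one]

/-- Halves of the torus orders. -/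
theorem psl_tori (h : ∀ g : G, g ≠ 1 → IsPrimePow (orderOf g)) {F : Type} [Field F] [Fintype F]
    (e : G ≃* Matrix.ProjectiveSpecialLinearGroup (Fin 2) F) {d : ℕ} (h1 : 1 < d)
    (hd : d ∣ Fintype.card F + 1 ∨ d ∣ Fintype.card F - 1)
    (hhalf : ∀ o k : ℕ, (o = Fintype.card F + 1 ∨ o = Fintype.card F - 1) → d ∣ o → o ∣ 2 * k →
      k ∣ o → d ∣ k) : IsPrimePow d := by
  obtain ⟨g, o, hgo, ho, hdo⟩ : ∃ g : Matrix.SpecialLinearGroup (Fin 2) F, ∃ o : ℕ, orderOf g = o ∧
      (o = Fintype.card F + 1 ∨ o = Fintype.card F - 1) ∧ d ∣ o := by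
    rcases hd with hd | hd
    · obtain ⟨g, hg⟩ := CfsgLib.Recog.RootPowers.exists_orderOf_add_one (F := F)
      exact ⟨g, _, hg, Or.inl (by rw [Nat.card_eq_fintype_card]),
        by rwa [Nat.card_eq_fintype_card]⟩
    · obtain ⟨g, hg⟩ := CfsgLib.Recog.RootPowers.exists_orderOf_sub_one (F := F)
      exact ⟨g, _, hg, Or.inr (by rw [Nat.card_eq_fintype_card]),
        by rwa [Nat.card_eq_fintype_card]⟩
  set π := QuotientGroup.mk' (Subgroup.center (Matrix.SpecialLinearGroup (Fin 2) F))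
  refine isPrimePow_of_equiv h e (x := π g) (hhalf o _ ho hdo ?_ (hgo ▸ orderOf_map_dvd π g)) h1
  have hz : g ^ orderOf (π g) ∈ Subgroup.center (Matrix.SpecialLinearGroup (Fin 2) F) := by
    rw [← QuotientGroup.eq_one_iff, QuotientGroup.mk_pow]
    exact pow_orderOf_eq_one (π g)
  rw [← hgo, orderOf_dvd_iff_pow_eq_one, mul_comm, pow_mul, pow_two]
  exact center_sq hz

theorem card_psl {F : Type} [Field F] [Fintype F] {q : ℕ} (hq : Fintype.card F = q) {c : ℕ}
    (hc : Nat.gcd 2 (q - 1) * ((q - 1) * c) = (q ^ 2 - 1) * (q ^ 2 - q))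
    (hpos : 0 < Nat.gcd 2 (q - 1) * (q - 1)) :
    Nat.card (Matrix.ProjectiveSpecialLinearGroup (Fin 2) F) = c := by
  have h := Cfsg.Agent.Classical.card_psl_mul (F := F) 2 (by norm_num)
  rw [hq, Fin.prod_univ_two] at h
  simp only [Fin.val_zero, Fin.val_one, pow_zero, pow_one] at h
  rw [← hc, ← mul_assoc, ← mul_assoc] at h
  exact Nat.eq_of_mul_eq_mul_left hpos h

theorem primeFactors_le_three {n : ℕ} {s : Finset ℕ} (hs : s.card ≤ 3) (hn : n ≠ 0)
    (h : ∀ p : ℕ, p.Prime → p ∣ n → p ∈ s) : n.primeFactors.card ≤ 3 :=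
  (Finset.card_le_card fun p hp => by
    obtain ⟨h1, h2, -⟩ := Nat.mem_primeFactors.1 hp
    exact h p h1 h2).trans hs

theorem psl_primes {F : Type} [Field F] [Fintype F]
    (hF : Fintype.card F ∈ ({4, 7, 8, 9, 17} : Finset ℕ)) :
    (Nat.card (Matrix.ProjectiveSpecialLinearGroup (Fin 2) F)).primeFactors.card ≤ 3 := by
  simp only [Finset.mem_insert, Finset.mem_singleton] at hF
  have mem : ∀ {p r : ℕ}, p.Prime → r.Prime → p ∣ r → p = r := fun hp hr h =>
    (Nat.prime_dvd_prime_iff_eq hp hr).1 h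
  rcases hF with e | e | e | e | e
  · rw [card_psl e (c := 2 ^ 2 * 3 * 5) (by norm_num) (by norm_num)]
    refine primeFactors_le_three (s := {2, 3, 5}) (by decide) (by norm_num) fun p hp h => ?_
    rcases hp.dvd_mul.1 h with h | h
    rcases hp.dvd_mul.1 h with h | h
    · simp [mem hp Nat.prime_two (hp.dvd_of_dvd_pow h)]
    · simp [mem hp Nat.prime_three h]
    · simp [mem hp (by norm_num) h]
  · rw [card_psl e (c := 2 ^ 3 * 3 * 7) (by norm_num) (by norm_num)]
    refine primeFactors_le_three (s := {2, 3, 7}) (by decide) (by norm_num) fun p hp h => ?_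
    rcases hp.dvd_mul.1 h with h | h
    rcases hp.dvd_mul.1 h with h | h
    · simp [mem hp Nat.prime_two (hp.dvd_of_dvd_pow h)]
    · simp [mem hp Nat.prime_three h]
    · simp [mem hp (by norm_num) h]
  · rw [card_psl e (c := 2 ^ 3 * 3 ^ 2 * 7) (by norm_num) (by norm_num)]
    refine primeFactors_le_three (s := {2, 3, 7}) (by decide) (by norm_num) fun p hp h => ?_
    rcases hp.dvd_mul.1 h with h | h
    rcases hp.dvd_mul.1 h with h | h
    · simp [mem hp Nat.prime_two (hp.dvd_of_dvd_pow h)]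
    · simp [mem hp Nat.prime_three (hp.dvd_of_dvd_pow h)]
    · simp [mem hp (by norm_num) h]
  · rw [card_psl e (c := 2 ^ 3 * 3 ^ 2 * 5) (by norm_num) (by norm_num)]
    refine primeFactors_le_three (s := {2, 3, 5}) (by decide) (by norm_num) fun p hp h => ?_
    rcases hp.dvd_mul.1 h with h | h
    rcases hp.dvd_mul.1 h with h | h
    · simp [mem hp Nat.prime_two (hp.dvd_of_dvd_pow h)]
    · simp [mem hp Nat.prime_three (hp.dvd_of_dvd_pow h)]
    · simp [mem hp (by norm_num) h]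
  · rw [card_psl e (c := 2 ^ 4 * 3 ^ 2 * 17) (by norm_num) (by norm_num)]
    refine primeFactors_le_three (s := {2, 3, 17}) (by decide) (by norm_num) fun p hp h => ?_
    rcases hp.dvd_mul.1 h with h | h
    rcases hp.dvd_mul.1 h with h | h
    · simp [mem hp Nat.prime_two (hp.dvd_of_dvd_pow h)]
    · simp [mem hp Nat.prime_three (hp.dvd_of_dvd_pow h)]
    · simp [mem hp (by norm_num) h]

theorem powerList : PowerList.{u} := by
  intro G _ _ h hS
  rcases hS with ⟨hs, F, i1, i2, ⟨n, hn2, hn⟩, ⟨e⟩⟩ | ⟨hs, M, H, hTI⟩ | ⟨hodd, -⟩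
  · -- characteristic 2
    have h4 : 4 ≤ 2 ^ n := le_trans (by norm_num) (Nat.pow_le_pow_right (by norm_num) hn2)
    have heven : 2 ^ n % 2 = 0 := by
      obtain ⟨j, rfl⟩ : ∃ j, n = j + 1 := ⟨n - 1, by omega⟩
      rw [pow_succ]; omega
    have hpp : IsPrimePow (2 ^ n + 1) ∧ IsPrimePow (2 ^ n - 1) := by
      constructor
      · refine psl_tori h e (by omega) (Or.inl (hn ▸ dvd_rfl)) fun o k _ hdo hok _ => ?_
        exact (Nat.Coprime.dvd_of_dvd_mul_left (Nat.coprime_two_right.2 (by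
          rw [Nat.odd_iff]; omega)) (hdo.trans hok))
      · refine psl_tori h e (by omega) (Or.inr (hn ▸ dvd_rfl)) fun o k _ hdo hok _ => ?_
        exact (Nat.Coprime.dvd_of_dvd_mul_left (Nat.coprime_two_right.2 (by
          rw [Nat.odd_iff]; omega)) (hdo.trans hok))
    have hF : Fintype.card F ∈ ({4, 7, 8, 9, 17} : Finset ℕ) := by
      rcases even_exponent hn2 hpp.1 hpp.2 with r | r <;> rw [hn, r] <;> decide
    have hc := psl_primes hF
    rw [← Nat.card_congr e.toEquiv] at hc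
    exact ⟨Or.inl ⟨F, i1, i2, hF, ⟨e⟩⟩, by omega, fun h => by omega⟩
  · -- Suzuki groups
    obtain ⟨F, i1, i2, m, hm, hF, ⟨e⟩⟩ := TI.isoSuzuki hTI hs
    obtain ⟨hc2, ⟨P⟩⟩ := CfsgLib.SuzukiGroup.exists_params hF
    haveI := hc2
    obtain ⟨a, b, ha, hb, hca, hcb⟩ := CfsgLib.SuzukiGroup.exists_torus_pair P hF hm
    have key : ∀ {a : ↥(Cfsg.Lie.Sz F (2 ^ (m + 1)))}, CfsgLib.SuzukiGroup.FPF a →
        1 < Nat.card ↥(Subgroup.centralizer {a}) → IsPrimePow (Nat.card ↥(Subgroup.centralizer {a})) := by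
      intro a ha h1
      haveI := CfsgLib.SuzukiGroup.fpf_isCyclic P hF hm ha
      obtain ⟨g, hg⟩ := IsCyclic.exists_ofOrder_eq_natCard (α := ↥(Subgroup.centralizer {a}))
      exact isPrimePow_of_equiv h e (x := (g : ↥(Cfsg.Lie.Sz F (2 ^ (m + 1)))))
        (by rw [Subgroup.orderOf_coe, hg]) h1
    have hA := key ha (hca ▸ CfsgLib.SuzukiGroup.one_lt_toA m)
    have hB := key hb (hcb ▸ CfsgLib.SuzukiGroup.one_lt_toB m hm)
    rw [hca] at hA; rw [hcb] at hB
    have hc : Nat.card G = _ := (Nat.card_congr e.toEquiv).trans (CfsgLib.SuzukiGroup.card_sz P)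
    rw [hF] at hc
    have hcase : (m = 1 ∨ m = 2) := suzuki_exponent hm hA hB
    refine ⟨Or.inr (Or.inr (Or.inr ?_)), ?_, fun _ => Or.inr ?_⟩
    rotate_left
    · rcases hcase with rfl | rfl
      · rw [show Nat.card G = 2 ^ 6 * 7 * (5 * 13) by rw [hc]; norm_num]
        refine le_trans (Finset.card_le_card (t := ({2, 5, 7, 13} : Finset ℕ)) fun p hp => ?_)
          (by decide)
        obtain ⟨hp, hpd, -⟩ := Nat.mem_primeFactors.1 hp
        rcases hp.dvd_mul.1 hpd with h | h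
        rcases hp.dvd_mul.1 h with h | h
        · simp [(Nat.prime_dvd_prime_iff_eq hp Nat.prime_two).1 (hp.dvd_of_dvd_pow h)]
        · simp [(Nat.prime_dvd_prime_iff_eq hp (by norm_num : Nat.Prime 7)).1 h]
        · rcases hp.dvd_mul.1 h with h | h
          · simp [(Nat.prime_dvd_prime_iff_eq hp (by norm_num : Nat.Prime 5)).1 h]
          · simp [(Nat.prime_dvd_prime_iff_eq hp (by norm_num : Nat.Prime 13)).1 h]
      · rw [show Nat.card G = 2 ^ 10 * 31 * (5 ^ 2 * 41) by rw [hc]; norm_num]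
        refine le_trans (Finset.card_le_card (t := ({2, 5, 31, 41} : Finset ℕ)) fun p hp => ?_)
          (by decide)
        obtain ⟨hp, hpd, -⟩ := Nat.mem_primeFactors.1 hp
        rcases hp.dvd_mul.1 hpd with h | h
        rcases hp.dvd_mul.1 h with h | h
        · simp [(Nat.prime_dvd_prime_iff_eq hp Nat.prime_two).1 (hp.dvd_of_dvd_pow h)]
        · simp [(Nat.prime_dvd_prime_iff_eq hp (by norm_num : Nat.Prime 31)).1 h]
        · rcases hp.dvd_mul.1 h with h | h
          · simp [(Nat.prime_dvd_prime_iff_eq hp (by norm_num : Nat.Prime 5)).1 (hp.dvd_of_dvd_pow h)]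
          · simp [(Nat.prime_dvd_prime_iff_eq hp (by norm_num : Nat.Prime 41)).1 h]
    all_goals
      rcases hcase with rfl | rfl
      · exact ⟨F, i1, i2, Or.inl ⟨by rw [hF]; norm_num, ⟨e⟩⟩⟩
      · exact ⟨F, i1, i2, Or.inr ⟨by rw [hF]; norm_num, ⟨e⟩⟩⟩
  · rcases hodd with ⟨hs, F, i1, i2, h7, hq, ⟨e⟩⟩ | hnine | hfour
    · have hF : Fintype.card F ∈ ({4, 7, 8, 9, 17} : Finset ℕ) := by
        rcases hq with hq | ⟨hp, k, hk⟩
        · simp [hq]
        set p := Fintype.card F with hpdef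
        have hpo : p % 2 = 1 := Nat.odd_iff.1 (hp.odd_of_ne_two (by omega))
        have hpl : IsPrimePow ((p + 1) / 2) := by
          refine psl_tori h e (by omega) (Or.inl ⟨2, by omega⟩) fun o k ho hdo hok hko => ?_
          rcases ho with rfl | rfl
          · obtain ⟨c, hc⟩ := hok
            refine ⟨c, ?_⟩
            have : (p + 1) = 2 * ((p + 1) / 2) := by omega
            rw [this, mul_assoc] at hc
            exact Nat.eq_of_mul_eq_mul_left two_pos hc
          · exfalso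
            obtain ⟨c, hc⟩ := hdo
            rcases Nat.lt_or_ge c 2 with h | h
            · interval_cases c <;> omega
            · have := Nat.mul_le_mul_left ((p + 1) / 2) h
              omega
        have hmi : IsPrimePow ((p - 1) / 2) := by
          refine psl_tori h e (by omega) (Or.inr ⟨2, by omega⟩) fun o k ho hdo hok hko => ?_
          rcases ho with rfl | rfl
          · exfalso
            obtain ⟨c, hc⟩ := hdo
            rcases Nat.lt_or_ge c 3 with h | h
            · interval_cases c <;> omega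
            · have := Nat.mul_le_mul_left ((p - 1) / 2) h
              omega
          · obtain ⟨c, hc⟩ := hok
            refine ⟨c, ?_⟩
            have : (p - 1) = 2 * ((p - 1) / 2) := by omega
            rw [this, mul_assoc] at hc
            exact Nat.eq_of_mul_eq_mul_left two_pos hc
        rcases odd_field hp h7 hk hpl hmi with r | r <;> rw [r] <;> decide
      have hc := psl_primes hF
      rw [← Nat.card_congr e.toEquiv] at hc
      exact ⟨Or.inl ⟨F, i1, i2, hF, ⟨e⟩⟩, by omega, fun h => by omega⟩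
    · obtain ⟨N, hN, hN2, F, i1, i2, hF, ⟨e⟩⟩ := hnine
      have hc := psl_primes (F := F) (by simp [hF])
      have h360 := card_psl hF (c := 2 ^ 3 * 3 ^ 2 * 5) (by norm_num) (by norm_num)
      have hcard : Nat.card G = 2 ^ 4 * 3 ^ 2 * 5 := by
        have := N.card_mul_index
        rw [hN2, Nat.card_congr e.toEquiv, h360] at this
        rw [← this]
        norm_num
      have h3 : (Nat.card G).primeFactors.card ≤ 3 := by
        rw [hcard]
        refine primeFactors_le_three (s := {2, 3, 5}) (by decide) (by norm_num) fun p hp h => ?_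
        rcases hp.dvd_mul.1 h with h | h
        rcases hp.dvd_mul.1 h with h | h
        · simp [(Nat.prime_dvd_prime_iff_eq hp Nat.prime_two).1 (hp.dvd_of_dvd_pow h)]
        · simp [(Nat.prime_dvd_prime_iff_eq hp Nat.prime_three).1 (hp.dvd_of_dvd_pow h)]
        · simp [(Nat.prime_dvd_prime_iff_eq hp Nat.prime_five).1 h]
      exact ⟨Or.inr (Or.inl ⟨N, hN, hN2, F, i1, i2, hF, ⟨e⟩⟩), by omega, fun h => by omega⟩
    · refine ⟨Or.inr (Or.inr (Or.inl hfour)), ?_, fun _ => Or.inl hfour⟩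
      rw [hfour.2.1, show (20160 : ℕ) = 2 ^ 6 * 3 ^ 2 * (5 * 7) by norm_num]
      refine le_trans (Finset.card_le_card (t := ({2, 3, 5, 7} : Finset ℕ)) fun p hp => ?_) (by decide)
      obtain ⟨hp, hpd, -⟩ := Nat.mem_primeFactors.1 hp
      rcases hp.dvd_mul.1 hpd with h | h
      rcases hp.dvd_mul.1 h with h | h
      · simp [(Nat.prime_dvd_prime_iff_eq hp Nat.prime_two).1 (hp.dvd_of_dvd_pow h)]
      · simp [(Nat.prime_dvd_prime_iff_eq hp Nat.prime_three).1 (hp.dvd_of_dvd_pow h)]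
      · rcases hp.dvd_mul.1 h with h | h
        · simp [(Nat.prime_dvd_prime_iff_eq hp Nat.prime_five).1 h]
        · simp [(Nat.prime_dvd_prime_iff_eq hp (by norm_num : Nat.Prime 7)).1 h]

end CfsgLib.CIT.EPPO
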