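import Mathlib
import Cfsg.Agent.Lib.CIT.Steps
import Cfsg.Agent.Lib.CIT.CoreAbelian
import Cfsg.Agent.Lib.CIT.CoreExponent
import Cfsg.Agent.Lib.PSL2.Basic

/-!
# Nonsolvable groups with nilpotent centralizers: the possible extensions
-/

set_option autoImplicit false
set_option linter.style.haveILetI false

namespace CfsgLib.CIT

open Subgroup

universe u

/-- Extensions with an odd or exceptional quotient do not occur. -/
def QuotientNotOdd : Prop :=
  ∀ (G : Type u) [Group G] [Finite G], IsCIT G → Cfsg.pCore 2 G ≠ ⊥ →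
    ¬ (ShapeOdd (G ⧸ Cfsg.pCore 2 G) ∨ ShapeNine (G ⧸ Cfsg.pCore 2 G) ∨ ShapeFour (G ⧸ Cfsg.pCore 2 G))

/-- Over a Suzuki quotient the core is elementary abelian. -/
def SuzukiCore : Prop :=
  ∀ (G : Type u) [Group G] [Finite G], IsCIT G → Cfsg.pCore 2 G ≠ ⊥ →
    Cfsg.IsSuzuki (G ⧸ Cfsg.pCore 2 G) → (∃ M H, TI.Hyp (G := G ⧸ Cfsg.pCore 2 G) M H) →
      IsMulCommutative ↥(Cfsg.pCore 2 G) ∧ ∀ x ∈ Cfsg.pCore 2 G, x * x = 1

variable {G : Type u} [Group G] [Finite G]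

theorem not_comm_of_simple [IsSimpleGroup G] (hns : ¬ Group.IsSolvable G) : ¬ IsMulCommutative G := by
  intro h
  letI : CommGroup G := { (inferInstance : Group G) with mul_comm := h.1.1 }
  exact hns inferInstance

theorem three_dvd_card_psl {F : Type} [Field F] [Fintype F] {n : ℕ} (hn : Fintype.card F = 2 ^ n) :
    3 ∣ Nat.card (Matrix.ProjectiveSpecialLinearGroup (Fin 2) F) := by
  have h := Cfsg.Agent.Classical.card_psl_mul (F := F) 2 (by norm_num)
  have h1 : 1 < Fintype.card F := Fintype.one_lt_card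
  have hn1 : 1 ≤ n := by
    rcases Nat.eq_zero_or_pos n with e | e
    · rw [hn, e] at h1; simp at h1
    · exact e
  set c := Nat.card (Matrix.ProjectiveSpecialLinearGroup (Fin 2) F)
  have hg : Nat.gcd 2 (Fintype.card F - 1) = 1 :=
    CfsgLib.PSL2.gcd_eq_one (by rw [hn]; exact Even.pow_of_ne_zero even_two (by omega))
  rw [hg, one_mul, Fin.prod_univ_two] at h
  simp only [Fin.val_zero, Fin.val_one, pow_zero, pow_one] at h
  set q := Fintype.card F
  have h2 : q ^ 2 - q = (q - 1) * q := by rw [pow_two, Nat.sub_mul, one_mul]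
  rw [h2, mul_left_comm] at h
  rw [Nat.eq_of_mul_eq_mul_left (by omega) h]
  refine Dvd.dvd.mul_right ?_ _
  rw [hn, ← pow_mul, mul_comm, pow_mul]
  exact (Nat.modEq_iff_dvd' (Nat.one_le_pow _ _ (by norm_num))).1
    (by simpa using ((show 4 ≡ 1 [MOD 3] from rfl).pow n).symm)

/-- The structure of nonsolvable groups with nilpotent centralizers. -/
theorem cn_structure (hQ : QuotientNotOdd.{u}) (hS : SuzukiCore.{u}) (hns : ¬ Group.IsSolvable G)
    (hCN : Cfsg.IsCNGroup G) :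
    (IsSimpleGroup G ∧ ¬ IsMulCommutative G) ∨
    (∃ (N : Subgroup G), N.Normal ∧ N.index = 2 ∧ ∃ (F : Type) (_ : Field F) (_ : Fintype F),
      Fintype.card F = 9 ∧ Nonempty (N ≃* Matrix.ProjectiveSpecialLinearGroup (Fin 2) F)) ∨
    (∃ (N : Subgroup G) (_ : N.Normal), N ≠ ⊥ ∧ IsPGroup 2 N ∧ IsMulCommutative N ∧
      (∀ x ∈ N, x * x = 1) ∧
        ((∃ (F : Type) (_ : Field F) (_ : Fintype F), CharP F 2 ∧ 4 ≤ Fintype.card F ∧
            Nonempty (G ⧸ N ≃* Matrix.ProjectiveSpecialLinearGroup (Fin 2) F)) ∨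
          Cfsg.IsSuzuki (G ⧸ N))) := by
  haveI : Fact (Nat.Prime 2) := ⟨Nat.prime_two⟩
  have hG := isCIT_of_cn hns hCN
  obtain ⟨hO, hq, hqnt, hq2, hqO, -⟩ := hG.nonsolvable_structure hns
  by_cases h2 : Cfsg.pCore 2 G = ⊥
  · haveI : Nontrivial G := by
      by_contra h
      rw [not_nontrivial_iff_subsingleton] at h
      exact hns inferInstance
    rcases shapeAny_of_steps kleinStep countStep hG h2 hO with ⟨hs, -⟩ | ⟨hs, -⟩ |
        ⟨⟨hs, -⟩ | hnine | ⟨hs, -⟩, -⟩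
    · haveI := hs; exact Or.inl ⟨hs, not_comm_of_simple hns⟩
    · haveI := hs.1; exact Or.inl ⟨hs.1, not_comm_of_simple hns⟩
    · haveI := hs; exact Or.inl ⟨hs, not_comm_of_simple hns⟩
    · exact Or.inr (Or.inl hnine)
    · haveI := hs; exact Or.inl ⟨hs, not_comm_of_simple hns⟩
  haveI := hqnt
  rcases shapeAny_of_steps kleinStep countStep hq hq2 hqO with
      ⟨-, F, i1, i2, ⟨n, hn2, hn⟩, ⟨e⟩⟩ | ⟨hs, hTI⟩ | ⟨hodd, -⟩
  · have hchar : CharP F 2 := charP_of_card_eq_prime_pow hn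
    have h3 : 3 ∣ Nat.card (G ⧸ Cfsg.pCore 2 G) := by
      rw [Nat.card_congr e.toEquiv]; exact three_dvd_card_psl hn
    have h4 : 4 ≤ Fintype.card F := by
      rw [hn]; exact le_trans (by norm_num) (Nat.pow_le_pow_right (by norm_num) hn2)
    have hab := Core.comm_pCore hG hns h3
    haveI := hchar
    exact Or.inr (Or.inr ⟨Cfsg.pCore 2 G, inferInstance, h2, CfsgLib.PCore.pCore_isPGroup, hab,
      CoreExp.sq_eq_one hG hab h4 e, Or.inl ⟨F, i1, i2, hchar, h4, ⟨e⟩⟩⟩)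
  · obtain ⟨hab, hsq⟩ := hS G hG h2 hs hTI
    exact Or.inr (Or.inr ⟨Cfsg.pCore 2 G, inferInstance, h2, CfsgLib.PCore.pCore_isPGroup, hab,
      hsq, Or.inr hs⟩)
  · exact absurd hodd (hQ G hG h2)

end CfsgLib.CIT
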