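import Mathlib
import Cfsg.Agent.Lib.CIT.Fixed
import Cfsg.Agent.Lib.CIT.Defs
import Cfsg.Agent.Lib.PSL2.Dickson
import Cfsg.Agent.Lib.PSL2.Borel

/-!
# The quotient by `O₂` of a CIT group is not of odd type

In a CIT group with nontrivial `O₂` the quotient acts faithfully on `Ω₁(Z(O₂))`, elements of odd order
without fixed points. So it contains neither a noncyclic group of order 9, nor a Frobenius group of
odd order, nor two elements of order 3 with product of order 4 generating a simple group: this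
excludes `PSL₂(q)` for `q = 9` or a Fermat or Mersenne prime `q ≥ 7`, and `PSL₃(4)`.
-/

set_option autoImplicit false
set_option linter.style.haveILetI false

namespace CfsgLib.CIT.NoOdd

open Subgroup Matrix
open scoped MatrixGroups

universe u v w

/-- A nontrivial faithful representation over the field of two elements in which elements of odd
order act without fixed points. -/
structure FpfRep (Q : Type u) [Group Q] (W : Type w) [AddCommGroup W] where
  ρ : Q →* AddMonoid.End W
  two : ∀ w : W, w + w = 0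
  nontrivial : ∃ w : W, w ≠ 0
  fpf : ∀ q : Q, Odd (orderOf q) → q ≠ 1 → ∀ w : W, ρ q w = w → w = 0
  faithful : ∀ q : Q, ρ q = 1 → q = 1

variable {Q : Type u} [Group Q] {W : Type w} [AddCommGroup W]

/-- Restriction along an injective homomorphism. -/
def FpfRep.comap {X : Type v} [Group X] (R : FpfRep Q W) (f : X →* Q) (hf : Function.Injective f) :
    FpfRep X W where
  ρ := R.ρ.comp f
  two := R.two
  nontrivial := R.nontrivial
  fpf q ho hq := R.fpf (f q) (by rwa [orderOf_injective f hf])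
    (fun e => hq (hf (e.trans f.map_one.symm)))
  faithful q hq := hf ((R.faithful (f q) hq).trans f.map_one.symm)

variable (R : FpfRep Q W)

include R in
theorem add_self (a : AddMonoid.End W) : a + a = 0 := AddMonoidHom.ext fun w => R.two (a w)

include R in
theorem one_ne : (1 : AddMonoid.End W) ≠ 0 := fun e => by
  obtain ⟨w, hw⟩ := R.nontrivial
  exact hw (DFunLike.congr_fun e w)

/-- Geometric sums vanish. -/
theorem geom {q : Q} {n : ℕ} (hn : Odd n) (hq : q ^ n = 1) (hq1 : q ≠ 1) :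
    ∑ i ∈ Finset.range n, R.ρ q ^ i = 0 := by
  have ho : Odd (orderOf q) := hn.of_dvd_nat (orderOf_dvd_of_pow_eq_one hq)
  have h1 : R.ρ q * ∑ i ∈ Finset.range n, R.ρ q ^ i = ∑ i ∈ Finset.range n, R.ρ q ^ i := by
    have h := mul_geom_sum (R.ρ q) n
    rw [← map_pow, hq, map_one, sub_self, sub_mul, one_mul, sub_eq_zero] at h
    exact h
  exact AddMonoidHom.ext fun w => R.fpf q ho hq1 _ (DFunLike.congr_fun h1 w)

/-- An element of order three satisfies `X² = X + 1`. -/
theorem sq_eq {x : Q} (hx : x ^ 3 = 1) (hx1 : x ≠ 1) : R.ρ x * R.ρ x = R.ρ x + 1 := by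
  have h := geom R (n := 3) ⟨1, rfl⟩ hx hx1
  rw [Finset.sum_range_succ, Finset.sum_range_succ, Finset.sum_range_one, pow_zero, pow_one,
    pow_two] at h
  have h' : R.ρ x * R.ρ x + (1 + R.ρ x) = 0 := by rw [← h]; abel
  rw [eq_neg_of_add_eq_zero_left h', neg_eq_of_add_eq_zero_left (add_self R (1 + R.ρ x))]
  abel

include R in
/-- No noncyclic group of order 9. -/
theorem false_of_nine {x y : Q} (hx : x ^ 3 = 1) (hy : y ^ 3 = 1) (hxy : Commute x y)
    (hx1 : x ≠ 1) (hy1 : y ≠ 1) (hne : x ≠ y) (hprod : x * y ≠ 1) : False := by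
  have h2 := sq_eq R hx hx1
  have h3 := sq_eq R hy hy1
  have h4 := sq_eq R (show (x * y) ^ 3 = 1 by rw [hxy.mul_pow, hx, hy, one_mul]) hprod
  rw [map_mul] at h4
  have hc : R.ρ x * R.ρ y = R.ρ y * R.ρ x := by rw [← map_mul, ← map_mul, hxy.eq]
  have h5 : R.ρ x * R.ρ y * (R.ρ x * R.ρ y) = (R.ρ x + 1) * (R.ρ y + 1) := by
    rw [mul_assoc, ← mul_assoc (R.ρ y), ← hc, mul_assoc (R.ρ x) (R.ρ y), h3, ← mul_assoc, h2]
  rw [h5, add_mul, one_mul, mul_add, mul_one] at h4
  have h6 : R.ρ x + R.ρ y = 0 := by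
    have h7 : R.ρ x * R.ρ y + R.ρ x + (R.ρ y + 1) - (R.ρ x * R.ρ y + 1) = 0 := by
      rw [h4, sub_self]
    rw [← h7]
    abel
  have h8 : R.ρ x = R.ρ y := by
    rw [eq_neg_of_add_eq_zero_left h6, neg_eq_of_add_eq_zero_left (add_self R _)]
  apply hne
  refine (inv_mul_eq_one.1 (R.faithful (x⁻¹ * y) ?_))
  rw [map_mul, ← h8, ← map_mul, inv_mul_cancel, map_one]

include R in
/-- No Frobenius group of odd order. -/
theorem false_of_frobenius [Finite Q] {e u : Q} {U : Subgroup Q} {r : ℕ} (hr : r.Prime)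
    (hr2 : r ≠ 2) (he : e ^ r = 1) (hU : Odd (Nat.card ↥U))
    (hUc : ∀ a ∈ U, ∀ b ∈ U, Commute a b) (hu : u ∈ U) (hn : ∀ a ∈ U, e * a * e⁻¹ ∈ U)
    (hne : e * u ≠ u * e) : False := by
  classical
  have hnpow : ∀ j : ℕ, ∀ a ∈ U, e ^ j * a * (e ^ j)⁻¹ ∈ U := by
    intro j
    induction j with
    | zero => intro a ha; simpa using ha
    | succ j ih =>
      intro a ha
      have := hn _ (ih a ha)
      rw [pow_succ', show e * e ^ j * a * (e * e ^ j)⁻¹ = e * (e ^ j * a * (e ^ j)⁻¹) * e⁻¹ by group]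
      exact this
  have he1 : e ≠ 1 := fun h => hne (by rw [h, one_mul, mul_one])
  set p := orderOf u with hp
  have hpodd : Odd p := hU.of_dvd_nat (U.orderOf_dvd_natCard hu)
  let T : ℕ → AddMonoid.End W := fun j => ∑ i ∈ Finset.range p, R.ρ (u ^ i * e ^ j * (u ^ i)⁻¹)
  have hzero : ∀ j, j ∈ Finset.range r → j ≠ 0 → T j = 0 := by
    intro j hj hj0
    set u' := e ^ j * u * (e ^ j)⁻¹ with hu'
    have hu'U : u' ∈ U := hnpow j u hu
    have hd1 : u⁻¹ * u' ≠ 1 := by
      intro h
      have hc : Commute (e ^ j) u := by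
        show e ^ j * u = u * e ^ j
        have h' : e ^ j * u * (e ^ j)⁻¹ = u := (inv_mul_eq_one.1 h).symm
        rw [← mul_inv_eq_iff_eq_mul]
        exact h'
      apply hne
      obtain ⟨m, hm⟩ := exists_pow_eq_self_of_coprime (x := e) (n := j) (by
        rw [orderOf_eq_prime (hp := ⟨hr⟩) he he1]
        exact ((Nat.Prime.coprime_iff_not_dvd hr).2 fun hd =>
          absurd (Nat.le_of_dvd (Nat.pos_of_ne_zero hj0) hd)
            (not_le.2 (Finset.mem_range.1 hj))).symm)
      rw [← hm]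
      exact (hc.pow_left m).eq
    let g : AddMonoid.End W :=
      ∑ i ∈ Finset.range p, R.ρ (u ^ i * (e ^ j * (u ^ i)⁻¹ * (e ^ j)⁻¹))
    have hTg : T j = g * R.ρ (e ^ j) := by
      rw [Finset.sum_mul]
      refine Finset.sum_congr rfl fun i _ => ?_
      rw [← map_mul]
      congr 1
      group
    have hgc : ∀ a ∈ U, R.ρ a * g = g * R.ρ a := by
      intro a ha
      rw [Finset.sum_mul, Finset.mul_sum]
      refine Finset.sum_congr rfl fun i _ => ?_
      rw [← map_mul, ← map_mul, (hUc a ha _ (mul_mem (pow_mem hu i)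
        (hnpow j _ (inv_mem (pow_mem hu i))))).eq]
    have hshift : R.ρ u * T j = T j * R.ρ u := by
      have key : R.ρ u * T j = (∑ i ∈ Finset.range p, R.ρ (u ^ (i + 1) * e ^ j * (u ^ (i + 1))⁻¹)) *
          R.ρ u := by
        rw [Finset.sum_mul, Finset.mul_sum]
        refine Finset.sum_congr rfl fun i _ => ?_
        rw [← map_mul, ← map_mul]
        congr 1
        rw [pow_succ' u i]
        group
      rw [key]
      congr 1
      have h1 := Finset.sum_range_succ' (fun i => R.ρ (u ^ i * e ^ j * (u ^ i)⁻¹)) p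
      have h2 := Finset.sum_range_succ (fun i => R.ρ (u ^ i * e ^ j * (u ^ i)⁻¹)) p
      rw [h1, hp, pow_orderOf_eq_one, pow_zero] at h2
      exact add_right_cancel h2
    rw [hTg] at hshift
    have h1 : R.ρ u * g = g * R.ρ u' := by
      calc R.ρ u * g = R.ρ u * (g * R.ρ (e ^ j)) * R.ρ (e ^ j)⁻¹ := by
            rw [mul_assoc (R.ρ u), mul_assoc g, ← map_mul, mul_inv_cancel, map_one, mul_one]
        _ = g * R.ρ (e ^ j) * R.ρ u * R.ρ (e ^ j)⁻¹ := by rw [hshift]
        _ = g * R.ρ u' := by rw [mul_assoc g, mul_assoc g, ← map_mul, ← map_mul, ← hu']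
    set d := u⁻¹ * u' with hd
    have hdU : d ∈ U := mul_mem (inv_mem hu) hu'U
    have h2 : R.ρ u * g = R.ρ u * (R.ρ d * g) := by
      rw [← mul_assoc (R.ρ u), ← map_mul, hd, mul_inv_cancel_left, hgc u' hu'U]
      exact h1
    have h3 : R.ρ d * g = g := by
      have h4 := congrArg (fun z => R.ρ u⁻¹ * z) h2
      simp only [← mul_assoc, ← map_mul, inv_mul_cancel, map_one, one_mul] at h4
      exact h4.symm
    have hg : g = 0 := AddMonoidHom.ext fun w => R.fpf d (hU.of_dvd_nat (U.orderOf_dvd_natCard hdU))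
      hd1 _ (DFunLike.congr_fun h3 w)
    rw [hTg, hg, zero_mul]
  have hinner : ∀ i, ∑ j ∈ Finset.range r, R.ρ (u ^ i * e ^ j * (u ^ i)⁻¹) = 0 := by
    intro i
    have := geom R (q := u ^ i * e * (u ^ i)⁻¹) (n := r) (hr.odd_of_ne_two hr2)
      (by rw [conj_pow, he, mul_one, mul_inv_cancel]) (fun h => he1 (conj_eq_one_iff.1 h))
    simp only [← map_pow, conj_pow] at this
    exact this
  have hsum : ∑ j ∈ Finset.range r, T j = 0 := by
    rw [Finset.sum_comm]
    exact Finset.sum_eq_zero fun i _ => hinner i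
  rw [Finset.sum_eq_single 0 hzero (fun h => absurd (Finset.mem_range.2 hr.pos) h)] at hsum
  have h0 : T 0 = p • (1 : AddMonoid.End W) := by
    show ∑ i ∈ Finset.range p, R.ρ (u ^ i * e ^ 0 * (u ^ i)⁻¹) = _
    rw [Finset.sum_congr rfl (fun i _ => by
      rw [pow_zero, mul_one, mul_inv_cancel, map_one]), Finset.sum_const, Finset.card_range]
  rw [h0] at hsum
  obtain ⟨m, hm⟩ := hpodd
  rw [hm, add_nsmul, one_nsmul, mul_comm, mul_nsmul', two_nsmul, add_self R, nsmul_zero,
    zero_add] at hsum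
  exact one_ne R hsum

include R in
/-- No two elements of order three with product of order four generating a simple group. -/
theorem false_of_three_four [IsSimpleGroup Q] {x y : Q} (hx : x ^ 3 = 1) (hy : y ^ 3 = 1)
    (h4 : (x * y) ^ 4 = 1) (h2 : (x * y) ^ 2 ≠ 1) (hgen : closure ({x, y} : Set Q) = ⊤) :
    False := by
  have hx1 : x ≠ 1 := by
    rintro rfl
    rw [one_mul] at h2 h4
    rw [pow_succ, hy, one_mul] at h4
    exact h2 (by rw [h4, one_pow])
  have hy1 : y ≠ 1 := by
    rintro rfl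
    rw [mul_one] at h2 h4
    rw [pow_succ, hx, one_mul] at h4
    exact h2 (by rw [h4, one_pow])
  set X := R.ρ x with hX
  set Y := R.ρ y with hY
  have hXX : X * X = X + 1 := sq_eq R hx hx1
  have hYY : Y * Y = Y + 1 := sq_eq R hy hy1
  set θ := R.ρ (x * y) + R.ρ (x * y)⁻¹ with hθ
  have hinv : R.ρ (x * y)⁻¹ = (Y + 1) * (X + 1) := by
    have ex : x⁻¹ = x * x := inv_eq_of_mul_eq_one_right (by rw [← hx, pow_succ, pow_two, mul_assoc])
    have ey : y⁻¹ = y * y := inv_eq_of_mul_eq_one_right (by rw [← hy, pow_succ, pow_two, mul_assoc])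
    rw [_root_.mul_inv_rev, ex, ey, map_mul, map_mul, map_mul, hXX, hYY]
  have hθ' : θ = X * Y + (Y * X + Y + (X + 1)) := by
    rw [hθ, hinv, map_mul, add_mul, one_mul, mul_add, mul_one]
  have hcx : X * θ = θ * X := by
    have e1 : X * θ = Y + (X * Y * X + 1) +
        ((X + X) + (X * Y + X * Y)) := by
      rw [hθ', mul_add, mul_add, mul_add, mul_add, mul_one, ← mul_assoc X X Y, ← mul_assoc X Y X,
        hXX, add_mul, one_mul]
      abel
    have e2 : θ * X = Y + (X * Y * X + 1) +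
        ((X + X) + (Y * X + Y * X)) := by
      rw [hθ', add_mul, add_mul, add_mul, add_mul, one_mul, mul_assoc Y X X, hXX, mul_add, mul_one]
      abel
    rw [e1, e2, add_self R X, add_self R (X * Y), add_self R (Y * X)]
  have hcy : Y * θ = θ * Y := by
    have e1 : Y * θ = X + (Y * X * Y + 1) +
        ((Y + Y) + (Y * X + Y * X)) := by
      rw [hθ', mul_add, mul_add, mul_add, mul_add, mul_one, ← mul_assoc Y X Y, ← mul_assoc Y Y X,
        hYY, add_mul, one_mul]
      abel
    have e2 : θ * Y = X + (Y * X * Y + 1) +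
        ((Y + Y) + (X * Y + X * Y)) := by
      rw [hθ', add_mul, add_mul, add_mul, add_mul, one_mul, mul_assoc X Y Y, hYY, mul_add, mul_one]
      abel
    rw [e1, e2, add_self R Y, add_self R (X * Y), add_self R (Y * X)]
  have hθ2 : θ * θ = 0 := by
    set u := x * y
    have hu : u⁻¹ * u⁻¹ = u * u := by
      rw [← _root_.mul_inv_rev]
      refine inv_eq_of_mul_eq_one_right ?_
      rw [← h4]
      simp only [pow_succ, pow_zero, one_mul, mul_assoc]
    rw [hθ, add_mul, mul_add, mul_add, ← map_mul, ← map_mul, ← map_mul, ← map_mul, mul_inv_cancel,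
      inv_mul_cancel, hu, map_one, add_comm 1 (R.ρ (u * u)), add_add_add_comm, add_self R 1,
      add_zero, add_self R]
  have hall : ∀ q : Q, R.ρ q * θ = θ * R.ρ q := by
    intro q
    have hq : q ∈ closure ({x, y} : Set Q) := hgen ▸ mem_top q
    induction hq using closure_induction with
    | mem z hz =>
      rcases hz with rfl | rfl
      · exact hcx
      · exact hcy
    | one => rw [map_one, one_mul, mul_one]
    | mul a b _ _ ha hb => rw [map_mul, mul_assoc, hb, ← mul_assoc, ha, mul_assoc]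
    | inv a _ ha =>
      calc R.ρ a⁻¹ * θ = R.ρ a⁻¹ * (θ * R.ρ a) * R.ρ a⁻¹ := by
            rw [mul_assoc (R.ρ a⁻¹), mul_assoc θ, ← map_mul, mul_inv_cancel, map_one, mul_one]
        _ = R.ρ a⁻¹ * (R.ρ a * θ) * R.ρ a⁻¹ := by rw [ha]
        _ = θ * R.ρ a⁻¹ := by rw [← mul_assoc (R.ρ a⁻¹), ← map_mul, inv_mul_cancel, map_one, one_mul]
  obtain ⟨w₀, hw₀, hθw⟩ : ∃ w₀ : W, w₀ ≠ 0 ∧ θ w₀ = 0 := by
    obtain ⟨w, hw⟩ := R.nontrivial
    by_cases h : θ w = 0
    · exact ⟨w, hw, h⟩
    · exact ⟨θ w, h, DFunLike.congr_fun hθ2 w⟩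
  have hinvar : ∀ (q : Q) (w : W), θ w = 0 → θ (R.ρ q w) = 0 := fun q w hw => by
    have := DFunLike.congr_fun (hall q) w
    rw [AddMonoid.End.coe_mul, AddMonoid.End.coe_mul, Function.comp_apply, Function.comp_apply, hw,
      map_zero] at this
    exact this.symm
  let K : Subgroup Q :=
    { carrier := {q | ∀ w : W, θ w = 0 → R.ρ q w = w}
      one_mem' := fun w _ => by rw [map_one]; rfl
      mul_mem' := fun {a b} ha hb w hw => by
        show R.ρ (a * b) w = w
        rw [map_mul, AddMonoid.End.coe_mul, Function.comp_apply, hb w hw, ha w hw]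
      inv_mem' := fun {a} ha w hw => by
        show R.ρ a⁻¹ w = w
        conv_lhs => rw [← ha w hw]
        rw [← Function.comp_apply (f := R.ρ a⁻¹), ← AddMonoid.End.coe_mul, ← map_mul, inv_mul_cancel,
          map_one]
        rfl }
  have hK : K.Normal := ⟨fun k hk q w hw => by
    show R.ρ (q * k * q⁻¹) w = w
    rw [map_mul, map_mul, AddMonoid.End.coe_mul, Function.comp_apply, AddMonoid.End.coe_mul,
      Function.comp_apply, hk _ (hinvar q⁻¹ w hw), ← Function.comp_apply (f := R.ρ q),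
      ← AddMonoid.End.coe_mul, ← map_mul, mul_inv_cancel, map_one]
    rfl⟩
  have hmem : (x * y) ^ 2 ∈ K := by
    intro w hw
    have h := hw
    rw [hθ] at h
    have h' : R.ρ (x * y) w = R.ρ (x * y)⁻¹ w := by
      rw [eq_neg_of_add_eq_zero_left (show R.ρ (x * y) w + R.ρ (x * y)⁻¹ w = 0 from h)]
      exact neg_eq_of_add_eq_zero_left (R.two _)
    show R.ρ ((x * y) ^ 2) w = w
    rw [pow_two, map_mul, AddMonoid.End.coe_mul, Function.comp_apply, h',
      ← Function.comp_apply (f := R.ρ (x * y)), ← AddMonoid.End.coe_mul, ← map_mul, mul_inv_cancel,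
      map_one]
    rfl
  rcases hK.eq_bot_or_eq_top with e | e
  · exact h2 (mem_bot.1 (e ▸ hmem))
  · have hxo : Odd (orderOf x) := Odd.of_dvd_nat ⟨1, rfl⟩ (orderOf_dvd_of_pow_eq_one hx)
    exact hw₀ (R.fpf x hxo hx1 w₀ ((e ▸ mem_top x : x ∈ K) w₀ hθw))

/-! ### The representation of the quotient of a CIT group -/

/-- The action of `G` on the module by conjugation. -/
noncomputable def conjEnd (G : Type u) [Group G] [Finite G] :
    G →* AddMonoid.End (Additive ↥(vSub G)) where
  toFun g := AddMonoidHom.mk' (fun w => Additive.ofMul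
    (⟨g * ((Additive.toMul w : ↥(vSub G)) : G) * g⁻¹, conj_mem_vSub g (Additive.toMul w).2⟩ : ↥(vSub G)))
    fun a b => congrArg Additive.ofMul (Subtype.ext (by
      show g * (((Additive.toMul a : ↥(vSub G)) : G) * ((Additive.toMul b : ↥(vSub G)) : G)) * g⁻¹ =
        g * ((Additive.toMul a : ↥(vSub G)) : G) * g⁻¹ * (g * ((Additive.toMul b : ↥(vSub G)) : G) * g⁻¹)
      group))
  map_one' := AddMonoidHom.ext fun w => congrArg Additive.ofMul (Subtype.ext (by
    show (1 : G) * ((Additive.toMul w : ↥(vSub G)) : G) * (1 : G)⁻¹ = _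
    group
    rfl))
  map_mul' g g' := AddMonoidHom.ext fun w => congrArg Additive.ofMul (Subtype.ext (by
    show g * g' * ((Additive.toMul w : ↥(vSub G)) : G) * (g * g')⁻¹ =
      g * (g' * ((Additive.toMul w : ↥(vSub G)) : G) * g'⁻¹) * g⁻¹
    group))

theorem conjEnd_fix {G : Type u} [Group G] [Finite G] {g : G} {w : Additive ↥(vSub G)}
    (h : conjEnd G g w = w) : g * ((Additive.toMul w : ↥(vSub G)) : G) = ((Additive.toMul w : ↥(vSub G)) : G) * g := by
  have h' : g * ((Additive.toMul w : ↥(vSub G)) : G) * g⁻¹ = ((Additive.toMul w : ↥(vSub G)) : G) :=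
    congrArg (fun z => ((Additive.toMul z : ↥(vSub G)) : G)) h
  exact mul_inv_eq_iff_eq_mul.1 h'

theorem vSub_isMulCommutative {G : Type u} [Group G] [Finite G] (a b : ↥(vSub G)) : a * b = b * a :=
  Subtype.ext (vSub_comm a.2 (vSub_le b.2)).eq

/-- The module is commutative. -/
noncomputable instance vSubCommGroup {G : Type u} [Group G] [Finite G] : CommGroup ↥(vSub G) :=
  { (inferInstance : Group ↥(vSub G)) with mul_comm := vSub_isMulCommutative }

/-- The quotient by `O₂` of a CIT group acts faithfully, elements of odd order fixed-point-freely. -/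
noncomputable def quotRep {G : Type u} [Group G] [Finite G] (hG : IsCIT G)
    (hD : Cfsg.pCore 2 G ≠ ⊥) : FpfRep (G ⧸ Cfsg.pCore 2 G) (Additive ↥(vSub G)) where
  ρ := QuotientGroup.lift _ (conjEnd G) fun d hd => by
    rw [MonoidHom.mem_ker]
    refine AddMonoidHom.ext fun w => congrArg Additive.ofMul (Subtype.ext ?_)
    show d * ((Additive.toMul w : ↥(vSub G)) : G) * d⁻¹ = ((Additive.toMul w : ↥(vSub G)) : G)
    rw [← (vSub_comm (Additive.toMul w).2 hd).eq, mul_inv_cancel_right]
  two w := congrArg Additive.ofMul (Subtype.ext (vSub_sq (Additive.toMul w).2))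
  nontrivial := by
    obtain ⟨⟨v, hv⟩, hv1⟩ := ne_bot_iff_exists_ne_one.1 (vSub_ne_bot hD)
    exact ⟨Additive.ofMul ⟨v, hv⟩, fun e => hv1 (Additive.ofMul.injective e)⟩
  fpf q ho hq w hw := by
    induction q using QuotientGroup.induction_on with | _ g =>
    by_contra hne
    have hl : IsTwo g := isTwo_of_mem
      (hG.centralizer_two (isTwo_of_mem vSub_isPGroup (Additive.toMul w).2) (fun e => hne (by
        refine Additive.toMul.injective (Subtype.ext ?_)
        exact e)))
      (mem_centralizer_singleton_iff.2 (conjEnd_fix hw))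
    refine hq (eq_one_of_isTwo_of_odd ?_ ho)
    obtain ⟨k, hk⟩ := hl
    exact ⟨k, by rw [← QuotientGroup.mk_pow, hk]; rfl⟩
  faithful q hq := by
    induction q using QuotientGroup.induction_on with | _ g =>
    rw [QuotientGroup.eq_one_iff, ← centralizer_vSub hG hD, mem_centralizer_iff]
    intro v hv
    exact (conjEnd_fix (w := Additive.ofMul ⟨v, hv⟩) (DFunLike.congr_fun hq _)).symm

/-! ### Elements of `PSL` -/

section PSL

variable {F : Type v} [Field F]

theorem scalar_of_mk_eq {n : ℕ} {A B : Matrix.SpecialLinearGroup (Fin n) F}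
    (h : (QuotientGroup.mk A : ProjectiveSpecialLinearGroup (Fin n) F) = QuotientGroup.mk B) :
    ∃ c : F, (B : Matrix (Fin n) (Fin n) F) = c • (A : Matrix (Fin n) (Fin n) F) := by
  obtain ⟨c, -, hc⟩ := Matrix.SpecialLinearGroup.mem_center_iff.1
    ((QuotientGroup.eq (s := Subgroup.center (Matrix.SpecialLinearGroup (Fin n) F))).1 h)
  refine ⟨c, ?_⟩
  calc (B : Matrix (Fin n) (Fin n) F) = ((A * (A⁻¹ * B) : Matrix.SpecialLinearGroup (Fin n) F) :
        Matrix (Fin n) (Fin n) F) := by rw [mul_inv_cancel_left]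
    _ = (A : Matrix (Fin n) (Fin n) F) * Matrix.scalar (Fin n) c := by
        rw [Matrix.SpecialLinearGroup.coe_mul, hc]
    _ = c • (A : Matrix (Fin n) (Fin n) F) := by
        ext i j
        rw [scalar_apply, Matrix.mul_diagonal, Matrix.smul_apply, smul_eq_mul, mul_comm]

/-- The upper unitriangular element. -/
def upper (a : F) : Matrix.SpecialLinearGroup (Fin 2) F := ⟨!![1, a; 0, 1], by simp [Matrix.det_fin_two]⟩

theorem upper_mul (a b : F) : upper a * upper b = upper (a + b) := by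
  refine Subtype.ext (Matrix.ext fun i j => ?_)
  rw [Matrix.SpecialLinearGroup.coe_mul]
  fin_cases i <;> fin_cases j <;> simp [upper, Matrix.mul_apply, Fin.sum_univ_two] <;> ring

/-- The unipotent subgroup as a homomorphism. -/
def upperHom : Multiplicative F →* ProjectiveSpecialLinearGroup (Fin 2) F :=
  MonoidHom.mk' (fun a => (upper (Multiplicative.toAdd a) : Matrix.SpecialLinearGroup (Fin 2) F))
    fun a b => by
      show ((upper (Multiplicative.toAdd a + Multiplicative.toAdd b)) :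
        ProjectiveSpecialLinearGroup (Fin 2) F) = _
      rw [← upper_mul]
      rfl

theorem upperHom_injective : Function.Injective (upperHom (F := F)) := by
  intro a b h
  obtain ⟨c, hc⟩ := scalar_of_mk_eq h
  have h1 := congrFun (congrFun hc 0) 0
  have h2 := congrFun (congrFun hc 0) 1
  simp [upper] at h1 h2
  rw [← h1, one_mul] at h2
  exact Multiplicative.toAdd.injective h2.symm

variable [Fintype F]

/-- `PSL₂(q)` with `3 ∣ q` and `q > 3`. -/
theorem false_of_char_three (hF : Fintype.card F = 9) {W : Type w} [AddCommGroup W]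
    (R : FpfRep (ProjectiveSpecialLinearGroup (Fin 2) F) W) : False := by
  classical
  have h3 : (3 : F) = 0 := by
    have h9 := Nat.cast_card_eq_zero F
    rw [hF] at h9
    have h' : (3 : F) * 3 = 0 := by norm_num; simpa using h9
    exact mul_self_eq_zero.1 h'
  obtain ⟨b, hb0, hb1, hb2⟩ : ∃ b : F, b ≠ 0 ∧ b ≠ 1 ∧ b ≠ -1 := by
    by_contra hcon
    push Not at hcon
    have := Finset.card_le_card (fun z (_ : z ∈ (Finset.univ : Finset F)) =>
      show z ∈ ({0, 1, -1} : Finset F) by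
        rcases eq_or_ne z 0 with e | e
        · simp [e]
        rcases eq_or_ne z 1 with e' | e'
        · simp [e']
        · simp [hcon z e e'])
    rw [Finset.card_univ, hF] at this
    have := this.trans Finset.card_le_three
    omega
  have hpow : ∀ a : F, upperHom (Multiplicative.ofAdd a) ^ 3 = 1 := fun a => by
    rw [← map_pow, ← ofAdd_nsmul, nsmul_eq_mul, Nat.cast_ofNat, h3, zero_mul, ofAdd_zero, map_one]
  have hne : ∀ a c : F, a ≠ c →
      upperHom (Multiplicative.ofAdd a) ≠ upperHom (Multiplicative.ofAdd c) := fun a c hac e =>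
    hac (Multiplicative.ofAdd.injective (upperHom_injective e))
  have hone : upperHom (Multiplicative.ofAdd (0 : F)) = 1 := by rw [ofAdd_zero, map_one]
  refine false_of_nine R (hpow 1) (hpow b) ((Commute.all _ _).map upperHom)
    (hone ▸ hne 1 0 one_ne_zero) (hone ▸ hne b 0 hb0) (hne 1 b hb1.symm) ?_
  rw [← map_mul, ← ofAdd_add, ← hone]
  exact hne _ _ fun e => hb2 (eq_neg_of_add_eq_zero_right e)

/-- The diagonal element. -/
def diagU (c : Fˣ) : Matrix.SpecialLinearGroup (Fin 2) F :=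
  ⟨!![(c : F), 0; 0, (↑c⁻¹ : F)], by simp [Matrix.det_fin_two]⟩

theorem diagU_mul (c d : Fˣ) : diagU c * diagU d = diagU (c * d) := by
  refine Subtype.ext (Matrix.ext fun i j => ?_)
  rw [Matrix.SpecialLinearGroup.coe_mul]
  fin_cases i <;> fin_cases j <;> simp [diagU, Matrix.mul_apply, Fin.sum_univ_two, mul_comm]

/-- The torus as a homomorphism. -/
def diagHom : Fˣ →* ProjectiveSpecialLinearGroup (Fin 2) F :=
  MonoidHom.mk' (fun c => (diagU c : Matrix.SpecialLinearGroup (Fin 2) F)) fun c d => by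
    show ((diagU (c * d)) : ProjectiveSpecialLinearGroup (Fin 2) F) = _
    rw [← diagU_mul]
    rfl

theorem diag_conj (c : Fˣ) (a : F) :
    diagHom c * upperHom (Multiplicative.ofAdd a) * (diagHom c)⁻¹ =
      upperHom (Multiplicative.ofAdd ((c : F) * c * a)) := by
  rw [mul_inv_eq_iff_eq_mul]
  show ((diagU c * upper a : Matrix.SpecialLinearGroup (Fin 2) F) : ProjectiveSpecialLinearGroup (Fin 2) F) =
    ((upper ((c : F) * c * a) * diagU c : Matrix.SpecialLinearGroup (Fin 2) F) : _)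
  congr 1
  refine Subtype.ext (Matrix.ext fun i j => ?_)
  rw [Matrix.SpecialLinearGroup.coe_mul, Matrix.SpecialLinearGroup.coe_mul]
  fin_cases i <;> fin_cases j <;> simp [diagU, upper, Matrix.mul_apply, Fin.sum_univ_two]
  field_simp

/-- `PSL₂(q)` with an odd prime dividing `q - 1`, `q` odd. -/
theorem false_of_borel (hF : Odd (Fintype.card F)) {r : ℕ} (hr : r.Prime) (hr2 : r ≠ 2)
    (hrd : r ∣ Fintype.card F - 1) {W : Type w} [AddCommGroup W]
    (R : FpfRep (ProjectiveSpecialLinearGroup (Fin 2) F) W) : False := by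
  classical
  haveI : Fact r.Prime := ⟨hr⟩
  obtain ⟨c, hc⟩ := exists_prime_orderOf_dvd_card' (G := Fˣ) r
    (by rwa [Nat.card_eq_fintype_card, Fintype.card_units])
  refine false_of_frobenius R (e := diagHom c) (u := upperHom (Multiplicative.ofAdd (1 : F)))
    (U := (upperHom (F := F)).range) hr hr2 ?_ ?_ ?_ ⟨_, rfl⟩ ?_ ?_
  · rw [← map_pow, ← hc, pow_orderOf_eq_one, map_one]
  · refine Odd.of_dvd_nat ?_ (Subgroup.card_range_dvd _)
    rwa [Nat.card_congr Multiplicative.toAdd, Nat.card_eq_fintype_card]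
  · rintro _ ⟨a, rfl⟩ _ ⟨b, rfl⟩
    exact (Commute.all a b).map upperHom
  · rintro _ ⟨a, rfl⟩
    exact ⟨_, (diag_conj c (Multiplicative.toAdd a)).symm⟩
  · intro h
    have h1 := diag_conj c (1 : F)
    rw [h, mul_inv_cancel_right, mul_one] at h1
    have h2 : ((c : F) * c) = 1 := (Multiplicative.ofAdd.injective (upperHom_injective h1)).symm
    have h3 : c ^ 2 = 1 := Units.ext (by rw [pow_two, Units.val_mul, h2, Units.val_one])
    have h4 := orderOf_dvd_of_pow_eq_one h3
    rw [hc] at h4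
    exact hr2 ((Nat.prime_dvd_prime_iff_eq hr Nat.prime_two).1 h4)

theorem mul_self_eq (M : Matrix.SpecialLinearGroup (Fin 2) F) :
    (M : Matrix (Fin 2) (Fin 2) F) * (M : Matrix (Fin 2) (Fin 2) F) =
      (M : Matrix (Fin 2) (Fin 2) F).trace • (M : Matrix (Fin 2) (Fin 2) F) - 1 := by
  have hdet := M.2
  rw [Matrix.det_fin_two] at hdet
  ext i j
  fin_cases i <;> fin_cases j <;> simp [Matrix.mul_apply, Fin.sum_univ_two, Matrix.trace_fin_two] <;>
    grind

theorem perm_four_facts :
    (∀ g : Equiv.Perm (Fin 4), g ^ 3 = 1 → Equiv.Perm.sign g = 1) ∧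
    (∀ g : Equiv.Perm (Fin 4), Equiv.Perm.sign g = 1 → g ^ 4 = 1 → g ^ 2 = 1) := by
  refine ⟨?_, ?_⟩ <;> decide +kernel

theorem perm_five_facts :
    ∀ g : Equiv.Perm (Fin 5), Equiv.Perm.sign g = 1 → g ^ 4 = 1 → g ^ 2 = 1 := by
  decide +kernel

/-- Two elements of order three with product of order four generate `PSL₂(p)`, `3 ∤ p (p - 1)`. -/
theorem closure_eq_top (p : ℕ) [Fact p.Prime] [CharP F p] (hF : Fintype.card F = p) (hp2 : p ≠ 2)
    (hp3 : ¬ 3 ∣ p * (p - 1)) {x y : ProjectiveSpecialLinearGroup (Fin 2) F} (hx : x ^ 3 = 1)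
    (hy : y ^ 3 = 1) (h4 : (x * y) ^ 4 = 1) (h2 : (x * y) ^ 2 ≠ 1) :
    closure ({x, y} : Set (ProjectiveSpecialLinearGroup (Fin 2) F)) = ⊤ := by
  classical
  set H := closure ({x, y} : Set (ProjectiveSpecialLinearGroup (Fin 2) F)) with hH
  have hxH : x ∈ H := subset_closure (by simp)
  have hyH : y ∈ H := subset_closure (by simp)
  have hnc : x * y ≠ y * x := by
    intro h
    have h3 : (x * y) ^ 3 = 1 := by rw [Commute.mul_pow h, hx, hy, one_mul]
    rw [pow_succ, h3, one_mul] at h4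
    exact h2 (by rw [h4, one_pow])
  have hord : ∀ (T : Type) (_ : Group T) (φ : ↥H →* T), Function.Injective φ →
      (∀ a b : T, a ^ 3 = 1 → b ^ 3 = 1 → (a * b) ^ 4 = 1 → (a * b) ^ 2 = 1) → False := by
    intro T _ φ hφ hT
    apply h2
    have hsub : ∀ (z : ↥H) (n : ℕ), (z : ProjectiveSpecialLinearGroup (Fin 2) F) ^ n = 1 →
        φ z ^ n = 1 := fun z n hz => by
      rw [← map_pow, show z ^ n = 1 from Subtype.ext (by rw [SubgroupClass.coe_pow, hz]; rfl),
        map_one]
    have := hT (φ ⟨x, hxH⟩) (φ ⟨y, hyH⟩) (hsub _ 3 hx) (hsub _ 3 hy)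
      (by rw [← map_mul]; exact hsub _ 4 h4)
    rw [← map_mul, ← map_pow, ← φ.map_one] at this
    exact congrArg Subtype.val (hφ this)
  rcases CfsgLib.PSL2.dickson_psl p H with ⟨z, hz⟩ | ⟨k, -, ⟨hcyc, -⟩ | ⟨⟨e⟩⟩⟩ | ⟨⟨e⟩⟩ | ⟨⟨e⟩⟩ |
    ⟨⟨e⟩⟩ | ⟨S, -, hS⟩
  · exfalso
    have hxz : x ∈ CfsgLib.PSL2.pslPointStab z := hz x hxH
    have hx1 : orderOf x = 3 := by
      haveI : Fact (Nat.Prime 3) := ⟨Nat.prime_three⟩
      refine orderOf_eq_prime hx fun e => hnc (by rw [e, one_mul, mul_one])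
    have hd : 3 ∣ Nat.card ↥(CfsgLib.PSL2.pslPointStab z) := hx1 ▸ Subgroup.orderOf_dvd_natCard _ hxz
    have hc := CfsgLib.PSL2.card_pslPointStab z
    rw [hF] at hc
    exact hp3 (hc ▸ dvd_mul_of_dvd_right hd _)
  · exfalso
    haveI := hcyc
    exact hnc (congrArg Subtype.val
      (IsCyclic.commGroup.mul_comm (⟨x, hxH⟩ : ↥H) ⟨y, hyH⟩))
  · exfalso
    apply hnc
    have key : ∀ w : DihedralGroup k, w ^ 3 = 1 → ∃ i, w = DihedralGroup.r i := by
      rintro (i | i) hw
      · exact ⟨i, rfl⟩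
      · exfalso
        rw [pow_succ, pow_two, DihedralGroup.sr_mul_self, one_mul] at hw
        rw [DihedralGroup.one_def] at hw
        cases hw
    have hp : ∀ (z : ↥H), (z : ProjectiveSpecialLinearGroup (Fin 2) F) ^ 3 = 1 → e z ^ 3 = 1 :=
      fun z hz => by
        rw [← map_pow, show z ^ 3 = 1 from Subtype.ext (by rw [SubgroupClass.coe_pow, hz]; rfl),
          map_one]
    obtain ⟨i, hi⟩ := key _ (hp ⟨x, hxH⟩ hx)
    obtain ⟨j, hj⟩ := key _ (hp ⟨y, hyH⟩ hy)
    have : (⟨x, hxH⟩ : ↥H) * ⟨y, hyH⟩ = ⟨y, hyH⟩ * ⟨x, hxH⟩ := e.injective (by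
      rw [map_mul, map_mul, hi, hj, DihedralGroup.r_mul_r, DihedralGroup.r_mul_r, add_comm])
    exact congrArg Subtype.val this
  · refine (hord _ inferInstance ((alternatingGroup (Fin 4)).subtype.comp e.toMonoidHom)
      ((alternatingGroup (Fin 4)).subtype_injective.comp e.injective) ?_).elim
    intro a b ha hb hab
    exact perm_four_facts.2 _
      (by rw [map_mul, perm_four_facts.1 a ha, perm_four_facts.1 b hb, one_mul]) hab
  · refine (hord _ inferInstance e.toMonoidHom e.injective ?_).elim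
    intro a b ha hb hab
    exact perm_four_facts.2 _
      (by rw [map_mul, perm_four_facts.1 a ha, perm_four_facts.1 b hb, one_mul]) hab
  · refine (hord _ inferInstance e.toMonoidHom e.injective ?_).elim
    intro a b _ _ hab
    have h := perm_five_facts ((a * b : alternatingGroup (Fin 5)) : Equiv.Perm (Fin 5))
      (Equiv.Perm.mem_alternatingGroup.1 (a * b).2)
      (by rw [← SubgroupClass.coe_pow, hab]; rfl)
    exact Subtype.ext (by rw [SubgroupClass.coe_pow, h]; rfl)
  · haveI : CharP S p := (RingHom.charP_iff_charP S.subtype p).2 inferInstance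
    obtain ⟨n, -, hn⟩ := FiniteField.card S p
    have hle : Fintype.card S ≤ p := hF ▸ Fintype.card_le_of_injective _ Subtype.val_injective
    have hcS : Fintype.card S = p := le_antisymm hle
      (hn ▸ Nat.le_self_pow n.ne_zero p)
    refine Subgroup.eq_top_of_card_eq _ ?_
    have hpsl := CfsgLib.PSL2.card_psl (F := F)
    have hpslS := CfsgLib.PSL2.card_psl (F := S)
    rw [hcS] at hpslS
    rw [hF] at hpsl
    rcases hS with ⟨⟨e⟩⟩ | ⟨⟨e⟩⟩
    · rw [Nat.card_congr e.toEquiv]
      exact Nat.eq_of_mul_eq_mul_left (Nat.gcd_pos_of_pos_left _ Nat.two_pos)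
        (hpslS.trans hpsl.symm)
    · exfalso
      have hpgl := CfsgLib.PSL2.card_pgl (F := S)
      rw [hcS, ← Nat.card_congr e.toEquiv] at hpgl
      have hle' : Nat.card ↥H ≤ Nat.card (ProjectiveSpecialLinearGroup (Fin 2) F) :=
        Nat.card_le_card_of_injective _ H.subtype_injective
      have hg : Nat.gcd 2 (p - 1) = 2 := Nat.gcd_eq_left (by
        have := (Fact.out : p.Prime).odd_of_ne_two hp2
        obtain ⟨m, hm⟩ := this
        omega)
      rw [hg] at hpsl
      have hpos : 0 < Nat.card (ProjectiveSpecialLinearGroup (Fin 2) F) := Nat.card_pos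
      omega

/-- `PSL₂(p)`, `p ≡ 1 mod 8` and `3 ∤ p (p - 1)`. -/
theorem false_of_fermat (p : ℕ) [Fact p.Prime] [CharP F p] (hF : Fintype.card F = p)
    (hp3 : ¬ 3 ∣ p * (p - 1)) (h8 : p % 8 = 1) {W : Type w} [AddCommGroup W]
    (R : FpfRep (ProjectiveSpecialLinearGroup (Fin 2) F) W) : False := by
  classical
  have hp2 : p ≠ 2 := by omega
  have h4p : 4 ≤ p := by have := (Fact.out : p.Prime).two_le; omega
  have two_ne : (2 : F) ≠ 0 := Ring.two_ne_zero (by rw [ringChar.eq F p]; exact hp2)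
  have three_ne : (3 : F) ≠ 0 := by
    intro h
    have h' : ((3 : ℕ) : F) = 0 := by exact_mod_cast h
    rw [CharP.cast_eq_zero_iff F p, Nat.prime_dvd_prime_iff_eq Fact.out Nat.prime_three] at h'
    omega
  obtain ⟨s, hs⟩ := FiniteField.isSquare_two_iff.2
    (⟨by rw [hF]; omega, by rw [hF]; omega⟩ : Fintype.card F % 8 ≠ 3 ∧ Fintype.card F % 8 ≠ 5)
  obtain ⟨T, c, hTc⟩ : ∃ T c : F, T ^ 2 + (3 * c ^ 2 + (4 * s - 2) * c + 3) = 0 := by
    open Polynomial in
    obtain ⟨T, c, h⟩ := FiniteField.exists_root_sum_quadratic (R := F) (f := X ^ 2)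
      (g := C 3 * X ^ 2 + C (4 * s - 2) * X + C 3) (by simp) (degree_quadratic three_ne)
      (by rw [hF]; omega)
    exact ⟨T, c, by simpa using h⟩
  set a : F := (T + c - 1) / 2 with ha
  set b : F := s - 1 - a + c with hb
  have hdet : a * (-1 - a) - b * c = 1 := by
    have h2a : 2 * a = T + c - 1 := by rw [ha]; field_simp
    refine mul_left_cancel₀ (mul_ne_zero two_ne two_ne) ?_
    rw [hb]
    linear_combination (-1) * hTc + (-(2 * a) - (T + c - 1) - 2 + 2 * c) * h2a
  let X : Matrix.SpecialLinearGroup (Fin 2) F := ⟨!![0, -1; 1, -1], by simp [Matrix.det_fin_two]⟩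
  let Y : Matrix.SpecialLinearGroup (Fin 2) F :=
    ⟨!![a, b; c, -1 - a], by simp [Matrix.det_fin_two, hdet]⟩
  have cube : ∀ M : Matrix.SpecialLinearGroup (Fin 2) F, (M : Matrix (Fin 2) (Fin 2) F).trace = -1 →
      M ^ 3 = 1 := by
    intro M hM
    have h := mul_self_eq M
    rw [hM] at h
    have h' : ((M ^ 3 : Matrix.SpecialLinearGroup (Fin 2) F) : Matrix (Fin 2) (Fin 2) F) =
        ((1 : Matrix.SpecialLinearGroup (Fin 2) F) : Matrix (Fin 2) (Fin 2) F) := by
      rw [Matrix.SpecialLinearGroup.coe_pow, Matrix.SpecialLinearGroup.coe_one, pow_succ, pow_two, h, sub_mul,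
        smul_mul_assoc, h, one_mul]
      module
    exact Subtype.ext h'
  have hX3 := cube X (by simp [X, Matrix.trace_fin_two])
  have hY3 := cube Y (by simp [Y, Matrix.trace_fin_two])
  set M := X * Y
  have htr : (M : Matrix (Fin 2) (Fin 2) F).trace = s := by
    show ((X * Y : Matrix.SpecialLinearGroup (Fin 2) F) : Matrix (Fin 2) (Fin 2) F).trace = s
    rw [Matrix.SpecialLinearGroup.coe_mul]
    simp [X, Y, Matrix.trace_fin_two, Matrix.mul_apply, Fin.sum_univ_two, hb]
    ring
  have hsq := mul_self_eq M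
  rw [htr] at hsq
  have hM4 : M ^ 4 = (-1 : F) • (1 : Matrix (Fin 2) (Fin 2) F) := by
    rw [show (4 : ℕ) = 2 + 2 from rfl, pow_add, pow_two, hsq, sub_mul, mul_sub, mul_sub,
      smul_mul_smul_comm, hsq, mul_one, one_mul, one_mul, ← hs]
    module
  have hxy4 : ((M : Matrix.SpecialLinearGroup (Fin 2) F) : ProjectiveSpecialLinearGroup (Fin 2) F) ^ 4
      = 1 := by
    rw [← QuotientGroup.mk_pow, QuotientGroup.eq_one_iff, Matrix.SpecialLinearGroup.mem_center_iff]
    refine ⟨-1, by norm_num, ?_⟩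
    rw [Matrix.SpecialLinearGroup.coe_pow, hM4, scalar_apply, smul_one_eq_diagonal]
  have hxy2 : ((M : Matrix.SpecialLinearGroup (Fin 2) F) : ProjectiveSpecialLinearGroup (Fin 2) F) ^ 2
      ≠ 1 := by
    rw [← QuotientGroup.mk_pow, Ne, QuotientGroup.eq_one_iff, Matrix.SpecialLinearGroup.mem_center_iff]
    rintro ⟨r, -, hr⟩
    rw [Matrix.SpecialLinearGroup.coe_pow, pow_two, hsq] at hr
    have hs0 : s ≠ 0 := fun e => two_ne (by rw [hs, e, mul_zero])
    have e01 := congrFun (congrFun hr 0) 1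
    have e10 := congrFun (congrFun hr 1) 0
    have e00 := congrFun (congrFun hr 0) 0
    have e11 := congrFun (congrFun hr 1) 1
    simp [hs0] at e01 e10
    simp at e00 e11
    have hd := M.2
    rw [Matrix.det_fin_two, e01, zero_mul, sub_zero] at hd
    rw [Matrix.trace_fin_two] at htr
    have heq : (M : Matrix (Fin 2) (Fin 2) F) 0 0 = (M : Matrix (Fin 2) (Fin 2) F) 1 1 :=
      mul_left_cancel₀ hs0 (by linear_combination e11 - e00)
    rw [← heq] at hd htr
    apply two_ne
    linear_combination (-1 : F) * hs + (s + 2 * (M : Matrix (Fin 2) (Fin 2) F) 0 0) * htr - 4 * hd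
  haveI : IsSimpleGroup (ProjectiveSpecialLinearGroup (Fin 2) F) :=
    ProjectiveSpecialLinearGroup.rank_two_simple (F := F) (by rw [Nat.card_eq_fintype_card, hF]; omega)
  have hx3 : ((X : Matrix.SpecialLinearGroup (Fin 2) F) : ProjectiveSpecialLinearGroup (Fin 2) F) ^ 3
      = 1 := by rw [← QuotientGroup.mk_pow, hX3]; rfl
  have hy3 : ((Y : Matrix.SpecialLinearGroup (Fin 2) F) : ProjectiveSpecialLinearGroup (Fin 2) F) ^ 3
      = 1 := by rw [← QuotientGroup.mk_pow, hY3]; rfl
  exact false_of_three_four R hx3 hy3 hxy4 hxy2 (closure_eq_top p hF hp2 hp3 hx3 hy3 hxy4 hxy2)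

/-- `PSL₃(4)`. -/
theorem false_of_psl_three (hF : Fintype.card F = 4) {W : Type w} [AddCommGroup W]
    (R : FpfRep (ProjectiveSpecialLinearGroup (Fin 3) F) W) : False := by
  classical
  obtain ⟨c, hc⟩ : ∃ c : Fˣ, orderOf c = 3 := by
    haveI : Fact (Nat.Prime 3) := ⟨Nat.prime_three⟩
    exact exists_prime_orderOf_dvd_card' (G := Fˣ) 3
      (by rw [Nat.card_eq_fintype_card, Fintype.card_units, hF])
  set w : F := (c : F) with hw
  have hw3 : w * w * w = 1 := by
    rw [hw, ← Units.val_mul, ← Units.val_mul, show c * c * c = c ^ orderOf c by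
      rw [hc, pow_succ, pow_two], pow_orderOf_eq_one, Units.val_one]
  have hw1 : w ≠ 1 := fun e => by
    rw [hw, Units.val_eq_one] at e
    simp [e] at hc
  let X : Matrix.SpecialLinearGroup (Fin 3) F :=
    ⟨!![1, 0, 0; 0, w, 0; 0, 0, w * w], by simp [Matrix.det_fin_three]; linear_combination hw3⟩
  let Y : Matrix.SpecialLinearGroup (Fin 3) F :=
    ⟨!![0, 1, 0; 0, 0, 1; 1, 0, 0], by simp [Matrix.det_fin_three]⟩
  have hX3 : X ^ 3 = 1 := by
    rw [pow_succ, pow_two]
    refine Subtype.ext (Matrix.ext fun i j => ?_)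
    rw [Matrix.SpecialLinearGroup.coe_mul, Matrix.SpecialLinearGroup.coe_mul,
      Matrix.SpecialLinearGroup.coe_one]
    fin_cases i <;> fin_cases j <;> simp [X, Matrix.mul_apply, Fin.sum_univ_three]
    · exact hw3
    · linear_combination (w * w * w + 1) * hw3
  have hY3 : Y ^ 3 = 1 := by
    rw [pow_succ, pow_two]
    refine Subtype.ext (Matrix.ext fun i j => ?_)
    rw [Matrix.SpecialLinearGroup.coe_mul, Matrix.SpecialLinearGroup.coe_mul,
      Matrix.SpecialLinearGroup.coe_one]
    fin_cases i <;> fin_cases j <;> simp [Y, Matrix.mul_apply, Fin.sum_univ_three]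
  have hcomm : (X * Y : Matrix.SpecialLinearGroup (Fin 3) F)⁻¹ * (Y * X) ∈
      Subgroup.center (Matrix.SpecialLinearGroup (Fin 3) F) := by
    rw [Matrix.SpecialLinearGroup.mem_center_iff]
    refine ⟨w, by rw [Fintype.card_fin, pow_succ, pow_two, hw3], ?_⟩
    have key : (((X * Y : Matrix.SpecialLinearGroup (Fin 3) F)) : Matrix (Fin 3) (Fin 3) F) *
        Matrix.scalar (Fin 3) w = ((Y * X : Matrix.SpecialLinearGroup (Fin 3) F) : Matrix (Fin 3) (Fin 3) F) := by
      ext i j
      rw [Matrix.SpecialLinearGroup.coe_mul, Matrix.SpecialLinearGroup.coe_mul]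
      fin_cases i <;> fin_cases j <;>
        simp [X, Y, Matrix.mul_apply, Fin.sum_univ_three, scalar_apply, Matrix.diagonal]
      linear_combination hw3
    rw [Matrix.SpecialLinearGroup.coe_mul, ← key, ← mul_assoc, ← Matrix.SpecialLinearGroup.coe_mul,
      inv_mul_cancel, Matrix.SpecialLinearGroup.coe_one, one_mul]
  refine false_of_nine R (x := ((X : Matrix.SpecialLinearGroup (Fin 3) F) : ProjectiveSpecialLinearGroup _ F))
    (y := ((Y : Matrix.SpecialLinearGroup (Fin 3) F) : ProjectiveSpecialLinearGroup _ F)) ?_ ?_ ?_ ?_ ?_ ?_ ?_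
  · rw [← QuotientGroup.mk_pow, hX3]; rfl
  · rw [← QuotientGroup.mk_pow, hY3]; rfl
  · show (QuotientGroup.mk (X * Y) : ProjectiveSpecialLinearGroup (Fin 3) F) =
      QuotientGroup.mk (Y * X)
    exact QuotientGroup.eq.2 hcomm
  · intro h
    obtain ⟨k, hk⟩ := scalar_of_mk_eq (A := X) (B := 1) h
    have e0 := congrFun (congrFun hk 0) 0
    have e1 := congrFun (congrFun hk 1) 1
    simp [X] at e0 e1
    rw [← e0, one_mul] at e1
    exact hw1 e1.symm
  · intro h
    obtain ⟨k, hk⟩ := scalar_of_mk_eq (A := Y) (B := 1) h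
    have e0 := congrFun (congrFun hk 0) 0
    simp [Y] at e0
  · intro h
    obtain ⟨k, hk⟩ := scalar_of_mk_eq (A := Y) (B := X) h.symm
    have e0 := congrFun (congrFun hk 0) 0
    simp [X, Y] at e0
  · intro h
    obtain ⟨k, hk⟩ := scalar_of_mk_eq (A := X * Y) (B := 1) h
    rw [Matrix.SpecialLinearGroup.coe_mul] at hk
    have e0 := congrFun (congrFun hk 0) 0
    simp [X, Y, Matrix.mul_apply, Fin.sum_univ_three] at e0

end PSL

end CfsgLib.CIT.NoOdd

namespace CfsgLib.CIT

universe u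

open NoOdd in
/-- The quotient by a nontrivial `O₂` is not of odd type. -/
theorem quotient_not_odd {G : Type u} [Group G] [Finite G] (hG : IsCIT G)
    (hQ : Cfsg.pCore 2 G ≠ ⊥) :
    ¬ (ShapeOdd (G ⧸ Cfsg.pCore 2 G) ∨ ShapeNine (G ⧸ Cfsg.pCore 2 G) ∨
      ShapeFour (G ⧸ Cfsg.pCore 2 G)) := by
  classical
  rintro (⟨-, F, iF, iFt, h7, hq, ⟨e⟩⟩ | ⟨N, -, -, F, iF, iFt, h9, ⟨e⟩⟩ |
    ⟨-, -, F, iF, iFt, h4, ⟨e⟩⟩)
  · let R := (quotRep hG hQ).comap e.symm.toMonoidHom e.symm.injective
    rcases hq with h9 | ⟨hp, k, hk | hk⟩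
    · exact false_of_char_three h9 R
    · -- Fermat prime
      obtain ⟨p, hpF⟩ : ∃ p, Fintype.card F = p := ⟨_, rfl⟩
      rw [hpF] at hp h7 hk
      haveI : Fact p.Prime := ⟨hp⟩
      haveI : CharP F p := charP_of_card_eq_prime hpF
      have hk3 : 3 ≤ k := by
        by_contra hk3
        have h1 : 2 ^ k ≤ 2 ^ 2 := Nat.pow_le_pow_right (by norm_num) (by omega)
        omega
      have h8 : p % 8 = 1 := by
        rw [hk, Nat.add_mod, Nat.dvd_iff_mod_eq_zero.1
          (show 8 ∣ 2 ^ k from Nat.pow_dvd_pow 2 hk3)]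
      have hk2 : (2 ^ k) % 3 = 1 := by
        rcases Nat.even_or_odd k with ⟨j, rfl⟩ | ⟨j, rfl⟩
        · rw [← two_mul, pow_mul, Nat.pow_mod]; norm_num
        · exfalso
          have hmod : (2 ^ (2 * j + 1)) % 3 = 2 := by
            rw [pow_succ, pow_mul, Nat.mul_mod, Nat.pow_mod]; norm_num
          have h3 : 3 ∣ p := Nat.dvd_of_mod_eq_zero (by rw [hk, Nat.add_mod, hmod])
          have := (Nat.prime_dvd_prime_iff_eq Nat.prime_three hp).1 h3
          omega
      refine false_of_fermat p hpF ?_ h8 R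
      rw [Nat.prime_three.dvd_mul]
      omega
    · -- Mersenne prime
      have hk1 : 1 ≤ k := by
        by_contra h0
        rw [show k = 0 by omega, pow_zero] at hk
        omega
      obtain ⟨j, rfl⟩ : ∃ j, k = j + 1 := ⟨k - 1, by omega⟩
      rw [pow_succ] at hk
      have hj2 : 2 ≤ j := by
        by_contra hj2
        have h1 : 2 ^ j ≤ 2 ^ 1 := Nat.pow_le_pow_right (by norm_num) (by omega)
        omega
      have he : 2 ∣ 2 ^ j := dvd_pow_self 2 (by omega)
      have h4j : 4 ≤ 2 ^ j := le_trans (by norm_num) (Nat.pow_le_pow_right (by norm_num) hj2)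
      obtain ⟨r, hr, hrd⟩ := Nat.exists_prime_and_dvd (show 2 ^ j - 1 ≠ 1 by omega)
      have hr2 : r ≠ 2 := fun er => by
        rw [er] at hrd
        omega
      refine false_of_borel (F := F) ?_ hr hr2 ?_ R
      · exact hp.odd_of_ne_two (by omega)
      · rw [show Fintype.card F - 1 = 2 * (2 ^ j - 1) by omega]
        exact dvd_mul_of_dvd_right hrd 2
  · exact false_of_char_three h9
      ((quotRep hG hQ).comap (N.subtype.comp e.symm.toMonoidHom)
        (N.subtype_injective.comp e.symm.injective))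
  · exact false_of_psl_three h4
      ((quotRep hG hQ).comap e.symm.toMonoidHom e.symm.injective)

end CfsgLib.CIT
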