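import Mathlib
import Cfsg.Agent.Lib.Suzuki.Basic
import Cfsg.Agent.Lib.Structure.Weights

/-!
# The Suzuki group as a matrix group, and additive functions on its field

The elements `U a b`, `H x`, `W` and `X5` of `Sz(q)`, their twisted natural modules, and the independence
of the Frobenius powers on `GF(q)`.
-/

set_option autoImplicit false
set_option linter.style.haveILetI false

namespace CfsgLib.CIT.SuzMod

open Matrix CfsgLib.Suzuki
open scoped MatrixGroups Classical

universe v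

/-- The parameters of `Sz(q)`, `q = 2 ^ (2 m + 1) ≥ 8`. -/
structure Par (F : Type v) [Field F] [Fintype F] [CharP F 2] where
  /-- the exponent -/
  m : ℕ
  one_le : 1 ≤ m
  card : Fintype.card F = 2 ^ (2 * m + 1)

variable {F : Type v} [Field F] [Fintype F] [CharP F 2] (P : Par F)

namespace Par

/-- The field automorphism whose square is the Frobenius map. -/
def θ : F →+* F :=
  haveI : Fact (Nat.Prime 2) := ⟨Nat.prime_two⟩
  iterateFrobenius F 2 (P.m + 1)

theorem θ_pow (x : F) : P.θ x = x ^ 2 ^ (P.m + 1) := iterateFrobenius_def 2 (P.m + 1) x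

theorem pow_q (x : F) : x ^ 2 ^ (2 * P.m + 1) = x := by rw [← P.card, FiniteField.pow_card]

theorem θθ (x : F) : P.θ (P.θ x) = x ^ 2 := by
  rw [P.θ_pow, P.θ_pow, ← pow_mul, ← pow_add, show P.m + 1 + (P.m + 1) = (2 * P.m + 1) + 1 by ring,
    pow_succ 2 (2 * P.m + 1), pow_mul, P.pow_q]

theorem θ_comm (σ : F →+* F) (x : F) : σ (P.θ x) = P.θ (σ x) := by
  rw [P.θ_pow, P.θ_pow, map_pow]

include P in
theorem eight_le : 8 ≤ Fintype.card F := by
  rw [P.card]
  exact le_trans (by norm_num) (Nat.pow_le_pow_right two_pos (show 3 ≤ 2 * P.m + 1 by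
    have := P.one_le; omega))

theorem θ_eq_self {x : F} (h : P.θ x = x) : x = 0 ∨ x = 1 := by
  have h1 := P.θθ x
  rw [h, h] at h1
  have h2 : x * (x - 1) = 0 := by linear_combination -h1
  rcases mul_eq_zero.1 h2 with e | e
  · exact Or.inl e
  · exact Or.inr (sub_eq_zero.1 e)

theorem θ_eq_sq {x : F} (h : P.θ x = x ^ 2) : x = 0 ∨ x = 1 :=
  P.θ_eq_self (P.θ.injective ((P.θθ x).trans h.symm))

include P in
theorem exists_ne_zero_one : ∃ x : F, x ≠ 0 ∧ x ≠ 1 := by
  classical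
  by_contra h
  push Not at h
  have h1 : (Finset.univ : Finset F) ⊆ {0, 1} := fun x _ => by
    by_cases hx : x = 0
    · simp [hx]
    · simp [h x hx]
  have h2 := Finset.card_le_card h1
  have h3 : ({0, 1} : Finset F).card ≤ 2 := Finset.card_le_two
  rw [Finset.card_univ] at h2
  have := P.eight_le
  omega

include P in
theorem exists_unit_ne_one : ∃ x : Fˣ, x ≠ 1 := by
  obtain ⟨x, h0, h1⟩ := P.exists_ne_zero_one
  exact ⟨Units.mk0 x h0, fun e => h1 (congrArg Units.val e)⟩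

include P in
theorem card_units_odd : Odd (Fintype.card Fˣ) := by
  classical
  rw [Fintype.card_units, P.card]
  exact Nat.Even.sub_odd Nat.one_le_two_pow (Nat.even_pow.2 ⟨even_two, by omega⟩) odd_one

include P in
theorem cast_card_units : ((Fintype.card Fˣ : ℕ) : F) = 1 := by
  obtain ⟨k, hk⟩ := P.card_units_odd
  rw [hk]
  push_cast
  linear_combination (k : F) * (CharTwo.two_eq_zero : (2 : F) = 0)

/-! ### The Frobenius powers -/

/-- `x ↦ x ^ (2 ^ i)`. -/
def fr (i : ZMod (2 * P.m + 1)) : F →+* F :=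
  haveI : Fact (Nat.Prime 2) := ⟨Nat.prime_two⟩
  iterateFrobenius F 2 i.val

theorem fr_def (i : ZMod (2 * P.m + 1)) (x : F) : P.fr i x = x ^ 2 ^ i.val :=
  iterateFrobenius_def 2 i.val x

theorem pow_mod (x : F) (k : ℕ) : x ^ 2 ^ (k % (2 * P.m + 1)) = x ^ 2 ^ k := by
  conv_rhs => rw [← Nat.mod_add_div k (2 * P.m + 1)]
  generalize k / (2 * P.m + 1) = j
  induction j with
  | zero => simp
  | succ j ih => rw [Nat.mul_succ, ← Nat.add_assoc, pow_add 2, pow_mul, P.pow_q, ← ih]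

theorem fr_add (i j : ZMod (2 * P.m + 1)) (x : F) : P.fr i (P.fr j x) = P.fr (i + j) x := by
  rw [P.fr_def, P.fr_def, P.fr_def, ← pow_mul, ← pow_add, ZMod.val_add, P.pow_mod, add_comm]

theorem fr_zero (x : F) : P.fr 0 x = x := by rw [P.fr_def, ZMod.val_zero, pow_zero, pow_one]

theorem fr_θ (x : F) : P.fr (P.m + 1 : ℕ) x = P.θ x := by
  rw [P.fr_def, P.θ_pow, ZMod.val_natCast, P.pow_mod]

theorem exists_sing : ∃ t : F, CfsgLib.Weights.Sing t (2 * P.m + 1) 1 := by
  classical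
  obtain ⟨g, hg⟩ := IsCyclic.exists_ofOrder_eq_natCard (α := Fˣ)
  refine ⟨(g : F), ⟨fun l => CharTwo.add_self_eq_zero l, by rw [Nat.card_eq_fintype_card, P.card], ?_,
    one_dvd _, by have := P.one_le; omega⟩⟩
  rw [mul_one, orderOf_units, hg, Nat.card_eq_fintype_card, Fintype.card_units, P.card]

theorem fr_injective : Function.Injective P.fr := by
  obtain ⟨t, ht⟩ := P.exists_sing
  intro i j e
  have h := RingHom.congr_fun e t
  rw [P.fr_def, P.fr_def, ht.pow_inj_iff, Nat.mod_eq_of_lt (ZMod.val_lt i),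
    Nat.mod_eq_of_lt (ZMod.val_lt j)] at h
  exact ZMod.val_injective _ h

theorem coef {c : ZMod (2 * P.m + 1) → F} (h : ∀ x : F, ∑ i, c i * P.fr i x = 0) : c = 0 := by
  funext i
  have hinj : Function.Injective fun i => (P.fr i).toMonoidHom := fun a b e =>
    P.fr_injective (RingHom.ext fun x => DFunLike.congr_fun e x)
  refine Fintype.linearIndependent_iff.1
    ((linearIndependent_monoidHom F F).comp (fun i => (P.fr i).toMonoidHom) hinj) c ?_ i
  funext x
  simpa using h x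

theorem expansion (f : F →+ F) : ∃ c : ZMod (2 * P.m + 1) → F, ∀ x, f x = ∑ i, c i * P.fr i x := by
  obtain ⟨t, ht⟩ := P.exists_sing
  obtain ⟨a, ha⟩ := ht.expansion f
  exact ⟨a, fun x => (ha x).trans (Finset.sum_congr rfl fun i _ => (congrArg (a i * ·) (P.fr_def i x)).symm)⟩

/-- The inverse of `θ`. -/
def θi : F →+* F := P.fr (P.m : ℕ)

theorem two_mul_succ : ((P.m + 1 : ℕ) : ZMod (2 * P.m + 1)) + (P.m + 1 : ℕ) = 1 := by
  have h : ((2 * P.m + 1 : ℕ) : ZMod (2 * P.m + 1)) = 0 := ZMod.natCast_self _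
  push_cast at h ⊢
  linear_combination h

theorem m_add_succ : (P.m : ZMod (2 * P.m + 1)) + (P.m + 1 : ℕ) = 0 := by
  have h : ((2 * P.m + 1 : ℕ) : ZMod (2 * P.m + 1)) = 0 := ZMod.natCast_self _
  push_cast at h ⊢
  linear_combination h

theorem θi_θ (x : F) : P.θi (P.θ x) = x := by
  rw [θi, ← P.fr_θ, P.fr_add, P.m_add_succ, P.fr_zero]

theorem θ_θi (x : F) : P.θ (P.θi x) = x := by
  rw [θi, ← P.fr_θ, P.fr_add, add_comm, P.m_add_succ, P.fr_zero]

/-- The Frobenius map moves the exponents `0`, `m` and `m + 1` apart. -/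
theorem exps_ne : (0 : ZMod (2 * P.m + 1)) ≠ (P.m : ℕ) ∧ (0 : ZMod (2 * P.m + 1)) ≠ (P.m + 1 : ℕ) ∧
    ((P.m : ℕ) : ZMod (2 * P.m + 1)) ≠ (P.m + 1 : ℕ) ∧
      (1 : ZMod (2 * P.m + 1)) ≠ (P.m + 1 : ℕ) ∧ (1 : ZMod (2 * P.m + 1)) ≠ 0 := by
  have hm := P.one_le
  have key : ∀ a b : ℕ, a < 2 * P.m + 1 → b < 2 * P.m + 1 → a ≠ b →
      (a : ZMod (2 * P.m + 1)) ≠ (b : ℕ) := fun a b ha hb hab e => hab (by
    have := congrArg ZMod.val e
    rwa [ZMod.val_natCast, ZMod.val_natCast, Nat.mod_eq_of_lt ha, Nat.mod_eq_of_lt hb] at this)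
  refine ⟨?_, ?_, key _ _ (by omega) (by omega) (by omega), ?_, ?_⟩
  · simpa using key 0 P.m (by omega) (by omega) (by omega)
  · simpa using key 0 (P.m + 1) (by omega) (by omega) (by omega)
  · simpa using key 1 (P.m + 1) (by omega) (by omega) (by omega)
  · simpa using key 1 0 (by omega) (by omega) (by omega)

/-- Three distinct Frobenius powers are independent. -/
theorem coef₃ {i j k : ZMod (2 * P.m + 1)} (hij : i ≠ j) (hik : i ≠ k) (hjk : j ≠ k) {a b c : F}
    (h : ∀ x, a * P.fr i x + b * P.fr j x + c * P.fr k x = 0) : a = 0 ∧ b = 0 ∧ c = 0 := by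
  classical
  have hc := P.coef (c := fun l => (if l = i then a else 0) + (if l = j then b else 0) +
    (if l = k then c else 0)) fun x => by
      simp only [add_mul, Finset.sum_add_distrib, ite_mul, zero_mul, Finset.sum_ite_eq',
        Finset.mem_univ, if_true]
      exact h x
  have hi := congrFun hc i
  have hj := congrFun hc j
  have hk := congrFun hc k
  simp [hij, hik, hjk, hij.symm, hik.symm, hjk.symm] at hi hj hk
  exact ⟨hi, hj, hk⟩

/-! ### The group -/

/-- The matrix group. -/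
def Gam : Subgroup (GL (Fin 4) F) where
  carrier := {g | MemSz P.θ g}
  one_mem' := memSz_one P.θ
  mul_mem' := fun hg hh => memSz_mul hg hh
  inv_mem' := fun hg => memSz_inv hg

theorem gam_eq : P.Gam = Cfsg.Lie.Sz F (2 ^ (P.m + 1)) :=
  Subgroup.ext fun g => (mem_sz_iff (θ := P.θ) P.θ_pow g).symm

/-- The matrix of an element. -/
abbrev mat (g : ↥P.Gam) : Matrix (Fin 4) (Fin 4) F := ((g : GL (Fin 4) F) : Matrix (Fin 4) (Fin 4) F)

theorem mat_mul (g k : ↥P.Gam) : P.mat (g * k) = P.mat g * P.mat k := rfl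

theorem mat_one : P.mat 1 = 1 := rfl

theorem mat_ext {g k : ↥P.Gam} (h : P.mat g = P.mat k) : g = k := Subtype.ext (Units.ext h)

/-- The unipotent elements. -/
def U (a b : F) : ↥P.Gam := ⟨szU P.θ P.θθ a b, memSz_szU P.θθ a b⟩

/-- The torus. -/
def H : Fˣ →* ↥P.Gam :=
  { toFun := fun x => ⟨szH P.θ x, memSz_szH P.θθ x⟩
    map_one' := Subtype.ext (map_one _)
    map_mul' := fun x y => Subtype.ext (map_mul _ x y) }

/-- The Weyl element. -/
def W : ↥P.Gam := ⟨szW F, memSz_szW⟩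

/-- An element of order 5 with rational entries. -/
def X5 : ↥P.Gam := P.U 0 1 * P.W

theorem U_mul (a b c d : F) : P.U a b * P.U c d = P.U (a + c) (b + d + a * P.θ c) :=
  Subtype.ext (szU_mul P.θθ a b c d)

theorem U_zero : P.U 0 0 = 1 := Subtype.ext (szU_zero P.θθ)

theorem U_inv (a b : F) : (P.U a b)⁻¹ = P.U a (b + a * P.θ a) := by
  refine inv_eq_of_mul_eq_one_right ?_
  rw [U_mul, CharTwo.add_self_eq_zero, show b + (b + a * P.θ a) + a * P.θ a = 0 by
    linear_combination (b + a * P.θ a) * (CharTwo.two_eq_zero : (2 : F) = 0), U_zero]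

theorem H_conj_U (x : Fˣ) (a b : F) :
    P.H x * P.U a b * (P.H x)⁻¹ = P.U ((x : F) ^ 2 / P.θ x * a) (P.θ x * b) :=
  Subtype.ext (szH_conj_szU P.θθ x a b)

theorem H_U (x : Fˣ) (a b : F) :
    P.H x * P.U a b = P.U ((x : F) ^ 2 / P.θ x * a) (P.θ x * b) * P.H x :=
  mul_inv_eq_iff_eq_mul.1 (P.H_conj_U x a b)

theorem W_W : P.W * P.W = 1 := Subtype.ext (Units.ext szJ_mul_szJ)

theorem W_H (x : Fˣ) : P.W * P.H x = P.H x⁻¹ * P.W :=
  mul_inv_eq_iff_eq_mul.1 (Subtype.ext (szW_conj_szH x))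

theorem decomp (g : ↥P.Gam) :
    (∃ (x : Fˣ) (a b : F), g = P.H x * P.U a b) ∨
      ∃ (a' b' : F) (x : Fˣ) (a b : F), g = P.U a' b' * P.W * (P.H x * P.U a b) := by
  rcases exists_decomp P.θθ g.2 with ⟨x, a, b, h⟩ | ⟨a', b', x, a, b, h⟩
  · exact Or.inl ⟨x, a, b, Subtype.ext h⟩
  · exact Or.inr ⟨a', b', x, a, b, Subtype.ext h⟩

theorem orderOf_H (x : Fˣ) : Odd (orderOf (P.H x)) :=
  Odd.of_dvd_nat P.card_units_odd ((orderOf_map_dvd P.H x).trans orderOf_dvd_card)

theorem H_ne_one {x : Fˣ} (hx : x ≠ 1) : P.H x ≠ 1 := fun e => hx (Units.ext (by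
  simpa [mat, H, coe_szH, szHMat] using congrFun (congrFun (congrArg P.mat e) 0) 0))

/-! ### Twisted natural modules -/

/-- The natural module twisted by `σ`. -/
def nat (σ : F →+* F) : ↥P.Gam →* Module.End F (Fin 4 → F) where
  toFun g := Matrix.mulVecLin (σ.mapMatrix (P.mat g))
  map_one' := by rw [P.mat_one, map_one, Matrix.mulVecLin_one]; rfl
  map_mul' g k := by rw [P.mat_mul, map_mul, Matrix.mulVecLin_mul]; rfl

theorem nat_apply (σ : F →+* F) (g : ↥P.Gam) (v : Fin 4 → F) :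
    P.nat σ g v = (P.mat g).map σ *ᵥ v := rfl

theorem nat_mul (σ : F →+* F) (g k : ↥P.Gam) (v : Fin 4 → F) :
    P.nat σ (g * k) v = P.nat σ g (P.nat σ k v) := by rw [map_mul]; rfl

theorem nat_one (σ : F →+* F) (v : Fin 4 → F) : P.nat σ 1 v = v := by rw [map_one]; rfl

theorem nat_U (σ : F →+* F) (a b : F) (v : Fin 4 → F) : P.nat σ (P.U a b) v =
    ![v 0 + σ a * v 1 + σ b * v 2 + σ (a * b + a ^ 2 * P.θ a + P.θ b) * v 3,
      v 1 + σ (P.θ a) * v 2 + σ (b + a * P.θ a) * v 3, v 2 + σ a * v 3, v 3] := by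
  rw [nat_apply]
  ext i
  fin_cases i <;>
    simp [mat, U, coe_szU, szUMat, Matrix.mulVec, dotProduct, Fin.sum_univ_four]

theorem nat_H (σ : F →+* F) (x : Fˣ) (v : Fin 4 → F) : P.nat σ (P.H x) v =
    ![σ x * v 0, σ (P.θ x / x) * v 1, σ (x / P.θ x) * v 2, σ (1 / (x : F)) * v 3] := by
  rw [nat_apply]
  ext i
  fin_cases i <;>
    simp [mat, H, coe_szH, szHMat, Matrix.mulVec, dotProduct, Fin.sum_univ_four]

theorem nat_W (σ : F →+* F) (v : Fin 4 → F) : P.nat σ P.W v = ![v 3, v 2, v 1, v 0] := by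
  rw [nat_apply]
  ext i
  fin_cases i <;>
    simp [mat, W, coe_szW, szJ, Matrix.mulVec, dotProduct, Fin.sum_univ_four]

theorem nat_X5 (σ : F →+* F) (v : Fin 4 → F) : P.nat σ P.X5 v =
    ![v 3 + v 1 + v 0, v 2 + v 0, v 1, v 0] := by
  rw [X5, nat_mul, nat_W, nat_U]
  ext i
  fin_cases i <;> simp

theorem X5_pow : P.X5 ^ 5 = 1 := by
  refine P.mat_ext (Matrix.ext_iff_mulVec.2 fun v => ?_)
  have h : P.nat (RingHom.id F) (P.X5 ^ 5) v = P.nat (RingHom.id F) 1 v := by
    simp only [pow_succ, pow_zero, one_mul, nat_mul, nat_X5, nat_one]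
    ext i
    fin_cases i <;> simp <;> linear_combination (norm := skip) (0 : F) * 0 <;>
      ring_nf <;> reduce_mod_char!
  rw [nat_apply, nat_apply] at h
  simpa using h

theorem orderOf_X5 : orderOf P.X5 = 5 := by
  haveI : Fact (Nat.Prime 5) := ⟨by norm_num⟩
  refine orderOf_eq_prime P.X5_pow fun e => ?_
  have h := congrFun (P.nat_X5 (RingHom.id F) (Pi.single 0 1)) 3
  rw [e, nat_one] at h
  simp at h

/-- The pairing is invariant. -/
theorem altForm_nat (σ : F →+* F) (g : ↥P.Gam) (u v : Fin 4 → F) :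
    Cfsg.Lie.altForm4 (P.nat σ g u) (P.nat σ g v) = Cfsg.Lie.altForm4 u v := by
  have h1 := congrArg (σ.mapMatrix) ((mem_sp4_iff _).1 g.2.1)
  have hJ : (szJ F).map σ = szJ F := by
    ext i j
    fin_cases i <;> fin_cases j <;> simp [szJ]
  rw [map_mul, map_mul] at h1
  simp only [RingHom.mapMatrix_apply, Matrix.transpose_map, hJ] at h1
  rw [nat_apply, nat_apply, altForm4_eq, altForm4_eq, mulVec_mulVec, dotProduct_mulVec,
    ← vecMul_transpose, vecMul_vecMul, ← Matrix.mul_assoc, h1, dotProduct_mulVec]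

end Par

/-- Two field endomorphisms with constant product `1` do not exist. -/
theorem hom_mul_ne_one (P : Par F) (f g : F →+* F) : ∃ x : Fˣ, f x * g x ≠ 1 := by
  obtain ⟨x, h0, h1⟩ := P.exists_ne_zero_one
  by_contra h
  push Not at h
  have ha := h (Units.mk0 x h0)
  simp only [Units.val_mk0] at ha
  have hx1 : x + 1 ≠ 0 := fun e => h1 (CharTwo.add_eq_zero.1 e)
  have hb := h (Units.mk0 (x + 1) hx1)
  simp only [Units.val_mk0, map_add, map_one] at hb
  have h2 : f x ^ 2 + f x + 1 = 0 := by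
    linear_combination f x * hb - (f x + 1) * ha + (f x ^ 2 * 0 : F)
  have h3 : f x ^ 3 = 1 := by linear_combination (f x - 1) * h2
  have h4 : x ^ 3 = 1 := f.injective (by rw [map_pow, h3, map_one])
  have hodd : ¬ 3 ∣ Fintype.card Fˣ := by
    classical
    rw [Fintype.card_units, P.card]
    intro hd
    have h5 : 2 ^ (2 * P.m + 1) % 3 = 2 := by
      rw [pow_succ, pow_mul, Nat.mul_mod, Nat.pow_mod]; norm_num
    have h6 : 1 ≤ 2 ^ (2 * P.m + 1) := Nat.one_le_two_pow
    omega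
  haveI : Fact (Nat.Prime 3) := ⟨Nat.prime_three⟩
  have hu : orderOf (Units.mk0 x h0) = 3 := orderOf_eq_prime (Units.ext (by simpa using h4))
    fun e => h1 (congrArg Units.val e)
  exact hodd (hu ▸ orderOf_dvd_card)

/-- A product of two field endomorphisms equal to a third one. -/
theorem eq_of_mul_eq_hom (f g k : F →+* F) (h : ∀ x : Fˣ, f x * g x = k x) : f = g := by
  refine RingHom.ext fun x => ?_
  by_cases h0 : x = 0
  · simp [h0]
  by_cases h1 : x + 1 = 0
  · rw [CharTwo.add_eq_zero.1 h1]; simp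
  have ha := h (Units.mk0 x h0)
  have hb := h (Units.mk0 (x + 1) h1)
  simp only [Units.val_mk0, map_add, map_one] at ha hb
  exact CharTwo.add_eq_zero.1 (by linear_combination hb - ha)

end CfsgLib.CIT.SuzMod
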