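import Mathlib
import Cfsg.Agent.Lib.CIT.SuzBasic

/-!
# Modules for the Suzuki group in which elements of odd order act without fixed points

An irreducible one is a twisted natural module: a functional fixed by the unipotent group has matrix
coefficient `g ↦ (g₃₀) ^ e` at a fixed vector, and an element of order 5 forces `x ↦ x ^ e` to be a field
automorphism.
-/

set_option autoImplicit false
set_option linter.style.haveILetI false

namespace CfsgLib.CIT.SuzMod

open Matrix
open scoped Classical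

universe v w

variable {F : Type v} [Field F] [Fintype F] [CharP F 2] {P : Par F}

/-- The first basis vector of the natural module. -/
def e0 : Fin 4 → F := ![1, 0, 0, 0]

namespace Par

theorem nat_e0 (P : Par F) (σ : F →+* F) (g : ↥P.Gam) (i : Fin 4) :
    P.nat σ g e0 i = σ (P.mat g i 0) := by
  rw [nat_apply]
  simp [e0, Matrix.mulVec, dotProduct, Fin.sum_univ_four]

theorem nat_fix (P : Par F) (σ : F →+* F) (a b : F) : P.nat σ (P.U a b) e0 = e0 := by
  rw [nat_U]
  ext i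
  fin_cases i <;> simp [e0]

theorem nat_H_e0 (P : Par F) (σ : F →+* F) (x : Fˣ) : P.nat σ (P.H x) e0 = σ x • e0 := by
  rw [nat_H]
  ext i
  fin_cases i <;> simp [e0]

/-- The bottom coordinates of all translates determine a vector. -/
theorem coord_injective (P : Par F) (σ : F →+* F) {c : Fin 4 → F}
    (h : ∀ g : ↥P.Gam, P.nat σ g c 3 = 0) : c = 0 := by
  have h3 : c 3 = 0 := by simpa [nat_one] using h 1
  have h0 : c 0 = 0 := by simpa [nat_W] using h P.W
  have h2 : c 2 = 0 := by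
    simpa [nat_mul, nat_W, nat_U, h0, h3] using h (P.W * P.U 0 1)
  have h1 : c 1 = 0 := by
    simpa [nat_mul, nat_W, nat_U, h0, h3] using h (P.W * P.U 1 0)
  ext i
  fin_cases i <;> assumption

/-- An invariant subspace of the natural module with the first basis vector is everything. -/
theorem eq_top_of_e0 (P : Par F) (σ : F →+* F) {W : Submodule F (Fin 4 → F)}
    (hW : ∀ g : ↥P.Gam, ∀ v ∈ W, P.nat σ g v ∈ W) (h : e0 ∈ W) : W = ⊤ := by
  have a3 : (![0, 0, 0, 1] : Fin 4 → F) ∈ W := by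
    convert hW P.W _ h using 1
    rw [nat_W]; ext i; fin_cases i <;> simp [e0]
  have a1 : (![0, 1, 0, 0] : Fin 4 → F) ∈ W := by
    convert W.sub_mem (W.sub_mem (hW (P.U 0 1) _ a3) h) a3 using 1
    rw [nat_U]; ext i; fin_cases i <;> simp [e0]
  have a2 : (![0, 0, 1, 0] : Fin 4 → F) ∈ W := by
    convert W.sub_mem (W.sub_mem (W.sub_mem (hW (P.U 1 0) _ a3) h) a3) a1 using 1
    rw [nat_U]; ext i; fin_cases i <;> simp [e0]
  rw [eq_top_iff]
  intro v _
  have e : v = v 0 • e0 + v 1 • ![0, 1, 0, 0] + v 2 • ![0, 0, 1, 0] + v 3 • ![0, 0, 0, 1] := by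
    ext i; fin_cases i <;> simp [e0]
  rw [e]
  exact add_mem (add_mem (add_mem (W.smul_mem _ h) (W.smul_mem _ a1)) (W.smul_mem _ a2))
    (W.smul_mem _ a3)

end Par

/-- A representation in which elements of odd order act without fixed points. -/
structure Rep (P : Par F) (V : Type w) [AddCommGroup V] [Module F V] where
  /-- the action -/
  ρ : ↥P.Gam →* Module.End F V
  fpf : ∀ g : ↥P.Gam, Odd (orderOf g) → g ≠ 1 → ∀ v, ρ g v = v → v = 0

namespace Rep

variable {V : Type w} [AddCommGroup V] [Module F V] (R : Rep P V)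

theorem mul_apply (g k : ↥P.Gam) (v : V) : R.ρ (g * k) v = R.ρ g (R.ρ k v) := by rw [map_mul]; rfl

theorem one_apply (v : V) : R.ρ 1 v = v := by rw [map_one]; rfl

theorem inv_apply (g : ↥P.Gam) (v : V) : R.ρ g⁻¹ (R.ρ g v) = v := by
  rw [← R.mul_apply, inv_mul_cancel, R.one_apply]

theorem sum_five (v : V) : ∑ l ∈ Finset.range 5, R.ρ (P.X5 ^ l) v = 0 := by
  refine R.fpf P.X5 (by rw [P.orderOf_X5]; decide) (fun e => ?_) _ ?_
  · have h5 := P.orderOf_X5
    rw [e, orderOf_one] at h5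
    omega
  · rw [map_sum]
    simp only [← R.mul_apply, ← pow_succ', Finset.sum_range_succ, Finset.sum_range_zero, zero_add,
      pow_zero, P.X5_pow]
    abel

theorem sum_torus (v : V) : ∑ x : Fˣ, R.ρ (P.H x) v = 0 := by
  obtain ⟨y, hy⟩ := P.exists_unit_ne_one
  refine R.fpf (P.H y) (P.orderOf_H y) (P.H_ne_one hy) _ ?_
  rw [map_sum]
  simp only [← R.mul_apply, ← map_mul]
  exact Fintype.sum_equiv (Equiv.mulLeft y) _ _ fun _ => rfl

/-- The projection on a weight of the torus. -/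
noncomputable def proj (χ : Fˣ →* F) : V →ₗ[F] V := ∑ x : Fˣ, χ x⁻¹ • R.ρ (P.H x)

theorem proj_apply (χ : Fˣ →* F) (v : V) : R.proj χ v = ∑ x : Fˣ, χ x⁻¹ • R.ρ (P.H x) v := by
  simp [proj]

theorem proj_eigen (χ : Fˣ →* F) (v : V) (y : Fˣ) :
    R.ρ (P.H y) (R.proj χ v) = χ y • R.proj χ v := by
  rw [proj_apply, map_sum, Finset.smul_sum]
  refine Fintype.sum_equiv (Equiv.mulLeft y) _ _ fun x => ?_
  show R.ρ (P.H y) (χ x⁻¹ • R.ρ (P.H x) v) = χ y • χ (y * x)⁻¹ • R.ρ (P.H (y * x)) v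
  rw [map_smul, ← R.mul_apply, ← map_mul P.H, smul_smul, ← map_mul χ, mul_inv,
    ← mul_assoc, mul_inv_cancel, one_mul]

/-- A torus invariant nonzero subspace contains a weight vector. -/
theorem exists_eigen {S : Submodule F V} (hS : ∀ x : Fˣ, ∀ v ∈ S, R.ρ (P.H x) v ∈ S) {v : V}
    (hv : v ∈ S) (hv0 : v ≠ 0) :
    ∃ u ∈ S, u ≠ 0 ∧ ∃ e : ℕ, ∀ x : Fˣ, R.ρ (P.H x) u = (x : F) ^ e • u := by
  by_contra hcon
  push Not at hcon
  set χ : ℕ → (Fˣ →* F) := fun e => (powMonoidHom e).comp (Units.coeHom F)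
  have hzero : ∀ e, R.proj (χ e) v = 0 := fun e => by
    by_contra hne
    obtain ⟨x, hx⟩ := hcon _ (by
      rw [proj_apply]
      exact sum_mem fun x _ => S.smul_mem _ (hS x v hv)) hne e
    exact hx (R.proj_eigen _ v x)
  set N := Fintype.card Fˣ
  have hsum : ∀ x : Fˣ, ∑ e ∈ Finset.range N, χ e x⁻¹ = if x = 1 then (1 : F) else 0 := by
    intro x
    show ∑ e ∈ Finset.range N, ((x⁻¹ : Fˣ) : F) ^ e = _
    split_ifs with hx
    · simp [hx, N, P.cast_card_units]
    · have h1 := geom_sum_mul ((x⁻¹ : Fˣ) : F) N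
      rw [show ((x⁻¹ : Fˣ) : F) ^ N = 1 by
        rw [← Units.val_pow_eq_pow_val, pow_card_eq_one, Units.val_one], sub_self] at h1
      exact (mul_eq_zero.1 h1).resolve_right (sub_ne_zero.2 fun e1 => hx (inv_eq_one.1
        (Units.ext e1)))
  refine hv0 ?_
  calc v = ∑ x : Fˣ, (if x = 1 then (1 : F) else 0) • R.ρ (P.H x) v := by
        simp [ite_smul, R.one_apply]
    _ = ∑ e ∈ Finset.range N, R.proj (χ e) v := by
        simp only [← hsum, Finset.sum_smul, proj_apply]
        exact Finset.sum_comm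
    _ = 0 := Finset.sum_eq_zero fun e _ => hzero e

theorem weight_ne_one {u : V} (hu : u ≠ 0) {e : ℕ}
    (he : ∀ x : Fˣ, R.ρ (P.H x) u = (x : F) ^ e • u) : ∃ x : Fˣ, (x : F) ^ e ≠ 1 := by
  obtain ⟨x, hx⟩ := P.exists_unit_ne_one
  exact ⟨x, fun e1 => hu (R.fpf _ (P.orderOf_H x) (P.H_ne_one hx) _ (by rw [he, e1, one_smul]))⟩

/-- Fixed by the unipotent group. -/
def Fixed (v : V) : Prop := ∀ a b : F, R.ρ (P.U a b) v = v

theorem exists_fixed [FiniteDimensional F V] (h : ∃ v : V, v ≠ 0) : ∃ v : V, v ≠ 0 ∧ R.Fixed v := by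
  haveI : Finite V := Module.finite_of_finite F
  haveI : Fact (Nat.Prime 2) := ⟨Nat.prime_two⟩
  let S : Subgroup ↥P.Gam :=
    { carrier := {g | ∃ a b, g = P.U a b}
      one_mem' := ⟨0, 0, P.U_zero.symm⟩
      mul_mem' := by rintro _ _ ⟨a, b, rfl⟩ ⟨c, d, rfl⟩; exact ⟨_, _, P.U_mul a b c d⟩
      inv_mem' := by rintro _ ⟨a, b, rfl⟩; exact ⟨_, _, P.U_inv a b⟩ }
  have hS : IsPGroup 2 ↥S := by
    rintro ⟨g, a, b, rfl⟩
    refine ⟨2, Subtype.ext ?_⟩
    show P.U a b ^ (2 ^ 2) = 1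
    rw [show (2 ^ 2) = 2 * 2 from rfl, pow_mul, pow_two, pow_two, P.U_mul, P.U_mul, ← P.U_zero]
    simp [CharTwo.add_self_eq_zero]
  letI : MulAction ↥S V := MulAction.compHom V (R.ρ.comp S.subtype)
  obtain ⟨v, hv⟩ := h
  have h2 : (2 : F) • v = 0 := by rw [CharTwo.two_eq_zero, zero_smul]
  have hdvd : 2 ∣ Nat.card V := by
    have ho : addOrderOf v = 2 := by
      refine addOrderOf_eq_prime ?_ hv
      rwa [← Nat.cast_smul_eq_nsmul F, Nat.cast_ofNat]
    exact ho ▸ addOrderOf_dvd_natCard v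
  obtain ⟨u, hu, hu0⟩ := hS.exists_fixed_point_of_prime_dvd_card_of_fixed_point V hdvd
    (a := (0 : V)) fun g => map_zero (R.ρ (g : ↥P.Gam))
  exact ⟨u, fun e => hu0 e.symm, fun a b => hu ⟨P.U a b, a, b, rfl⟩⟩

theorem exists_fixed_eigen [FiniteDimensional F V] (h : ∃ v : V, v ≠ 0) :
    ∃ v : V, v ≠ 0 ∧ R.Fixed v ∧ ∃ e : ℕ, ∀ x : Fˣ, R.ρ (P.H x) v = (x : F) ^ e • v := by
  obtain ⟨v, hv0, hv⟩ := R.exists_fixed h
  let S : Submodule F V :=
    { carrier := {u | R.Fixed u}
      zero_mem' := fun a b => map_zero _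
      add_mem' := fun hx hy a b => by rw [map_add, hx a b, hy a b]
      smul_mem' := fun c x hx a b => by rw [map_smul, hx a b] }
  obtain ⟨u, hu, hu0, he⟩ := R.exists_eigen (S := S) (fun x w hw a b => by
    rw [← R.mul_apply, show P.U a b * P.H x = P.H x * P.U (P.θ x / (x : F) ^ 2 * a) (b / P.θ x) by
      rw [P.H_U]
      have hx := x.ne_zero
      have hx' : P.θ (x : F) ≠ 0 := (map_ne_zero P.θ).2 hx
      congr 2 <;> field_simp, R.mul_apply, hw]) hv hv0
  exact ⟨u, hu0, hu, he⟩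

/-- The dual representation. -/
def dual [FiniteDimensional F V] : Rep P (Module.Dual F V) where
  ρ :=
    { toFun := fun g => (R.ρ g⁻¹).dualMap
      map_one' := LinearMap.ext fun f => LinearMap.ext fun v => by
        show f (R.ρ 1⁻¹ v) = f v
        rw [inv_one, R.one_apply]
      map_mul' := fun g k => LinearMap.ext fun f => LinearMap.ext fun v => by
        show f (R.ρ (g * k)⁻¹ v) = f (R.ρ k⁻¹ (R.ρ g⁻¹ v))
        rw [_root_.mul_inv_rev, R.mul_apply] }
  fpf g hg hg1 f hf := by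
    have hinj : Function.Injective (R.ρ g⁻¹ - 1 : Module.End F V) := by
      rw [injective_iff_map_eq_zero]
      intro v hv
      exact R.fpf g⁻¹ (by rwa [orderOf_inv]) (inv_ne_one.2 hg1) v (sub_eq_zero.1 hv)
    refine LinearMap.ext fun v => ?_
    obtain ⟨u, rfl⟩ := LinearMap.injective_iff_surjective.1 hinj v
    show f (R.ρ g⁻¹ u - u) = 0
    rw [map_sub]
    exact sub_eq_zero.2 (LinearMap.congr_fun hf u)

theorem dual_apply [FiniteDimensional F V] (g : ↥P.Gam) (f : Module.Dual F V) (v : V) :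
    R.dual.ρ g f v = f (R.ρ g⁻¹ v) := rfl

/-- Invariant subspaces. -/
def Inv (S : Submodule F V) : Prop := ∀ g : ↥P.Gam, ∀ v ∈ S, R.ρ g v ∈ S

/-- Irreducibility. -/
def Irr : Prop := (∃ v : V, v ≠ 0) ∧ ∀ S : Submodule F V, R.Inv S → S = ⊥ ∨ S = ⊤

/-- An equivariant map to or from a twisted natural module. -/
def IsNatHom (σ : F →+* F) (r : V →ₗ[F] (Fin 4 → F)) : Prop :=
  ∀ g v, r (R.ρ g v) = P.nat σ g (r v)

/-- An irreducible module is a twisted natural module. -/
theorem natural_of_irr [FiniteDimensional F V] (hirr : R.Irr) :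
    ∃ (σ : F →+* F) (Φ : V ≃ₗ[F] (Fin 4 → F)), R.IsNatHom σ Φ.toLinearMap := by
  obtain ⟨v, hv0, hvS, e, he⟩ := R.exists_fixed_eigen hirr.1
  have hspan : ∀ f : Module.Dual F V, (∀ g, f (R.ρ g v) = 0) → f = 0 := by
    intro f hf
    rcases hirr.2 (Submodule.span F (Set.range fun g => R.ρ g v)) (fun g u hu => by
      induction hu using Submodule.span_induction with
      | mem x hx => obtain ⟨k, rfl⟩ := hx; exact Submodule.subset_span ⟨g * k, R.mul_apply g k v⟩
      | zero => rw [map_zero]; exact zero_mem _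
      | add x y _ _ hx hy => rw [map_add]; exact add_mem hx hy
      | smul c x _ hx => rw [map_smul]; exact Submodule.smul_mem _ c hx) with h | h
    · exact absurd (((R.one_apply v).symm.trans ((Submodule.span_eq_bot.1 h) _ ⟨1, rfl⟩))) hv0
    · exact LinearMap.ext_on h (by rintro _ ⟨g, rfl⟩; exact hf g)
  obtain ⟨f, hf0, hfS, i, hi⟩ := R.dual.exists_fixed_eigen (by
    haveI : Nontrivial V := ⟨v, 0, hv0⟩
    obtain ⟨f, hf⟩ := exists_ne (0 : Module.Dual F V)
    exact ⟨f, hf⟩)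
  set K : ↥P.Gam → F := fun g => f (R.ρ g v) with hK
  have fU : ∀ a b u, f (R.ρ (P.U a b) u) = f u := fun a b u => by
    have h := LinearMap.congr_fun (hfS a (b + a * P.θ a)) u
    rw [dual_apply, P.U_inv] at h
    rwa [show b + a * P.θ a + a * P.θ a = b by rw [add_assoc, CharTwo.add_self_eq_zero, add_zero]] at h
  have fH : ∀ (x : Fˣ) u, f (R.ρ (P.H x) u) = ((x⁻¹ : Fˣ) : F) ^ i * f u := fun x u => by
    have h := LinearMap.congr_fun (hi x⁻¹) u
    rwa [dual_apply, map_inv P.H, inv_inv] at h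
  have kB : ∀ (x : Fˣ) a b, K (P.H x * P.U a b) = (x : F) ^ e * K 1 := fun x a b => by
    simp only [hK, R.mul_apply, hvS a b, he, map_smul, smul_eq_mul, R.one_apply]
  have kU : ∀ (a' b' : F) (x : Fˣ) a b,
      K (P.U a' b' * P.W * (P.H x * P.U a b)) = (x : F) ^ e * K P.W := fun a' b' x a b => by
    simp only [hK, R.mul_apply, hvS a b, he, map_smul, smul_eq_mul, fU]
  obtain ⟨x1, hx1⟩ := R.weight_ne_one hv0 he
  have he1 : e ≠ 0 := fun e0 => hx1 (by rw [e0, pow_zero])
  have hK1 : K 1 = 0 := by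
    by_contra hne
    have hw : ∀ x : Fˣ, ((x⁻¹ : Fˣ) : F) ^ i = (x : F) ^ e := fun x => by
      refine mul_right_cancel₀ hne ?_
      have h := fH x v
      rw [he, map_smul, smul_eq_mul] at h
      simp only [hK, R.one_apply]
      exact h.symm
    have hKW : K P.W = 0 := by
      by_contra hne'
      have h1 : K (P.W * P.H x1) = (x1 : F) ^ e * K P.W := by
        simp only [hK, R.mul_apply, he, map_smul, smul_eq_mul]
      rw [P.W_H] at h1
      simp only [hK, R.mul_apply, fH, hw] at h1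
      have h2 := mul_right_cancel₀ hne' h1
      have h3 : ((x1⁻¹ : Fˣ) : F) ^ e * (x1 : F) ^ e = 1 := by rw [← mul_pow]; simp
      rw [h2] at h3
      refine hx1 ?_
      have h4 : ((x1 : F) ^ e + 1) * ((x1 : F) ^ e + 1) = 0 := by
        linear_combination h3 + ((x1 : F) ^ e + 1) * (CharTwo.two_eq_zero : (2 : F) = 0)
      exact CharTwo.add_eq_zero.1 (mul_self_eq_zero.1 h4)
    have hz : ∀ g, P.mat g 3 0 ≠ 0 → K g = 0 := fun g hg => by
      rcases P.decomp g with ⟨x, a, b, rfl⟩ | ⟨a', b', x, a, b, rfl⟩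
      · exact absurd (by
          have := P.nat_e0 (RingHom.id F) (P.H x * P.U a b) 3
          rw [P.nat_mul, P.nat_fix, P.nat_H_e0] at this
          simpa [e0] using this.symm) hg
      · rw [kU, hKW, mul_zero]
    have h5 := congrArg f (R.sum_five v)
    rw [map_sum, map_zero] at h5
    have hcol : ∀ l, l ≠ 0 → l < 5 → P.mat (P.X5 ^ l) 3 0 ≠ 0 := fun l h0 h5 e1 => by
      have h := P.nat_e0 (RingHom.id F) (P.X5 ^ l) 3
      rw [e1, map_zero] at h
      interval_cases l <;> simp [pow_succ, pow_zero, P.nat_mul, P.nat_X5, e0] at h h0 <;>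
        simp [CharTwo.add_self_eq_zero] at h
    rw [Finset.sum_eq_single 0 (fun l hl h0 => hz _ (hcol l h0 (Finset.mem_range.1 hl)))
      (by simp), pow_zero] at h5
    exact hne h5
  have hKg : ∀ g, K g = P.mat g 3 0 ^ e * K P.W := fun g => by
    rcases P.decomp g with ⟨x, a, b, rfl⟩ | ⟨a', b', x, a, b, rfl⟩
    · have h := P.nat_e0 (RingHom.id F) (P.H x * P.U a b) 3
      rw [P.nat_mul, P.nat_fix, P.nat_H_e0] at h
      rw [kB, hK1, show P.mat (P.H x * P.U a b) 3 0 = 0 by simpa [e0] using h.symm, zero_pow he1,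
        mul_zero, zero_mul]
    · have h := P.nat_e0 (RingHom.id F) (P.U a' b' * P.W * (P.H x * P.U a b)) 3
      rw [P.nat_mul, P.nat_mul, P.nat_mul, P.nat_fix, P.nat_H_e0, P.nat_W, P.nat_U] at h
      rw [kU, show P.mat (P.U a' b' * P.W * (P.H x * P.U a b)) 3 0 = (x : F) by
        simpa [e0] using h.symm]
  have hKW : K P.W ≠ 0 := fun h0 => hf0 (hspan f fun g => by
    show K g = 0
    rw [hKg, h0, mul_zero])
  have hadd1 : ∀ y : F, (1 + y) ^ e = 1 + y ^ e := fun y => by
    obtain ⟨b, rfl⟩ : ∃ b, P.θ b = y := (Finite.injective_iff_surjective.1 P.θ.injective) y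
    have h5 := congrArg f (congrArg (R.ρ (P.W * P.U 0 b)) (R.sum_five v))
    rw [map_sum, map_sum, map_zero, map_zero] at h5
    simp only [← R.mul_apply] at h5
    have hs : ∑ l ∈ Finset.range 5, P.mat (P.W * P.U 0 b * P.X5 ^ l) 3 0 ^ e * K P.W = 0 := by
      exact (Finset.sum_congr rfl fun l _ => (hKg _).symm).trans h5
    rw [← Finset.sum_mul] at hs
    have hs' := (mul_eq_zero.1 hs).resolve_right hKW
    have hc : ∀ g, P.mat g 3 0 = P.nat (RingHom.id F) g e0 3 := fun g =>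
      (P.nat_e0 (RingHom.id F) g 3).symm
    simp only [Finset.sum_range_succ, Finset.sum_range_zero, hc, pow_succ, pow_zero, one_mul,
      P.nat_mul, P.nat_X5, P.nat_U, P.nat_W, P.nat_one, e0] at hs'
    simp at hs'
    refine CharTwo.add_eq_zero.1 ?_
    have two : (2 : F) = 0 := CharTwo.two_eq_zero
    ring_nf at hs'
    reduce_mod_char! at hs'
    linear_combination hs' - (1 + P.θ b + b) ^ e * two
  let σ : F →+* F :=
    { toFun := fun x => x ^ e
      map_one' := one_pow e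
      map_mul' := fun x y => mul_pow x y e
      map_zero' := zero_pow he1
      map_add' := fun x y => by
        by_cases hy : y = 0
        · simp [hy, zero_pow he1]
        rw [show x + y = y * (1 + x / y) by field_simp; ring, mul_pow, hadd1, mul_add, mul_one,
          ← mul_pow, mul_div_cancel₀ _ hy, add_comm] }
  let Ψ : V →ₗ[F] (↥P.Gam → F) := LinearMap.pi fun g => (K P.W)⁻¹ • f.comp (R.ρ g)
  let L : (Fin 4 → F) →ₗ[F] (↥P.Gam → F) := LinearMap.pi fun g => (LinearMap.proj 3).comp (P.nat σ g)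
  have hL : Function.Injective L := by
    rw [injective_iff_map_eq_zero]
    exact fun c hc => P.coord_injective σ fun g => congrFun hc g
  have hgen : ∀ k, Ψ (R.ρ k v) = L (P.nat σ k e0) := fun k => funext fun g => by
    show (K P.W)⁻¹ * f (R.ρ g (R.ρ k v)) = P.nat σ g (P.nat σ k e0) 3
    rw [← R.mul_apply, ← P.nat_mul, P.nat_e0]
    show (K P.W)⁻¹ * K (g * k) = _
    rw [hKg (g * k), mul_comm, mul_assoc, mul_inv_cancel₀ hKW, mul_one]
    rfl
  have hΨ : Function.Injective Ψ := by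
    rcases hirr.2 (LinearMap.ker Ψ) (fun g u hu => by
      refine LinearMap.mem_ker.2 (funext fun k => ?_)
      show (K P.W)⁻¹ * f (R.ρ k (R.ρ g u)) = 0
      rw [← R.mul_apply]
      exact congrFun (LinearMap.mem_ker.1 hu) (k * g)) with h | h
    · exact LinearMap.ker_eq_bot.1 h
    · exfalso
      have : v ∈ LinearMap.ker Ψ := h ▸ Submodule.mem_top
      have h1 := congrFun (LinearMap.mem_ker.1 this) P.W
      exact mul_ne_zero (inv_ne_zero hKW) hKW h1
  have hrange : LinearMap.range Ψ ≤ LinearMap.range L := by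
    rintro _ ⟨u, rfl⟩
    rcases hirr.2 ((LinearMap.range L).comap Ψ) (fun g u hu => by
      obtain ⟨c, hc⟩ := hu
      refine ⟨P.nat σ g c, funext fun k => ?_⟩
      have h1 := congrFun hc (k * g)
      show P.nat σ k (P.nat σ g c) 3 = (K P.W)⁻¹ * f (R.ρ k (R.ρ g u))
      rw [← P.nat_mul, ← R.mul_apply]
      exact h1) with h | h
    · exfalso
      have h1 : v ∈ (LinearMap.range L).comap Ψ := ⟨e0, by
        have := hgen 1
        rw [R.one_apply, P.nat_one] at this
        exact this.symm⟩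
      rw [h] at h1
      exact hv0 ((Submodule.mem_bot F).1 h1)
    · exact (h ▸ Submodule.mem_top : u ∈ (LinearMap.range L).comap Ψ)
  let Φ : V →ₗ[F] (Fin 4 → F) := (LinearEquiv.ofInjective L hL).symm.toLinearMap.comp
    (Ψ.codRestrict (LinearMap.range L) fun u => hrange ⟨u, rfl⟩)
  have hΦ : ∀ u, L (Φ u) = Ψ u := fun u => by
    have := (LinearEquiv.ofInjective L hL).apply_symm_apply ⟨Ψ u, hrange ⟨u, rfl⟩⟩
    exact congrArg Subtype.val this
  have hΦeq : R.IsNatHom σ Φ := fun g u => hL (funext fun k => by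
    rw [hΦ]
    show (K P.W)⁻¹ * f (R.ρ k (R.ρ g u)) = P.nat σ k (P.nat σ g (Φ u)) 3
    rw [← R.mul_apply, ← P.nat_mul]
    exact (congrFun (hΦ u) (k * g)).symm)
  have hinj : Function.Injective Φ := fun a b e1 => hΨ (by rw [← hΦ, ← hΦ, e1])
  have hsurj : LinearMap.range Φ = ⊤ := P.eq_top_of_e0 σ
    (fun g _ ⟨u, hu⟩ => ⟨R.ρ g u, by rw [← hu]; exact hΦeq g u⟩)
    ⟨v, hL (by rw [hΦ]; simpa [R.one_apply, P.nat_one] using hgen 1)⟩
  exact ⟨σ, LinearEquiv.ofBijective Φ ⟨hinj, LinearMap.range_eq_top.1 hsurj⟩, hΦeq⟩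

end Rep

end CfsgLib.CIT.SuzMod
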