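import Mathlib
import Cfsg.Agent.Lib.CIT.SuzModule

/-!
# Crossed homomorphisms from the unipotent group of `Sz(q)` to the natural module

On the centre such a map is `b ↦ (c θ b + p b + γ θ⁻¹ b, c b, 0, 0)`; if it vanishes there it is additive
in `a` with values on the fixed line.
-/

set_option autoImplicit false
set_option linter.style.haveILetI false

namespace CfsgLib.CIT.SuzMod

open Matrix
open scoped Classical

universe v

variable {F : Type v} [Field F] [Fintype F] [CharP F 2]

namespace Par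

variable (P : Par F)

/-- The natural module. -/
abbrev nat₁ : ↥P.Gam →* Module.End F (Fin 4 → F) := P.nat (RingHom.id F)

/-- A crossed homomorphism on the unipotent group. -/
def IsCoc (φ : F → F → Fin 4 → F) : Prop :=
  ∀ a b c d, φ (a + c) (b + d + a * P.θ c) = φ a b + P.nat₁ (P.U a b) (φ c d)

/-- The values of a crossed homomorphism on the centre. -/
def zval (c p γ b : F) : Fin 4 → F := ![c * P.θ b + p * b + γ * P.θi b, c * b, 0, 0]

theorem zval_inj {c p γ c' p' γ' : F} (h : ∀ b, P.zval c p γ b = P.zval c' p' γ' b) :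
    c = c' ∧ p = p' ∧ γ = γ' := by
  obtain ⟨h1, h2, h3, -, -⟩ := P.exps_ne
  have e := P.coef₃ h2.symm h3.symm h1 (a := c - c') (b := p - p') (c := γ - γ') fun b => by
    have := congrFun (h b) 0
    simp only [zval, Matrix.cons_val_zero] at this
    rw [fr_θ, fr_zero]
    show (c - c') * P.θ b + (p - p') * b + (γ - γ') * P.θi b = 0
    linear_combination this
  exact ⟨sub_eq_zero.1 e.1, sub_eq_zero.1 e.2.1, sub_eq_zero.1 e.2.2⟩

/-- The functional equation of the restriction to the centre. -/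
theorem solve (ψ K : F →+ F) (h : ∀ a, ψ (a * P.θ a) = a * K a) :
    ∃ p γ, ∀ b, ψ b = p * b + γ * P.θi b := by
  have hpol : ∀ a c, ψ (a * P.θ c) + ψ (c * P.θ a) = a * K c + c * K a := fun a c => by
    have e := h (a + c)
    rw [map_add P.θ, map_add K, show (a + c) * (P.θ a + P.θ c) =
      a * P.θ a + c * P.θ c + (a * P.θ c + c * P.θ a) by ring, map_add, map_add, map_add] at e
    linear_combination e - h a - h c
  obtain ⟨p, hp⟩ := P.expansion ψ
  obtain ⟨d, hd⟩ := P.expansion K
  set s : ZMod (2 * P.m + 1) := ((P.m + 1 : ℕ) : ZMod (2 * P.m + 1)) with hs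
  have key : ∀ c j, p j * P.fr (j + s) c + p (j - s) * P.fr (j - s) c -
      (if j = 0 then K c else 0) - c * d j = 0 := by
    intro c
    refine congrFun (P.coef (c := fun j => p j * P.fr (j + s) c + p (j - s) * P.fr (j - s) c -
      (if j = 0 then K c else 0) - c * d j) fun a => ?_)
    have e1 : ∑ j, p j * P.fr (j + s) c * P.fr j a = ψ (a * P.θ c) := by
      rw [hp]
      refine Finset.sum_congr rfl fun j _ => ?_
      rw [map_mul, ← P.fr_θ, P.fr_add, hs]
      ring
    have e2 : ∑ j, p (j - s) * P.fr (j - s) c * P.fr j a = ψ (c * P.θ a) := by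
      rw [hp]
      refine Fintype.sum_equiv (Equiv.subRight s) _ _ fun j => ?_
      rw [Equiv.subRight_apply, map_mul (P.fr (j - s)), ← P.fr_θ a, ← hs, P.fr_add, sub_add_cancel]
      ring
    have e3 : ∑ j, (if j = 0 then K c else 0) * P.fr j a = a * K c := by
      simp only [ite_mul, zero_mul, Finset.sum_ite_eq', Finset.mem_univ, if_true, P.fr_zero, mul_comm]
    have e4 : ∑ j, c * d j * P.fr j a = c * K a := by
      rw [hd, Finset.mul_sum]
      exact Finset.sum_congr rfl fun j _ => mul_assoc _ _ _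
    simp only [add_mul, sub_mul, Finset.sum_add_distrib, Finset.sum_sub_distrib, e1, e2, e3, e4]
    linear_combination hpol a c
  have hm : ((P.m : ℕ) : ZMod (2 * P.m + 1)) + s = 0 := P.m_add_succ
  have hzero : ∀ j, j ≠ 0 → j ≠ ((P.m : ℕ) : ZMod (2 * P.m + 1)) → p j = 0 := by
    intro j h0 hj
    have h2 := fun c => key c j
    simp only [if_neg h0, sub_zero] at h2
    by_cases hjs : j = s
    · refine (P.coef₃ (i := j + s) (j := 0) (k := s) ?_ ?_ ?_ (a := p j) (b := p (j - s) - d j)
        (c := 0) fun c => ?_).1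
      · rw [hjs, hs, P.two_mul_succ]; exact P.exps_ne.2.2.2.2
      · rw [hjs]
        intro e
        rw [hs, P.two_mul_succ] at e
        exact P.exps_ne.2.2.2.1 e
      · exact P.exps_ne.2.1
      · have e := h2 c
        have e' : P.fr (j - s) c = c := by rw [hjs, sub_self, P.fr_zero]
        rw [e'] at e
        rw [P.fr_zero]
        linear_combination e
    refine (P.coef₃ (i := j + s) (j := j - s) (k := 0) ?_ ?_ ?_ (a := p j) (b := p (j - s))
      (c := -d j) fun c => ?_).1
    · intro e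
      have h1 : s + s = 0 := by linear_combination e
      rw [hs, P.two_mul_succ] at h1
      exact P.exps_ne.2.2.2.2 h1
    · exact fun e => hj (by linear_combination e - hm)
    · exact sub_ne_zero.2 hjs
    · rw [P.fr_zero]
      linear_combination h2 c
  refine ⟨p 0, p (P.m : ℕ), fun b => ?_⟩
  rw [hp, Finset.sum_eq_add 0 ((P.m : ℕ) : ZMod (2 * P.m + 1)) P.exps_ne.1
    (fun j _ hj => by rw [hzero j hj.1 hj.2, zero_mul]) (fun h => absurd (Finset.mem_univ _) h)
    (fun h => absurd (Finset.mem_univ _) h), P.fr_zero]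
  rfl

/-- A crossed homomorphism on the centre. -/
theorem coc_center {φ : F → F → Fin 4 → F} (hφ : P.IsCoc φ) :
    ∃ c p γ, ∀ b, φ 0 b = P.zval c p γ b := by
  have h00 : φ 0 0 = 0 := by
    have e := hφ 0 0 0 0
    simp only [add_zero, zero_mul, P.U_zero, nat_one] at e
    exact left_eq_add.1 e
  have hz : ∀ b d, φ 0 (b + d) = φ 0 b + P.nat₁ (P.U 0 b) (φ 0 d) := fun b d => by
    simpa using hφ 0 b 0 d
  have hC : ∀ b, φ 0 b 3 = 0 ∧ φ 0 b 2 = 0 := fun b => by
    by_cases hb : b = 0
    · simp [hb, h00]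
    have e := hz b b
    rw [CharTwo.add_self_eq_zero, h00, P.nat_U] at e
    have e1 : φ 0 b 3 = 0 := by
      have := congrFun e 1
      simp at this
      rw [← add_assoc, CharTwo.add_self_eq_zero, zero_add] at this
      exact (mul_eq_zero.1 this.symm).resolve_left hb
    refine ⟨e1, ?_⟩
    have := congrFun e 0
    simp [e1] at this
    rw [← add_assoc, CharTwo.add_self_eq_zero, zero_add] at this
    exact (mul_eq_zero.1 this.symm).resolve_left hb
  have hcomm : ∀ a b, φ a 0 + P.nat₁ (P.U a 0) (φ 0 b) = φ 0 b + P.nat₁ (P.U 0 b) (φ a 0) := by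
    intro a b
    have e1 := hφ a 0 0 b
    have e2 := hφ 0 b a 0
    simp at e1 e2
    exact e1.symm.trans e2
  have hk3 : ∀ a, φ a 0 3 = 0 := fun a => by
    have := congrFun (hcomm a 1) 1
    simp [P.nat_U, (hC 1).1, (hC 1).2] at this
    linear_combination -this
  set c := φ 1 0 2 with hc
  have hψ1 : ∀ b, φ 0 b 1 = c * b := fun b => by
    have := congrFun (hcomm 1 b) 0
    simp [P.nat_U, hk3, (hC b).1, (hC b).2] at this
    linear_combination this
  have hk2 : ∀ a, φ a 0 2 = c * a := fun a => by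
    have := congrFun (hcomm a 1) 0
    simp [P.nat_U, hk3, (hC 1).1, (hC 1).2, hψ1] at this
    linear_combination -this
  have hsplit : ∀ a b, φ a b = φ a 0 + P.nat₁ (P.U a 0) (φ 0 b) := fun a b => by
    simpa using hφ a 0 0 b
  have hψ0 : ∀ b d, φ 0 (b + d) 0 = φ 0 b 0 + φ 0 d 0 := fun b d => by
    have := congrFun (hz b d) 0
    simpa [P.nat_U, (hC d).1, (hC d).2] using this
  let ψ : F →+ F := AddMonoidHom.mk' (fun b => φ 0 b 0 - c * P.θ b) fun b d => by
    rw [hψ0, map_add]; ring
  let K : F →+ F := AddMonoidHom.mk' (fun a => φ a 0 1 - c * (a * P.θ a)) fun a a' => by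
    have e := congrFun ((hsplit (a + a') (0 + 0 + a * P.θ a')).symm.trans (hφ a 0 a' 0)) 1
    simp [P.nat_U, (hC _).1, (hC _).2, hk3, hk2, hψ1] at e
    rw [map_add]
    linear_combination e - c * (a * P.θ a') * (CharTwo.two_eq_zero : (2 : F) = 0)
  obtain ⟨p, γ, hp⟩ := P.solve ψ K fun a => by
    have e := congrFun (hφ a 0 a 0) 0
    simp [P.nat_U, CharTwo.add_self_eq_zero, hk3, hk2] at e
    show φ 0 (a * P.θ a) 0 - c * P.θ (a * P.θ a) = a * (φ a 0 1 - c * (a * P.θ a))
    rw [map_mul, P.θθ]
    linear_combination e + φ a 0 0 * (CharTwo.two_eq_zero : (2 : F) = 0)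
  refine ⟨c, p, γ, fun b => ?_⟩
  ext i
  fin_cases i <;> simp [zval, hψ1, (hC b).1, (hC b).2]
  have := hp b
  simp [ψ] at this
  linear_combination this

/-- A crossed homomorphism trivial on the centre. -/
theorem coc_of_center {φ : F → F → Fin 4 → F} (hφ : P.IsCoc φ) (h0 : ∀ b, φ 0 b = 0) :
    ∃ κ : F →+ F, ∀ a b, φ a b = κ a • e0 := by
  have hab : ∀ a b, φ a b = φ a 0 := fun a b => by simpa [h0] using hφ a 0 0 b
  have hcomm : ∀ a b, φ a 0 = P.nat₁ (P.U 0 b) (φ a 0) := fun a b => by
    have e := hφ 0 b a 0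
    simpa [h0, hab] using e
  have h3 : ∀ a, φ a 0 3 = 0 := fun a => by
    have := congrFun (hcomm a 1) 1
    simp [P.nat_U] at this
    exact this
  have h2 : ∀ a, φ a 0 2 = 0 := fun a => by
    have := congrFun (hcomm a 1) 0
    simp [P.nat_U, h3] at this
    exact this
  have hsq : ∀ a, a * φ a 0 1 = 0 := fun a => by
    have e := congrFun (hφ a 0 a 0) 0
    simp [CharTwo.add_self_eq_zero, h0, P.nat_U, h2, h3] at e
    linear_combination -e - φ a 0 0 * (CharTwo.two_eq_zero : (2 : F) = 0)
  have h00 : φ 0 0 = 0 := h0 0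
  have h1 : ∀ a, φ a 0 1 = 0 := fun a => by
    by_cases ha : a = 0
    · simp [ha, h00]
    · exact (mul_eq_zero.1 (hsq a)).resolve_left ha
  refine ⟨AddMonoidHom.mk' (fun a => φ a 0 0) fun a c => ?_, fun a b => ?_⟩
  · have e := congrFun (hφ a 0 c 0) 0
    simpa [hab (a + c), P.nat_U, h1, h2, h3] using e
  · rw [hab]
    ext i
    fin_cases i <;> simp [e0, h1, h2, h3]

end Par

end CfsgLib.CIT.SuzMod
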