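import Mathlib
import Cfsg.Agent.Lib.CIT.SuzCocycle

/-!
# Extensions of one twisted natural module of `Sz(q)` by another split

A preimage of the fixed vector can be chosen fixed by the unipotent group, unless the twists differ by a
square root of `θ`; the latter case contradicts fixed-point-freeness of the torus.
-/

set_option autoImplicit false
set_option linter.style.haveILetI false

namespace CfsgLib.CIT.SuzMod

open Matrix
open scoped Classical

universe v w

variable {F : Type v} [Field F] [Fintype F] [CharP F 2] {P : Par F}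

theorem nat_map (P : Par F) (σ : F →+* F) (g : ↥P.Gam) (c : Fin 4 → F) :
    P.nat σ g (fun i => σ (c i)) = fun i => σ (P.nat₁ g c i) := by
  funext i
  rw [Par.nat₁, Par.nat_apply, Par.nat_apply]
  simp [Matrix.mulVec, dotProduct]

theorem hom_surjective (σ : F →+* F) : Function.Surjective σ :=
  Finite.injective_iff_surjective.1 σ.injective

/-- Two pairs of ring homomorphisms with equal products. -/
theorem eq_or_eq_of_mul_eq (f₁ f₂ f₃ f₄ : F →+* F) (h : ∀ x, f₁ x * f₂ x = f₃ x * f₄ x) :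
    f₁ = f₃ ∨ f₁ = f₄ := by
  have hx : ∀ x, f₁ x = f₃ x ∨ f₁ x = f₄ x := fun x => by
    have h1 := h (x + 1)
    simp only [map_add, map_one] at h1
    have h0 : (f₁ x - f₃ x) * (f₁ x - f₄ x) = 0 := by
      linear_combination -h x + f₁ x * (h1 - h x)
    rcases mul_eq_zero.1 h0 with e | e
    · exact Or.inl (sub_eq_zero.1 e)
    · exact Or.inr (sub_eq_zero.1 e)
  by_contra hne
  push Not at hne
  obtain ⟨a, ha⟩ : ∃ a, f₁ a ≠ f₃ a := by
    by_contra hc; push Not at hc; exact hne.1 (RingHom.ext hc)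
  obtain ⟨b, hb⟩ : ∃ b, f₁ b ≠ f₄ b := by
    by_contra hc; push Not at hc; exact hne.2 (RingHom.ext hc)
  have ha' := (hx a).resolve_left ha
  have hb' := (hx b).resolve_right hb
  rcases hx (a + b) with e | e <;> simp only [map_add] at e
  · exact ha (by linear_combination e - hb')
  · exact hb (by linear_combination e - ha')

/-- An extension of twisted natural modules. -/
structure Ext {V : Type w} [AddCommGroup V] [Module F V] (R : Rep P V) (σ τ : F →+* F) where
  /-- the inclusion -/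
  ι : (Fin 4 → F) →ₗ[F] V
  /-- the projection -/
  π : V →ₗ[F] (Fin 4 → F)
  ι_hom : ∀ g c, ι (P.nat σ g c) = R.ρ g (ι c)
  π_hom : R.IsNatHom τ π
  inj : Function.Injective ι
  surj : Function.Surjective π
  exact : ∀ v, π v = 0 ↔ ∃ c, ι c = v

namespace Ext

variable {V : Type w} [AddCommGroup V] [Module F V] {R : Rep P V} {σ τ : F →+* F} (E : Ext R σ τ)

theorem exists_coc {v : V} {μ : F} (hv : E.π v = μ • e0) :
    ∃ φ : F → F → Fin 4 → F, P.IsCoc φ ∧
      ∀ a b, R.ρ (P.U a b) v = v + E.ι (fun i => σ (φ a b i)) := by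
  have h : ∀ a b, ∃ c : Fin 4 → F, R.ρ (P.U a b) v = v + E.ι (fun i => σ (c i)) := fun a b => by
    obtain ⟨c, hc⟩ := (E.exact (R.ρ (P.U a b) v - v)).1 (by
      rw [map_sub, E.π_hom, hv, map_smul, P.nat_fix, sub_self])
    choose d hd using fun i => hom_surjective σ (c i)
    refine ⟨d, ?_⟩
    simp only [hd]
    rw [hc, add_sub_cancel]
  choose φ hφ using h
  refine ⟨φ, fun a b c d => ?_, hφ⟩
  have e := R.mul_apply (P.U a b) (P.U c d) v
  rw [P.U_mul, hφ, hφ, map_add, hφ, ← E.ι_hom, nat_map, add_assoc v, ← map_add] at e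
  refine funext fun i => σ.injective ?_
  rw [congrFun (E.inj (add_left_cancel e)) i]
  simp only [Pi.add_apply, map_add]

/-- A preimage of the fixed vector fixed by the centre, of weight `τ`. -/
theorem exists_central_lift : ∃ v : V, E.π v = e0 ∧
    (∀ x : Fˣ, R.ρ (P.H x) v = τ x • v) ∧ ∀ b, R.ρ (P.U 0 b) v = v := by
  obtain ⟨v0, hv0⟩ := E.surj e0
  obtain ⟨φ, hφ, hφv⟩ := E.exists_coc (μ := 1) (by rw [hv0, one_smul])
  obtain ⟨c, p, γ, hz⟩ := P.coc_center hφ
  have hγ : γ = 0 := by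
    obtain ⟨x, hx⟩ : ∃ x : Fˣ, τ x ≠ 1 := by
      obtain ⟨x, hx⟩ := P.exists_unit_ne_one
      exact ⟨x, fun e => hx (Units.ext (τ.injective (e.trans (map_one τ).symm)))⟩
    obtain ⟨d, hd⟩ := (E.exact (R.ρ (P.H x) v0 - τ x • v0)).1 (by
      rw [map_sub, E.π_hom, map_smul, hv0, P.nat_H_e0, sub_self])
    choose d' hd' using fun i => hom_surjective σ (d i)
    obtain ⟨r, hr⟩ := hom_surjective σ (τ x)
    have hHx : R.ρ (P.H x) v0 = τ x • v0 + E.ι d := by rw [hd, add_sub_cancel]
    have key : ∀ b : F, (x : F) * P.zval c p γ (b / P.θ x) 0 =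
        r * P.zval c p γ b 0 + b * d' 2 + P.θ b * d' 3 := fun b => by
      have hU : P.U 0 b * P.H x = P.H x * P.U 0 (b / P.θ x) := by
        rw [P.H_U, mul_zero, mul_div_cancel₀ _ ((map_ne_zero P.θ).2 x.ne_zero)]
      have e := R.mul_apply (P.U 0 b) (P.H x) v0
      rw [hU, R.mul_apply, hφv, map_add, hHx, map_add, map_smul, hφv, smul_add, hz, hz,
        ← E.ι_hom, ← E.ι_hom, add_assoc, add_assoc, ← map_smul, ← map_add, ← map_add] at e
      have e1 := congrFun (E.inj (add_left_cancel e)) 0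
      refine σ.injective ?_
      simp [P.nat_H, P.nat_U, ← hd', ← hr] at e1
      simp only [map_add, map_mul]
      linear_combination e1
    have hx0 : (x : F) ≠ 0 := x.ne_zero
    have hθ0 : P.θ (x : F) ≠ 0 := (map_ne_zero P.θ).2 hx0
    obtain ⟨h1, h2, h3, -, -⟩ := P.exps_ne
    have e := P.coef₃ h2.symm h3.symm h1 (a := c / x - r * c - d' 3)
      (b := p * x / P.θ x - r * p - d' 2) (c := γ - r * γ) fun b => by
      have k := key b
      simp only [Par.zval, Matrix.cons_val_zero, map_div₀, P.θθ, P.θi_θ] at k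
      rw [P.fr_θ, P.fr_zero]
      show _ + _ + _ * P.θi b = 0
      field_simp at k ⊢
      linear_combination k
    have hr1 : r ≠ 1 := fun e1 => hx (by rw [← hr, e1, map_one])
    have : γ * (1 - r) = 0 := by linear_combination e.2.2
    exact (mul_eq_zero.1 this).resolve_right (sub_ne_zero.2 hr1.symm)
  subst hγ
  set c₀ : Fin 4 → F := fun i => σ ((![0, 0, p, c] : Fin 4 → F) i) with hc₀
  have h1 : ∀ b, R.ρ (P.U 0 b) (v0 - E.ι c₀) = v0 - E.ι c₀ := fun b => by
    have e : (fun i => σ (φ 0 b i)) = P.nat σ (P.U 0 b) c₀ - c₀ := by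
      rw [hc₀, nat_map, hz]
      funext i
      fin_cases i <;> simp [Par.zval, P.nat_U] <;> ring
    rw [map_sub, hφv, ← E.ι_hom, e, map_sub]
    abel
  set χ : Fˣ →* F := τ.toMonoidHom.comp (Units.coeHom F)
  refine ⟨R.proj χ (v0 - E.ι c₀), ?_, fun x => R.proj_eigen χ _ x, fun b => ?_⟩
  · rw [Rep.proj_apply, map_sum]
    have : ∀ x : Fˣ, E.π (χ x⁻¹ • R.ρ (P.H x) (v0 - E.ι c₀)) = e0 := fun x => by
      rw [map_smul, E.π_hom, map_sub, (E.exact (E.ι c₀)).2 ⟨_, rfl⟩, hv0, sub_zero, P.nat_H_e0,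
        smul_smul]
      show (τ ((x⁻¹ : Fˣ) : F) * τ (x : F)) • e0 = e0
      rw [← map_mul]
      simp
    rw [Finset.sum_congr rfl fun x _ => this x, Finset.sum_const, Finset.card_univ,
      ← Nat.cast_smul_eq_nsmul F, P.cast_card_units, one_smul]
  · rw [Rep.proj_apply, map_sum]
    refine Finset.sum_congr rfl fun x _ => ?_
    have hU : P.U 0 b * P.H x = P.H x * P.U 0 (b / P.θ x) := by
      rw [P.H_U, mul_zero, mul_div_cancel₀ _ ((map_ne_zero P.θ).2 x.ne_zero)]
    rw [map_smul, ← R.mul_apply, hU, R.mul_apply, h1]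

/-- The exceptional relation between the twists. -/
def Anom (σ τ : F →+* F) : Prop := ∀ x, τ x ^ 2 = σ (P.θ x)

theorem not_anom_swap (h : Anom (P := P) σ τ) (h' : Anom (P := P) τ σ) : False := by
  obtain ⟨x, h0, h1⟩ := P.exists_ne_zero_one
  have e : τ (x ^ 2) ^ 2 = τ (x ^ 2) := by
    calc τ (x ^ 2) ^ 2 = (τ x ^ 2) ^ 2 := by rw [map_pow τ x 2]
      _ = σ (P.θ x) ^ 2 := congrArg (· ^ 2) (h x)
      _ = τ (P.θ (P.θ x)) := h' (P.θ x)
      _ = τ (x ^ 2) := by rw [P.θθ]
  have h2 : x ^ 2 * (x ^ 2 - 1) = 0 := by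
    have := τ.injective (show τ ((x ^ 2) ^ 2) = τ (x ^ 2) by rw [map_pow, e])
    linear_combination this
  have h3 : (x - 1) * (x - 1) = 0 := by
    have := (mul_eq_zero.1 h2).resolve_left (pow_ne_zero 2 h0)
    linear_combination this + (1 - x) * (CharTwo.two_eq_zero : (2 : F) = 0)
  exact h1 (sub_eq_zero.1 (mul_self_eq_zero.1 h3))

/-- A preimage of weight `τ` which is fixed, or moved along the fixed line by a square root. -/
theorem exists_lift : ∃ v : V, E.π v = e0 ∧ (∀ x : Fˣ, R.ρ (P.H x) v = τ x • v) ∧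
    (R.Fixed v ∨ (Anom (P := P) σ τ ∧ ∃ (d : F) (r : F →+* F), d ≠ 0 ∧ (∀ a, r a ^ 2 = a) ∧
      ∀ a b, R.ρ (P.U a b) v = v + E.ι (σ (d * r a) • e0))) := by
  obtain ⟨v, hv, hev, hzf⟩ := E.exists_central_lift
  refine ⟨v, hv, hev, ?_⟩
  obtain ⟨φ, hφ, hφv⟩ := E.exists_coc (μ := 1) (by rw [hv, one_smul])
  have h0 : ∀ b, φ 0 b = 0 := fun b => by
    have e : (fun i => σ (φ 0 b i)) = 0 := E.inj (by
      rw [map_zero]; exact left_eq_add.1 ((hzf b).symm.trans (hφv 0 b)))
    funext i
    exact σ.injective (by simpa using congrFun e i)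
  obtain ⟨κ, hκ⟩ := P.coc_of_center hφ h0
  have hval : ∀ a b, R.ρ (P.U a b) v = v + E.ι (σ (κ a) • e0) := fun a b => by
    rw [hφv, hκ]
    congr 2
    funext i
    fin_cases i <;> simp [e0]
  have hwt : ∀ (x : Fˣ) a, τ x * σ (κ ((x : F) ^ 2 / P.θ x * a)) = σ x * σ (κ a) := fun x a => by
    have e := R.mul_apply (P.H x) (P.U a 0) v
    rw [P.H_U, mul_zero, R.mul_apply, hev, map_smul, hval, hval, map_add, hev, smul_add,
      ← E.ι_hom, ← map_smul E.ι, map_smul (P.nat σ (P.H x)), P.nat_H_e0, smul_smul, smul_smul] at e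
    have e1 := congrFun (E.inj (add_left_cancel e)) 0
    simp [e0] at e1
    linear_combination e1
  by_cases hall : ∀ a, κ a = 0
  · exact Or.inl fun a b => by rw [hval, hall, map_zero, zero_smul, map_zero, add_zero]
  have hsurj : ∀ a : F, a ≠ 0 → ∃ x : Fˣ, (x : F) ^ 2 / P.θ x = a := by
    let f : Fˣ →* Fˣ :=
      { toFun := fun x => x ^ 2 / Units.map P.θ.toMonoidHom x
        map_one' := by simp
        map_mul' := fun x y => by rw [mul_pow, map_mul, div_mul_div_comm] }
    have hf : Function.Injective f := by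
      refine (injective_iff_map_eq_one f).2 fun x hx => ?_
      have e : Units.map P.θ.toMonoidHom x = x ^ 2 := (div_eq_one.1 hx).symm
      exact Units.ext ((P.θ_eq_sq (congrArg Units.val e)).resolve_left x.ne_zero)
    intro a ha
    obtain ⟨x, hx⟩ := (Finite.injective_iff_surjective.1 hf) (Units.mk0 a ha)
    exact ⟨x, by simpa [f, Units.val_div_eq_div_val] using congrArg Units.val hx⟩
  set K := κ 1 with hK
  have hK0 : K ≠ 0 := fun e => hall fun a => by
    by_cases ha : a = 0
    · simp [ha]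
    obtain ⟨x, hx⟩ := hsurj a ha
    have h := hwt x 1
    rw [mul_one, hx, ← hK, e, map_zero, mul_zero, mul_eq_zero] at h
    exact σ.injective ((h.resolve_left (by simp)).trans (map_zero σ).symm)
  have hmul : ∀ a b, κ (a * b) * K = κ a * κ b := fun a b => by
    by_cases ha : a = 0
    · simp [ha]
    obtain ⟨x, hx⟩ := hsurj a ha
    have h1 := hwt x b
    have h2 := hwt x 1
    rw [hx] at h1
    rw [mul_one, hx] at h2
    have hτ : τ (x : F) ≠ 0 := by simp
    refine σ.injective ?_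
    rw [map_mul σ, map_mul σ]
    exact mul_left_cancel₀ hτ (by linear_combination σ K * h1 - σ (κ b) * h2)
  let r : F →+* F :=
    { toFun := fun a => κ a / K
      map_one' := div_self hK0
      map_mul' := fun a b => by
        field_simp
        linear_combination hmul a b
      map_zero' := by simp
      map_add' := fun a b => by rw [map_add, add_div] }
  have hr : ∀ a, κ a = K * r a := fun a => (mul_div_cancel₀ _ hK0).symm
  have hprod : ∀ x, (σ.comp r) (x ^ 2) * τ x = σ x * (σ.comp r) (P.θ x) := fun x => by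
    by_cases hx : x = 0
    · simp [hx]
    have h := hwt (Units.mk0 x hx) 1
    have hθ0 : P.θ x ≠ 0 := (map_ne_zero P.θ).2 hx
    rw [mul_one, Units.val_mk0, hr, ← hK, map_mul, map_div₀, map_div₀] at h
    have h5 : σ (r (P.θ x)) ≠ 0 := by simpa using hθ0
    simp only [RingHom.comp_apply]
    field_simp at h
    exact mul_left_cancel₀ (by simpa using hK0 : σ K ≠ 0) (by linear_combination h)
  rcases eq_or_eq_of_mul_eq ((σ.comp r).comp (frobenius F 2)) τ σ ((σ.comp r).comp P.θ)
      (fun x => by simpa [frobenius_def] using hprod x) with h | h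
  · refine Or.inr ⟨fun x => ?_, K, r, hK0, fun a => ?_, fun a b => by rw [hval, hr]⟩
    · by_cases hx : x = 0
      · simp [hx]
      have e := hprod x
      have h' := RingHom.congr_fun h x
      simp [frobenius_def] at h' e
      rw [h'] at e
      have e' : τ x = σ (r (P.θ x)) := mul_left_cancel₀ (by simpa using hx) e
      rw [e', ← map_pow, ← map_pow, σ.injective.eq_iff]
      have := RingHom.congr_fun h (P.θ x)
      simp only [RingHom.comp_apply, frobenius_def] at this
      exact σ.injective this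
    · have := RingHom.congr_fun h a
      simp only [RingHom.comp_apply, frobenius_def] at this
      rw [← map_pow]
      exact σ.injective this
  · exfalso
    obtain ⟨x, h0, h1⟩ := P.exists_ne_zero_one
    have := RingHom.congr_fun h x
    simp only [RingHom.comp_apply, frobenius_def] at this
    exact (P.θ_eq_sq (r.injective (σ.injective this)).symm).elim h0 h1

/-! ### The dual extension -/

theorem altForm_single (d : Fin 4 → F) (i : Fin 4) :
    Cfsg.Lie.altForm4 d (Pi.single i.rev 1) = d i := by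
  fin_cases i <;> simp [Cfsg.Lie.altForm4, Fin.rev, Pi.single_apply]

theorem altForm_ext {d d' : Fin 4 → F}
    (h : ∀ c, Cfsg.Lie.altForm4 d c = Cfsg.Lie.altForm4 d' c) : d = d' :=
  funext fun i => by rw [← altForm_single d i, ← altForm_single d' i, h]

theorem altForm_rev (f : (Fin 4 → F) →ₗ[F] F) (c : Fin 4 → F) :
    Cfsg.Lie.altForm4 (fun i => f (Pi.single i.rev 1)) c = f c := by
  conv_rhs => rw [pi_eq_sum_univ' c]
  simp [Cfsg.Lie.altForm4, Fin.sum_univ_four, Fin.rev]
  ring

/-- The pairing as a linear map. -/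
def altMap : (Fin 4 → F) →ₗ[F] Module.Dual F (Fin 4 → F) :=
  LinearMap.mk₂ F Cfsg.Lie.altForm4 (fun a b c => by simp [Cfsg.Lie.altForm4]; ring)
    (fun k a c => by simp [Cfsg.Lie.altForm4]; ring) (fun a b c => by simp [Cfsg.Lie.altForm4]; ring)
    (fun k a c => by simp [Cfsg.Lie.altForm4]; ring)

/-- The dual extension. -/
noncomputable def dual [FiniteDimensional F V] : Ext R.dual τ σ where
  ι :=
    { toFun := fun c => (altMap c).comp E.π
      map_add' := fun a b => by rw [map_add, LinearMap.add_comp]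
      map_smul' := fun k a => by rw [map_smul, LinearMap.smul_comp]; rfl }
  π :=
    { toFun := fun f i => f (E.ι (Pi.single i.rev 1))
      map_add' := fun a b => rfl
      map_smul' := fun k a => rfl }
  ι_hom g c := LinearMap.ext fun v => by
    show Cfsg.Lie.altForm4 (P.nat τ g c) (E.π v) = Cfsg.Lie.altForm4 c (E.π (R.ρ g⁻¹ v))
    rw [E.π_hom, ← P.altForm_nat τ g c, ← P.nat_mul, mul_inv_cancel, P.nat_one]
  π_hom g f := altForm_ext fun c => by
    show Cfsg.Lie.altForm4 (fun i => (R.dual.ρ g f).comp E.ι (Pi.single i.rev 1)) c =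
      Cfsg.Lie.altForm4 (P.nat σ g fun i => f.comp E.ι (Pi.single i.rev 1)) c
    rw [altForm_rev]
    conv_rhs => rw [← P.nat_one σ c, ← mul_inv_cancel g, P.nat_mul, P.altForm_nat, altForm_rev]
    show f (R.ρ g⁻¹ (E.ι c)) = f (E.ι (P.nat σ g⁻¹ c))
    rw [E.ι_hom]
  inj a b e := altForm_ext fun c => by
    obtain ⟨v, rfl⟩ := E.surj c
    exact LinearMap.congr_fun e v
  surj d := by
    obtain ⟨l, hl⟩ := LinearMap.exists_leftInverse_of_injective E.ι (LinearMap.ker_eq_bot.2 E.inj)
    refine ⟨(altMap d).comp l, funext fun i => ?_⟩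
    show Cfsg.Lie.altForm4 d (l (E.ι (Pi.single i.rev 1))) = d i
    rw [show l (E.ι (Pi.single i.rev 1)) = Pi.single i.rev 1 from LinearMap.congr_fun hl _,
      altForm_single]
  exact f := by
    constructor
    · intro hf
      have hι : ∀ c, f (E.ι c) = 0 := fun c => by
        show f.comp E.ι c = 0
        rw [← altForm_rev (f.comp E.ι) c]
        show Cfsg.Lie.altForm4 (fun i => f (E.ι (Pi.single i.rev 1))) c = 0
        have : (fun i : Fin 4 => f (E.ι (Pi.single i.rev 1))) = 0 := hf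
        rw [this]
        simp [Cfsg.Lie.altForm4]
      obtain ⟨s, hs⟩ := LinearMap.exists_rightInverse_of_surjective E.π
        (LinearMap.range_eq_top.2 E.surj)
      refine ⟨fun i => f.comp s (Pi.single i.rev 1), LinearMap.ext fun v => ?_⟩
      show Cfsg.Lie.altForm4 (fun i => f.comp s (Pi.single i.rev 1)) (E.π v) = f v
      rw [altForm_rev]
      obtain ⟨c, hc⟩ := (E.exact (v - s (E.π v))).1 (by
        rw [map_sub, show E.π (s (E.π v)) = E.π v from LinearMap.congr_fun hs _, sub_self])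
      have := hι c
      rw [hc, map_sub, sub_eq_zero] at this
      exact this.symm
    · rintro ⟨c, rfl⟩
      funext i
      show Cfsg.Lie.altForm4 c (E.π (E.ι (Pi.single i.rev 1))) = 0
      rw [(E.exact _).2 ⟨_, rfl⟩]
      simp [Cfsg.Lie.altForm4]

/-- A functional fixed by the unipotent group which extends the last coordinate. -/
structure Bot (f : Module.Dual F V) : Prop where
  coord : ∀ c, f (E.ι c) = c 3
  fix : ∀ a b u, f (R.ρ (P.U a b) u) = f u
  weight : ∀ (x : Fˣ) u, σ x * f (R.ρ (P.H x) u) = f u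

/-- The exceptional preimage contradicts fixed-point-freeness. -/
theorem anom_false {f : Module.Dual F V} (hf : E.Bot f) (ha : Anom (P := P) σ τ) {v : V}
    (hev : ∀ x : Fˣ, R.ρ (P.H x) v = τ x • v) {d : F} {r : F →+* F} (hd : d ≠ 0)
    (hr : ∀ a, r a ^ 2 = a) (hU : ∀ a b, R.ρ (P.U a b) v = v + E.ι (σ (d * r a) • e0)) : False := by
  have hf1 : f v = 0 := by
    by_contra hne
    obtain ⟨x, hx⟩ := hom_mul_ne_one P σ τ
    refine hx (mul_right_cancel₀ hne ?_)
    have := hf.weight x v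
    rw [hev, map_smul, smul_eq_mul] at this
    linear_combination this
  have hfW : f (R.ρ P.W v) = 0 := by
    by_contra hne
    have hone : ∀ x : Fˣ, σ x = τ x := fun x => by
      have h := hf.weight x⁻¹ (R.ρ P.W v)
      rw [← R.mul_apply, ← P.W_H, R.mul_apply, hev, map_smul, map_smul, smul_eq_mul, ← mul_assoc]
        at h
      have h2 : σ ((x⁻¹ : Fˣ) : F) * τ x = 1 := mul_right_cancel₀ hne (h.trans (one_mul _).symm)
      have h3 : σ (x : F) * σ ((x⁻¹ : Fˣ) : F) = 1 := by rw [← map_mul]; simp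
      linear_combination τ (x : F) * h3 - σ (x : F) * h2
    obtain ⟨x, h0, h1⟩ := P.exists_ne_zero_one
    have := ha x
    rw [show τ x = σ x from (hone (Units.mk0 x h0)).symm, ← map_pow] at this
    exact (P.θ_eq_sq (σ.injective this).symm).elim h0 h1
  have hF : ∀ g, f (R.ρ g v) = σ (d * r (P.mat g 3 0 * P.mat g 3 1)) := fun g => by
    rcases P.decomp g with ⟨x, a, b, rfl⟩ | ⟨a', b', x, a, b, rfl⟩
    · have h0 : P.mat (P.H x * P.U a b) 3 0 = 0 := by
        have := P.nat_e0 (RingHom.id F) (P.H x * P.U a b) 3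
        rw [P.nat_mul, P.nat_fix, P.nat_H_e0] at this
        simpa [e0] using this.symm
      rw [h0, zero_mul, map_zero, mul_zero, map_zero, R.mul_apply, hU, map_add, hev, ← E.ι_hom,
        map_smul, P.nat_H_e0, map_add, map_smul, hf1, hf.coord]
      simp [e0]
    · have hcol : ∀ i, P.mat (P.U a' b' * P.W * (P.H x * P.U a b)) 3 i =
          (![(x : F), (x : F) * a, (x : F) * b,
            (x : F) * (a * b + a ^ 2 * P.θ a + P.θ b)] : Fin 4 → F) i := by
        intro i
        have h1 : P.mat (P.U a' b' * P.W * (P.H x * P.U a b)) 3 i =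
            P.nat₁ (P.U a' b' * P.W * (P.H x * P.U a b)) (Pi.single i 1) 3 := by
          rw [Par.nat₁, P.nat_apply, Matrix.mulVec_single_one]
          rfl
        rw [h1, P.nat_mul, P.nat_mul, P.nat_mul, P.nat_U, P.nat_W, P.nat_H, P.nat_U]
        fin_cases i <;> simp
      rw [hcol, hcol, R.mul_apply, R.mul_apply, R.mul_apply, hf.fix, hU, map_add, hev, ← E.ι_hom,
        map_smul, P.nat_H_e0, map_add, map_smul, map_add, map_smul, hfW, ← E.ι_hom, hf.coord]
      have hrx : r ((x : F) * ((x : F) * a)) = (x : F) * r a := by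
        rw [← mul_assoc, map_mul, map_mul, ← pow_two, hr]
      simp [P.nat_W, e0, hrx, map_mul]
      ring
  have hsum := congrArg f (congrArg (R.ρ P.W) (congrArg (R.ρ (P.U 0 1)) (R.sum_torus
    (R.ρ (P.U 0 1) (R.ρ P.W v)))))
  simp only [map_sum, map_zero, ← R.mul_apply, hF] at hsum
  have hg : ∀ x : Fˣ, P.mat (P.W * (P.U 0 1 * (P.H x * (P.U 0 1 * P.W)))) 3 0 *
      P.mat (P.W * (P.U 0 1 * (P.H x * (P.U 0 1 * P.W)))) 3 1 =
      (x : F) ^ 2 + (x : F) ^ 2 / P.θ x + 1 / P.θ x + 1 := fun x => by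
    have h1 : ∀ i, P.mat (P.W * (P.U 0 1 * (P.H x * (P.U 0 1 * P.W)))) 3 i =
        P.nat₁ (P.W * (P.U 0 1 * (P.H x * (P.U 0 1 * P.W)))) (Pi.single i 1) 3 := fun i => by
      rw [Par.nat₁, P.nat_apply, Matrix.mulVec_single_one]
      rfl
    rw [h1, h1, P.nat_mul, P.nat_mul, P.nat_mul, P.nat_mul, P.nat_W, P.nat_U, P.nat_H, P.nat_U,
      P.nat_W, P.nat_mul, P.nat_mul, P.nat_mul, P.nat_mul, P.nat_W, P.nat_U, P.nat_H, P.nat_U,
      P.nat_W]
    have hx0 : (x : F) ≠ 0 := x.ne_zero
    have hθ0 : P.θ (x : F) ≠ 0 := (map_ne_zero P.θ).2 hx0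
    simp
    field_simp
    ring_nf
  have key : ∀ k : Fˣ →* F, (∃ x, k x ≠ 1) → ∑ x : Fˣ, k x = 0 := fun k ⟨x, hx⟩ =>
    sum_hom_units_eq_zero k fun e => hx (by rw [e]; rfl)
  obtain ⟨y, hy⟩ := P.exists_unit_ne_one
  have hy' : (y : F) ≠ 1 := fun e => hy (Units.ext e)
  set T : Fˣ →* F := P.θ.toMonoidHom.comp (Units.coeHom F) with hT
  have s1 : ∑ x : Fˣ, (x : F) ^ 2 = 0 := key ((powMonoidHom 2).comp (Units.coeHom F)) ⟨y, fun e => by
    have e' : ((y : F) - 1) * ((y : F) - 1) = 0 := by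
      have e2 : (y : F) ^ 2 = 1 := e
      linear_combination e2 + (1 - (y : F)) * (CharTwo.two_eq_zero : (2 : F) = 0)
    exact hy' (sub_eq_zero.1 (mul_self_eq_zero.1 e'))⟩
  have s2 : ∑ x : Fˣ, (x : F) ^ 2 / P.θ x = 0 := key
    { toFun := fun x => (x : F) ^ 2 / P.θ x
      map_one' := by simp
      map_mul' := fun a b => by simp [mul_pow, mul_div_mul_comm] }
    ⟨y, fun e => by
      have e2 : (y : F) ^ 2 / P.θ y = 1 := e
      rw [div_eq_one_iff_eq ((map_ne_zero P.θ).2 y.ne_zero)] at e2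
      exact (P.θ_eq_sq e2.symm).elim y.ne_zero hy'⟩
  have s3 : ∑ x : Fˣ, 1 / P.θ (x : F) = 0 := key
    { toFun := fun x => 1 / P.θ (x : F)
      map_one' := by simp
      map_mul' := fun a b => by simp [mul_comm] }
    ⟨y, fun e => by
      have e2 : 1 / P.θ (y : F) = 1 := e
      rw [one_div, inv_eq_one, map_eq_one_iff P.θ P.θ.injective] at e2
      exact hy' e2⟩
  rw [← map_sum, ← Finset.mul_sum, ← map_sum, Finset.sum_congr rfl fun x _ => hg x,
    Finset.sum_add_distrib, Finset.sum_add_distrib, Finset.sum_add_distrib, s1, s2, s3,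
    Finset.sum_const, Finset.card_univ, nsmul_eq_mul, P.cast_card_units] at hsum
  simp [hd] at hsum

/-- Extensions split. -/
theorem exists_retraction [FiniteDimensional F V] :
    ∃ r : V →ₗ[F] (Fin 4 → F), R.IsNatHom σ r ∧ ∀ c, r (E.ι c) = c := by
  obtain ⟨f, hf, hfw, hfor⟩ := E.dual.exists_lift
  have hcoord : ∀ c, f (E.ι c) = c 3 := fun c => by
    show f.comp E.ι c = c 3
    rw [← altForm_rev (f.comp E.ι) c]
    show Cfsg.Lie.altForm4 (E.dual.π f) c = c 3
    rw [hf]
    simp [Cfsg.Lie.altForm4, e0]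
  have hweight : ∀ (x : Fˣ) u, σ x * f (R.ρ (P.H x) u) = f u := fun x u => by
    have := LinearMap.congr_fun (hfw x) (R.ρ (P.H x) u)
    rw [R.dual_apply, R.inv_apply] at this
    exact this.symm
  obtain ⟨v, hv, hev, hvor⟩ := E.exists_lift
  have hfix : R.dual.Fixed f → E.Bot f := fun h => ⟨hcoord, fun a b u => by
    have := LinearMap.congr_fun (h a b) (R.ρ (P.U a b) u)
    rw [R.dual_apply, R.inv_apply] at this
    exact this.symm, hweight⟩
  rcases hvor with hvf | ⟨ha, d, r, hd, hr, hU⟩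
  swap
  · rcases hfor with hff | ⟨ha', -⟩
    · exact (E.anom_false (hfix hff) ha hev hd hr hU).elim
    · exact (not_anom_swap ha ha').elim
  rcases hfor with hff | ⟨ha', d, r, hd, hr, hU⟩
  swap
  · refine (E.dual.anom_false (f := Module.Dual.eval F V v) ⟨fun c => ?_, fun a b u => ?_,
      fun x u => ?_⟩ ha' hfw hd hr hU).elim
    · show Cfsg.Lie.altForm4 c (E.π v) = c 3
      rw [hv]
      simp [Cfsg.Lie.altForm4, e0]
    · show u (R.ρ (P.U a b)⁻¹ v) = u v
      rw [P.U_inv, hvf]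
    · show τ x * u (R.ρ (P.H x)⁻¹ v) = u v
      rw [← map_inv P.H, hev, map_smul, smul_eq_mul, ← mul_assoc, ← map_mul]
      simp
  have hb := hfix hff
  set ν := f (R.ρ P.W v) with hν
  have hνw : ν ≠ 0 → ∀ x, σ x = τ x := fun hne x => by
    by_cases hx : x = 0
    · simp [hx]
    have h := hb.weight (Units.mk0 x hx)⁻¹ (R.ρ P.W v)
    rw [← R.mul_apply, ← P.W_H, R.mul_apply, hev, map_smul, map_smul, smul_eq_mul, ← hν,
      ← mul_assoc] at h
    have h2 := mul_right_cancel₀ hne (h.trans (one_mul _).symm)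
    rw [Units.val_inv_eq_inv_val, Units.val_mk0, map_inv₀] at h2
    have : σ x ≠ 0 := by simpa using hx
    field_simp at h2
    exact h2.symm
  have hf1 : f v = 0 := by
    by_contra hne
    obtain ⟨x, hx⟩ := hom_mul_ne_one P σ τ
    refine hx (mul_right_cancel₀ hne ?_)
    have := hb.weight x v
    rw [hev, map_smul, smul_eq_mul] at this
    linear_combination this
  have hF : ∀ g, f (R.ρ g v) = σ (P.mat g 3 0) * ν := fun g => by
    have e := P.nat_e0 σ g 3
    rcases P.decomp g with ⟨x, a, b, rfl⟩ | ⟨a', b', x, a, b, rfl⟩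
    · rw [← e, P.nat_mul, P.nat_fix, P.nat_H_e0, R.mul_apply, hvf, hev, map_smul, hf1]
      simp [e0]
    · rw [← e, P.nat_mul, P.nat_mul, P.nat_mul, P.nat_fix, P.nat_H_e0, P.nat_U, P.nat_W,
        R.mul_apply, R.mul_apply, R.mul_apply, hb.fix, hvf, hev, map_smul, map_smul, smul_eq_mul,
        ← hν]
      by_cases hne : ν = 0
      · simp [hne]
      · simp [e0, hνw hne]
  let Ψ : V →ₗ[F] (↥P.Gam → F) := LinearMap.pi fun g => f.comp (R.ρ g)
  let L : (Fin 4 → F) →ₗ[F] (↥P.Gam → F) := LinearMap.pi fun g => (LinearMap.proj 3).comp (P.nat σ g)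
  have hL : Function.Injective L := by
    rw [injective_iff_map_eq_zero]
    exact fun c hc => P.coord_injective σ fun g => congrFun hc g
  have hι : ∀ c, Ψ (E.ι c) = L c := fun c => funext fun g => by
    show f (R.ρ g (E.ι c)) = P.nat σ g c 3
    rw [← E.ι_hom, hcoord]
  have hmem : ∀ g u, Ψ u ∈ LinearMap.range L → Ψ (R.ρ g u) ∈ LinearMap.range L := by
    rintro g u ⟨c, hc⟩
    refine ⟨P.nat σ g c, funext fun k => ?_⟩
    show P.nat σ k (P.nat σ g c) 3 = f (R.ρ k (R.ρ g u))
    rw [← P.nat_mul, ← R.mul_apply]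
    exact congrFun hc (k * g)
  set S := (LinearMap.range L).comap Ψ with hS
  have hvS : v ∈ S := ⟨ν • e0, funext fun g => by
    show P.nat σ g (ν • e0) 3 = f (R.ρ g v)
    rw [map_smul, Pi.smul_apply, P.nat_e0, hF, smul_eq_mul, mul_comm]⟩
  have htop : S.map E.π = ⊤ := P.eq_top_of_e0 τ (by
      rintro g _ ⟨u, hu, rfl⟩
      exact ⟨R.ρ g u, hmem g u hu, E.π_hom g u⟩) ⟨v, hvS, hv⟩
  have hrange : ∀ u, Ψ u ∈ LinearMap.range L := fun u => by
    obtain ⟨s, hs, hsu⟩ : E.π u ∈ S.map E.π := htop ▸ Submodule.mem_top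
    obtain ⟨c, hc⟩ := (E.exact (u - s)).1 (by rw [map_sub, hsu, sub_self])
    rw [show u = s + E.ι c by rw [hc, add_sub_cancel], map_add, hι]
    exact add_mem hs ⟨c, rfl⟩
  let r : V →ₗ[F] (Fin 4 → F) := (LinearEquiv.ofInjective L hL).symm.toLinearMap.comp
    (Ψ.codRestrict (LinearMap.range L) hrange)
  have hr : ∀ u, L (r u) = Ψ u := fun u =>
    congrArg Subtype.val ((LinearEquiv.ofInjective L hL).apply_symm_apply ⟨Ψ u, hrange u⟩)
  refine ⟨r, fun g u => hL (funext fun k => ?_), fun c => hL (by rw [hr, hι])⟩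
  rw [hr]
  show f (R.ρ k (R.ρ g u)) = P.nat σ k (P.nat σ g (r u)) 3
  rw [← P.nat_mul, ← R.mul_apply]
  exact (congrFun (hr u) (k * g)).symm

end Ext

end CfsgLib.CIT.SuzMod
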