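import Mathlib
import Cfsg.Agent.Lib.CIT.SuzExt

/-!
# Modules with fixed-point-free elements of odd order are sums of twisted natural modules

Equivariant maps to twisted natural modules separate points, and images of equivariant maps from them
span.
-/

set_option autoImplicit false
set_option linter.style.haveILetI false

namespace CfsgLib.CIT.SuzMod

open scoped Classical

universe v w

variable {F : Type v} [Field F] [Fintype F] [CharP F 2] {P : Par F}

namespace Rep

variable {V : Type w} [AddCommGroup V] [Module F V] (R : Rep P V)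

/-- An equivariant map from a twisted natural module. -/
def IsFromNat (σ : F →+* F) (ι : (Fin 4 → F) →ₗ[F] V) : Prop :=
  ∀ g c, ι (P.nat σ g c) = R.ρ g (ι c)

/-- The subrepresentation. -/
def sub (S : Submodule F V) (hS : R.Inv S) : Rep P ↥S where
  ρ :=
    { toFun := fun g => (R.ρ g).restrict (hS g)
      map_one' := LinearMap.ext fun v => Subtype.ext (R.one_apply v.1)
      map_mul' := fun g k => LinearMap.ext fun v => Subtype.ext (R.mul_apply g k v.1) }
  fpf g hg hg1 v hv := Subtype.ext (R.fpf g hg hg1 v.1 (congrArg Subtype.val hv))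

/-- The quotient representation. -/
def quot (S : Submodule F V) (hS : R.Inv S) : Rep P (V ⧸ S) where
  ρ :=
    { toFun := fun g => S.mapQ S (R.ρ g) fun v hv => hS g v hv
      map_one' := by
        refine Submodule.linearMap_qext S (LinearMap.ext fun v => ?_)
        exact congrArg S.mkQ (R.one_apply v)
      map_mul' := fun g k => by
        refine Submodule.linearMap_qext S (LinearMap.ext fun v => ?_)
        exact congrArg S.mkQ (R.mul_apply g k v) }
  fpf g hg hg1 v hv := by
    obtain ⟨u, rfl⟩ := S.mkQ_surjective v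
    have hu : R.ρ g u - u ∈ S := (Submodule.Quotient.eq S).1 hv
    have hpow : ∀ i : ℕ, R.ρ (g ^ i) u - u ∈ S := by
      intro i
      induction i with
      | zero => simp [R.one_apply]
      | succ i ih =>
        rw [pow_succ, R.mul_apply,
          show R.ρ (g ^ i) (R.ρ g u) - u = R.ρ (g ^ i) (R.ρ g u - u) + (R.ρ (g ^ i) u - u) by
            rw [map_sub]; abel]
        exact add_mem (hS _ _ hu) ih
    set N := orderOf g
    have hsum : ∑ i ∈ Finset.range N, R.ρ (g ^ i) u = 0 := by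
      refine R.fpf g hg hg1 _ ?_
      rw [map_sum]
      simp only [← R.mul_apply, ← pow_succ']
      have h1 := Finset.sum_range_succ (fun i => R.ρ (g ^ i) u) N
      rw [Finset.sum_range_succ', show g ^ N = 1 from pow_orderOf_eq_one g, pow_zero] at h1
      exact add_right_cancel h1
    have h2 : ∑ i ∈ Finset.range N, (R.ρ (g ^ i) u - u) ∈ S := sum_mem fun i _ => hpow i
    obtain ⟨k, hk⟩ : Odd N := hg
    have hN : (N : F) = 1 := by
      rw [hk]; push_cast; linear_combination (k : F) * (CharTwo.two_eq_zero : (2 : F) = 0)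
    rw [Finset.sum_sub_distrib, hsum, Finset.sum_const, Finset.card_range, ← Nat.cast_smul_eq_nsmul F,
      hN, one_smul, zero_sub, neg_mem_iff] at h2
    exact (Submodule.Quotient.mk_eq_zero S).2 h2

theorem quot_mk (S : Submodule F V) (hS : R.Inv S) (g : ↥P.Gam) (v : V) :
    (R.quot S hS).ρ g (S.mkQ v) = S.mkQ (R.ρ g v) := rfl

theorem inv_map_sub {S : Submodule F V} (hS : R.Inv S) {T : Submodule F ↥S}
    (hT : (R.sub S hS).Inv T) : R.Inv (T.map S.subtype) := by
  rintro g _ ⟨t, ht, rfl⟩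
  exact ⟨(R.sub S hS).ρ g t, hT g t ht, rfl⟩

theorem finrank_fromNat {ι : (Fin 4 → F) →ₗ[F] V} (hinj : Function.Injective ι) :
    Module.finrank F (LinearMap.range ι) = 4 := by
  rw [LinearMap.finrank_range_of_inj hinj, Module.finrank_fin_fun]

/-- Twisted natural submodules are direct summands. -/
theorem exists_retraction : ∀ (n : ℕ) {V : Type w} [AddCommGroup V] [Module F V]
    [FiniteDimensional F V] (R : Rep P V), Module.finrank F V = n →
    ∀ (σ : F →+* F) (ι : (Fin 4 → F) →ₗ[F] V), R.IsFromNat σ ι → Function.Injective ι →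
      ∃ r : V →ₗ[F] (Fin 4 → F), R.IsNatHom σ r ∧ ∀ c, r (ι c) = c := by
  intro n
  induction n using Nat.strong_induction_on with
  | _ n ih =>
  intro V _ _ _ R hn σ ι hι hinj
  by_cases htop : LinearMap.range ι = ⊤
  · refine ⟨(LinearEquiv.ofBijective ι ⟨hinj, LinearMap.range_eq_top.1 htop⟩).symm, fun g v => ?_,
      fun c => (LinearEquiv.ofBijective ι ⟨hinj, LinearMap.range_eq_top.1 htop⟩).symm_apply_apply c⟩
    set e := LinearEquiv.ofBijective ι ⟨hinj, LinearMap.range_eq_top.1 htop⟩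
    show e.symm (R.ρ g v) = P.nat σ g (e.symm v)
    refine e.symm_apply_eq.2 ?_
    show R.ρ g v = ι (P.nat σ g (e.symm v))
    rw [hι]
    exact congrArg (R.ρ g) (e.apply_symm_apply v).symm
  have hrange : R.Inv (LinearMap.range ι) := by
    rintro g _ ⟨c, rfl⟩
    exact ⟨P.nat σ g c, hι g c⟩
  haveI : Finite V := Module.finite_of_finite F
  haveI : Finite (Submodule F V) := Finite.of_injective (fun S => (S : Set V)) SetLike.coe_injective
  obtain ⟨M, hM⟩ := (Set.toFinite {S : Submodule F V | R.Inv S ∧ LinearMap.range ι ≤ S ∧ S ≠ ⊤}).exists_maximal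
    ⟨_, hrange, le_rfl, htop⟩
  obtain ⟨hMi, hMr, hMt⟩ := hM.prop
  have hlt : Module.finrank F ↥M < n := hn ▸ Submodule.finrank_lt hMt
  obtain ⟨r', hr', hr'ι⟩ := ih _ hlt (R.sub M hMi) rfl σ (ι.codRestrict M fun c => hMr ⟨c, rfl⟩)
    (fun g c => Subtype.ext (hι g c)) fun a b e => hinj (congrArg Subtype.val e)
  set K := (LinearMap.ker r').map M.subtype with hK
  have hKi : R.Inv K := R.inv_map_sub hMi fun g t ht => by
    rw [LinearMap.mem_ker] at ht ⊢
    rw [hr', ht, map_zero]
  have hKM : K ≤ M := by rintro _ ⟨t, -, rfl⟩; exact t.2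
  -- the top factor
  have hirr : (R.quot M hMi).Irr := by
    refine ⟨?_, fun S hS => ?_⟩
    · obtain ⟨v, -, hv⟩ := SetLike.exists_of_lt hMt.lt_top
      exact ⟨M.mkQ v, fun e => hv ((Submodule.Quotient.mk_eq_zero M).1 e)⟩
    · by_cases h : S.comap M.mkQ = ⊤
      · refine Or.inr (eq_top_iff.2 fun q _ => ?_)
        obtain ⟨v, rfl⟩ := M.mkQ_surjective q
        exact (h ▸ Submodule.mem_top : v ∈ S.comap M.mkQ)
      · refine Or.inl (eq_bot_iff.2 fun q hq => ?_)
        obtain ⟨v, rfl⟩ := M.mkQ_surjective q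
        have hle : M ≤ S.comap M.mkQ := fun m hm => by
          show M.mkQ m ∈ S
          rw [show M.mkQ m = 0 from (Submodule.Quotient.mk_eq_zero M).2 hm]
          exact zero_mem S
        have := hM.le_of_ge ⟨fun g u hu => hS g _ hu, hMr.trans hle, h⟩ hle hq
        exact (Submodule.mem_bot F).2 ((Submodule.Quotient.mk_eq_zero M).2 this)
  obtain ⟨τ, Φ, hΦ⟩ := (R.quot M hMi).natural_of_irr hirr
  let π : (V ⧸ K) →ₗ[F] (Fin 4 → F) := K.liftQ (Φ.toLinearMap.comp M.mkQ) fun v hv => by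
    rw [LinearMap.mem_ker]
    show Φ (M.mkQ v) = 0
    rw [show M.mkQ v = 0 from (Submodule.Quotient.mk_eq_zero M).2 (hKM hv), map_zero]
  let E : Ext (R.quot K hKi) σ τ :=
    { ι := K.mkQ.comp ι
      π := π
      ι_hom := fun g c => by
        show K.mkQ (ι (P.nat σ g c)) = K.mkQ (R.ρ g (ι c))
        rw [hι]
      π_hom := fun g v => by
        obtain ⟨u, rfl⟩ := K.mkQ_surjective v
        exact hΦ g (M.mkQ u)
      inj := by
        rw [injective_iff_map_eq_zero]
        intro c hc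
        obtain ⟨t, ht, e⟩ := (Submodule.Quotient.mk_eq_zero K).1 hc
        have h1 : t = ι.codRestrict M (fun c => hMr ⟨c, rfl⟩) c := Subtype.ext e
        rw [← hr'ι c, ← h1]
        exact ht
      surj := fun d => by
        obtain ⟨u, hu⟩ := M.mkQ_surjective (Φ.symm d)
        refine ⟨K.mkQ u, ?_⟩
        show Φ (M.mkQ u) = d
        rw [hu, Φ.apply_symm_apply]
      exact := fun v => by
        obtain ⟨u, rfl⟩ := K.mkQ_surjective v
        constructor
        · intro hu
          have h1 : u ∈ M := (Submodule.Quotient.mk_eq_zero M).1 (Φ.map_eq_zero_iff.1 hu)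
          refine ⟨r' ⟨u, h1⟩, (Submodule.Quotient.eq K).2 ⟨ι.codRestrict M
            (fun c => hMr ⟨c, rfl⟩) (r' ⟨u, h1⟩) - ⟨u, h1⟩, ?_, rfl⟩⟩
          rw [SetLike.mem_coe, LinearMap.mem_ker, map_sub, hr'ι, sub_self]
        · rintro ⟨c, hc⟩
          rw [← hc]
          show Φ (M.mkQ (ι c)) = 0
          rw [show M.mkQ (ι c) = 0 from (Submodule.Quotient.mk_eq_zero M).2 (hMr ⟨c, rfl⟩), map_zero] }
  obtain ⟨r, hr, hrι⟩ := E.exists_retraction
  exact ⟨r.comp K.mkQ, fun g v => hr g (K.mkQ v), hrι⟩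

/-- A nonzero invariant subspace contains a twisted natural submodule. -/
theorem exists_fromNat [FiniteDimensional F V] {S : Submodule F V} (hS : R.Inv S) (h0 : S ≠ ⊥) :
    ∃ (σ : F →+* F) (ι : (Fin 4 → F) →ₗ[F] V),
      R.IsFromNat σ ι ∧ Function.Injective ι ∧ ∀ c, ι c ∈ S := by
  haveI : Finite V := Module.finite_of_finite F
  haveI : Finite (Submodule F V) := Finite.of_injective (fun S => (S : Set V)) SetLike.coe_injective
  obtain ⟨M, hM⟩ := (Set.toFinite {T : Submodule F V | R.Inv T ∧ T ≤ S ∧ T ≠ ⊥}).exists_minimal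
    ⟨S, hS, le_rfl, h0⟩
  obtain ⟨hMi, hMS, hM0⟩ := hM.prop
  have hirr : (R.sub M hMi).Irr := by
    refine ⟨?_, fun T hT => ?_⟩
    · obtain ⟨v, hv, hv0⟩ := Submodule.exists_mem_ne_zero_of_ne_bot hM0
      exact ⟨⟨v, hv⟩, fun e => hv0 (congrArg Subtype.val e)⟩
    · by_cases h : T.map M.subtype = ⊥
      · exact Or.inl (Submodule.map_injective_of_injective (f := M.subtype)
          (Submodule.injective_subtype M) (h.trans (Submodule.map_bot _).symm))
      · refine Or.inr (eq_top_iff.2 fun v _ => ?_)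
        have hle : T.map M.subtype ≤ M := by rintro _ ⟨t, -, rfl⟩; exact t.2
        obtain ⟨t, ht, e⟩ := hM.le_of_le ⟨R.inv_map_sub hMi hT, hle.trans hMS, h⟩ hle v.2
        rwa [show t = v from Subtype.ext e] at ht
  obtain ⟨σ, Φ, hΦ⟩ := (R.sub M hMi).natural_of_irr hirr
  refine ⟨σ, M.subtype.comp Φ.symm.toLinearMap, fun g c => ?_, ?_, fun c => hMS (Φ.symm c).2⟩
  · show ((Φ.symm (P.nat σ g c) : ↥M) : V) = R.ρ g (Φ.symm c : ↥M)
    have : Φ.symm (P.nat σ g c) = (R.sub M hMi).ρ g (Φ.symm c) := by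
      rw [Φ.symm_apply_eq]
      have h1 : Φ ((R.sub M hMi).ρ g (Φ.symm c)) = P.nat σ g (Φ (Φ.symm c)) := hΦ g _
      rw [h1, Φ.apply_symm_apply]
    rw [this]
    rfl
  · exact fun a b e => Φ.symm.injective (Subtype.ext e)

/-- Equivariant maps to and from twisted natural modules separate points and span. -/
theorem sep_span : ∀ (n : ℕ) {V : Type w} [AddCommGroup V] [Module F V]
    [FiniteDimensional F V] (R : Rep P V), Module.finrank F V = n →
    (∀ v : V, v ≠ 0 → ∃ (σ : F →+* F) (r : V →ₗ[F] (Fin 4 → F)), R.IsNatHom σ r ∧ r v ≠ 0) ∧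
      ∀ T : Submodule F V, (∀ (σ : F →+* F) (ι : (Fin 4 → F) →ₗ[F] V), R.IsFromNat σ ι →
        ∀ c, ι c ∈ T) → T = ⊤ := by
  intro n
  induction n using Nat.strong_induction_on with
  | _ n ih =>
  intro V _ _ _ R hn
  by_cases h0 : (⊤ : Submodule F V) = ⊥
  · exact ⟨fun v hv => absurd ((Submodule.mem_bot F).1 (h0 ▸ Submodule.mem_top : v ∈ ⊥)) hv,
      fun T _ => eq_top_iff.2 (h0 ▸ bot_le)⟩
  obtain ⟨σ, ι, hι, hinj, -⟩ := R.exists_fromNat (S := ⊤) (fun _ _ _ => Submodule.mem_top) h0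
  obtain ⟨r, hr, hrι⟩ := exists_retraction _ R rfl σ ι hι hinj
  have hker : R.Inv (LinearMap.ker r) := fun g v hv => by
    rw [LinearMap.mem_ker] at hv ⊢
    rw [hr, hv, map_zero]
  have hne : LinearMap.ker r ≠ ⊤ := fun e => by
    have h1 : ι e0 ∈ LinearMap.ker r := e ▸ Submodule.mem_top
    rw [LinearMap.mem_ker, hrι] at h1
    exact one_ne_zero (congrFun h1 0)
  obtain ⟨hsep, hspan⟩ := ih _ (hn ▸ Submodule.finrank_lt hne) (R.sub _ hker) rfl
  have hp : ∀ v, v - ι (r v) ∈ LinearMap.ker r := fun v => by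
    rw [LinearMap.mem_ker, map_sub, hrι, sub_self]
  let p : V →ₗ[F] ↥(LinearMap.ker r) := (LinearMap.id - ι.comp r).codRestrict _ hp
  have hpg : ∀ g v, p (R.ρ g v) = (R.sub _ hker).ρ g (p v) := fun g v => Subtype.ext (by
    show R.ρ g v - ι (r (R.ρ g v)) = R.ρ g (v - ι (r v))
    rw [hr, hι, map_sub])
  refine ⟨fun v hv => ?_, fun T hT => eq_top_iff.2 fun v _ => ?_⟩
  · by_cases h1 : r v = 0
    · obtain ⟨τ, f, hf, hfv⟩ := hsep (p v) fun e => hv (by
        have := congrArg Subtype.val e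
        simpa [p, h1] using this)
      exact ⟨τ, f.comp p, fun g u => by
        show f (p (R.ρ g u)) = P.nat τ g (f (p u))
        rw [hpg, hf], hfv⟩
    · exact ⟨σ, r, hr, h1⟩
  · have h1 : p v ∈ T.comap (LinearMap.ker r).subtype := by
      rw [hspan (T.comap (LinearMap.ker r).subtype) fun τ j hj c => hT τ
        ((LinearMap.ker r).subtype.comp j) (fun g c => congrArg Subtype.val (hj g c)) c]
      exact Submodule.mem_top
    have h2 : v - ι (r v) ∈ T := h1
    simpa using add_mem h2 (hT σ ι hι (r v))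

theorem exists_sep [FiniteDimensional F V] {v : V} (hv : v ≠ 0) :
    ∃ (σ : F →+* F) (r : V →ₗ[F] (Fin 4 → F)), R.IsNatHom σ r ∧ r v ≠ 0 :=
  (sep_span _ R rfl).1 v hv

theorem span_top [FiniteDimensional F V] (T : Submodule F V)
    (hT : ∀ (σ : F →+* F) (ι : (Fin 4 → F) →ₗ[F] V), R.IsFromNat σ ι → ∀ c, ι c ∈ T) : T = ⊤ :=
  (sep_span _ R rfl).2 T hT

end Rep

end CfsgLib.CIT.SuzMod
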