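import Mathlib
import Cfsg.Agent.Lib.CIT.SuzSemi

/-!
# Invariant trilinear forms on twisted natural modules of `Sz(q)` vanish
-/

set_option autoImplicit false
set_option linter.style.haveILetI false

namespace CfsgLib.CIT.SuzMod

open Matrix
open scoped Classical

universe v

variable {F : Type v} [Field F] [Fintype F] [CharP F 2]

/-- Trilinear forms. -/
abbrev Tri (F : Type v) [Field F] : Type v :=
  (Fin 4 → F) →ₗ[F] (Fin 4 → F) →ₗ[F] (Fin 4 → F) →ₗ[F] F

/-- The second basis vector. -/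
def e1 : Fin 4 → F := ![0, 1, 0, 0]
/-- The third basis vector. -/
def e2 : Fin 4 → F := ![0, 0, 1, 0]
/-- The fourth basis vector. -/
def e3 : Fin 4 → F := ![0, 0, 0, 1]

theorem expand (v : Fin 4 → F) : v = v 0 • e0 + v 1 • e1 + v 2 • e2 + v 3 • e3 := by
  ext i; fin_cases i <;> simp [e0, e1, e2, e3]

namespace Par

variable (P : Par F)

theorem fr_one (x : F) : P.fr 1 x = x ^ 2 := by
  haveI : Fact (1 < 2 * P.m + 1) := ⟨by have := P.one_le; omega⟩
  rw [P.fr_def, ZMod.val_one, pow_one]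

/-- Invariance. -/
def Inv3 (Θ : Tri F) (s₁ s₂ s₃ : F →+* F) : Prop :=
  ∀ g u v w, Θ (P.nat s₁ g u) (P.nat s₂ g v) (P.nat s₃ g w) = Θ u v w

variable {P} {Θ : Tri F} {s₁ s₂ s₃ : F →+* F}

theorem inv3_swap (h : P.Inv3 Θ s₁ s₂ s₃) : P.Inv3 Θ.flip s₂ s₁ s₃ := fun g u v w => h g v u w

theorem inv3_swap' (h : P.Inv3 Θ s₁ s₂ s₃) :
    P.Inv3 (LinearMap.lflip.toLinearMap.comp Θ) s₁ s₃ s₂ := fun g u v w => h g u w v

theorem inv3_inv (h : P.Inv3 Θ s₁ s₂ s₃) (g : ↥P.Gam) (u v w : Fin 4 → F) (hu : P.nat s₁ g u = u) :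
    Θ u (P.nat s₂ g v) w = Θ u v (P.nat s₃ g⁻¹ w) := by
  conv_lhs => rw [← hu, show w = P.nat s₃ g (P.nat s₃ g⁻¹ w) by
    rw [← P.nat_mul, mul_inv_cancel, P.nat_one]]
  exact h g _ _ _

theorem nat_U_e2 (σ : F →+* F) (a b : F) :
    P.nat σ (P.U a b) e2 = σ b • e0 + σ (P.θ a) • e1 + e2 := by
  rw [P.nat_U]; ext i; fin_cases i <;> simp [e0, e1, e2]

theorem nat_U_e3 (σ : F →+* F) (a b : F) :
    P.nat σ (P.U a b) e3 = σ (a * b + a ^ 2 * P.θ a + P.θ b) • e0 + σ (b + a * P.θ a) • e1 +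
      σ a • e2 + e3 := by
  rw [P.nat_U]; ext i; fin_cases i <;> simp [e0, e1, e2, e3]

theorem nat_H_e3 (σ : F →+* F) (x : Fˣ) : P.nat σ (P.H x) e3 = σ (1 / (x : F)) • e3 := by
  rw [P.nat_H]; ext i; fin_cases i <;> simp [e3]

theorem nat_H_e2 (σ : F →+* F) (x : Fˣ) : P.nat σ (P.H x) e2 = σ ((x : F) / P.θ x) • e2 := by
  rw [P.nat_H]; ext i; fin_cases i <;> simp [e2]

theorem nat_W_e0 (σ : F →+* F) : P.nat σ P.W e0 = e3 := by
  rw [P.nat_W]; ext i; fin_cases i <;> simp [e0, e3]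

theorem nat_W_e3 (σ : F →+* F) : P.nat σ P.W e3 = e0 := by
  rw [P.nat_W]; ext i; fin_cases i <;> simp [e0, e3]

/-- The form vanishes when the first two arguments are the fixed vector. -/
theorem tri_pair (h : P.Inv3 Θ s₁ s₂ s₃) : ∀ w, Θ e0 e0 w = 0 := by
  have hU : ∀ a b w, Θ e0 e0 (P.nat s₃ (P.U a b) w) = Θ e0 e0 w := fun a b w => by
    have := h (P.U a b) e0 e0 w
    rwa [P.nat_fix, P.nat_fix] at this
  have f0 : Θ e0 e0 e0 = 0 := by
    have := hU 0 1 e2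
    simpa [nat_U_e2] using this
  have f1 : Θ e0 e0 e1 = 0 := by
    have := hU 1 0 e2
    simpa [nat_U_e2] using this
  have f2 : Θ e0 e0 e2 = 0 := by
    have := hU 1 0 e3
    simpa [nat_U_e3, f0, f1] using this
  have f3 : Θ e0 e0 e3 = 0 := by
    by_contra hA
    have hw : ∀ x : Fˣ, s₁ x * s₂ x = s₃ x := fun x => by
      have := h (P.H x) e0 e0 e3
      rw [P.nat_H_e0, P.nat_H_e0, nat_H_e3] at this
      simp only [map_smul, LinearMap.smul_apply, smul_eq_mul] at this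
      have h2 : s₁ x * s₂ x * s₃ (1 / (x : F)) = 1 :=
        mul_right_cancel₀ hA (by linear_combination this)
      have h3 : s₃ (x : F) * s₃ (1 / (x : F)) = 1 := by rw [← map_mul]; simp
      linear_combination s₃ (x : F) * h2 - s₁ (x : F) * s₂ x * h3
    have h12 := eq_of_mul_eq_hom s₁ s₂ s₃ hw
    subst h12
    have h3' : ∀ x, s₃ x = s₁ x ^ 2 := fun x => by
      by_cases hx : x = 0
      · simp [hx]
      · rw [pow_two]; exact (hw (Units.mk0 x hx)).symm
    have h030 : Θ e0 e3 e0 = 0 := by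
      obtain ⟨x, hx⟩ := P.exists_unit_ne_one
      have := h (P.H x) e0 e3 e0
      rw [P.nat_H_e0, P.nat_H_e0, nat_H_e3] at this
      simp only [map_smul, LinearMap.smul_apply, smul_eq_mul] at this
      by_contra hne
      have h2 : s₁ x * s₁ (1 / (x : F)) * s₃ x = 1 :=
        mul_right_cancel₀ hne (by linear_combination this)
      rw [← map_mul, mul_one_div, div_self x.ne_zero, map_one, one_mul] at h2
      exact hx (Units.ext (s₃.injective (h2.trans (map_one s₃).symm)))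
    obtain ⟨A, hA'⟩ := hom_surjective s₁ (Θ e0 e0 e3)
    obtain ⟨B, hB⟩ := hom_surjective s₁ (Θ e0 e1 e3)
    obtain ⟨C, hC⟩ := hom_surjective s₁ (Θ e0 e3 e1)
    obtain ⟨-, h2', -, h4', h5'⟩ := P.exps_ne
    have key := P.coef₃ h2'.symm h4'.symm h5'.symm (a := A) (b := B) (c := -C) fun b => by
      have e := inv3_inv h (P.U 0 b) e0 e3 e3 (P.nat_fix _ _ _)
      rw [P.U_inv, nat_U_e3, nat_U_e3] at e
      simp [h030] at e
      rw [fr_θ, fr_zero, fr_one]
      refine s₁.injective ?_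
      rw [← hA', ← hB, ← hC, h3'] at e
      simp only [map_add, map_mul, map_neg, map_pow, map_zero]
      linear_combination e
    exact hA (by rw [← hA', key.1, map_zero])
  intro w
  rw [expand w]
  simp [f0, f1, f2, f3]

/-- The form vanishes at the fixed vector, if it does so twice and the two relations hold. -/
theorem tri_first_of (h : P.Inv3 Θ s₁ s₂ s₃) (h0 : Θ e0 e3 e0 = 0) (h1 : Θ e0 e3 e1 = 0)
    (h2 : Θ e0 e3 e2 = 0) (h3 : Θ e0 e3 e3 = 0) : Θ e0 = 0 := by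
  have he3 : Θ e0 e3 = 0 := LinearMap.ext fun w => by
    rw [expand w]
    simp [h0, h1, h2, h3]
  have he0 : Θ e0 e0 = 0 := LinearMap.ext (tri_pair h)
  have hU : ∀ a b, Θ e0 (P.nat s₂ (P.U a b) e3) = 0 := fun a b => LinearMap.ext fun w => by
    rw [inv3_inv h _ _ _ _ (P.nat_fix _ _ _), he3]
    rfl
  have a1 : Θ e0 e1 = 0 := by
    have := hU 0 1
    simpa [nat_U_e3, he0, he3] using this
  have a2 : Θ e0 e2 = 0 := by
    have := hU 1 0
    simpa [nat_U_e3, he0, he3, a1] using this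
  refine LinearMap.ext fun v => ?_
  rw [expand v]
  simp [he0, he3, a1, a2]

/-- The two relations given by the unipotent group. -/
theorem tri_rel (h : P.Inv3 Θ s₁ s₂ s₃) :
    Θ e0 e3 e0 = 0 ∧ Θ e0 e3 e3 = 0 ∧
      (∀ b, s₂ b * Θ e0 e1 e3 = s₃ b * Θ e0 e3 e1) ∧
      ∀ a, s₂ (a * P.θ a) * Θ e0 e1 e3 + s₂ a * Θ e0 e2 e3 = s₃ a * Θ e0 e3 e2 := by
  have h0 : Θ e0 e3 e0 = 0 := tri_pair (inv3_swap' h) e3
  have h003 : Θ e0 e0 e3 = 0 := tri_pair h e3
  have h3 : Θ e0 e3 e3 = 0 := by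
    have e := h P.W e3 e0 e0
    rw [nat_W_e3, nat_W_e0, nat_W_e0] at e
    rw [e]
    exact tri_pair (inv3_swap' (inv3_swap h)) e3
  refine ⟨h0, h3, fun b => ?_, fun a => ?_⟩
  · have e := inv3_inv h (P.U 0 b) e0 e3 e3 (P.nat_fix _ _ _)
    rw [P.U_inv, nat_U_e3, nat_U_e3] at e
    simpa [h0, h3, h003] using e
  · have e := inv3_inv h (P.U a 0) e0 e3 e3 (P.nat_fix _ _ _)
    rw [P.U_inv, nat_U_e3, nat_U_e3] at e
    simpa [h0, h3, h003, CharTwo.add_self_eq_zero] using e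

theorem tri_first_ne (h : P.Inv3 Θ s₁ s₂ s₃) (hne : s₂ ≠ s₃) : Θ e0 = 0 := by
  obtain ⟨h0, h3, hb, ha⟩ := tri_rel h
  have aux : ∀ B C : F, (∀ b, s₂ b * B = s₃ b * C) → C = 0 := fun B C hbc => by
    have h1 := hbc 1
    simp only [map_one, one_mul] at h1
    by_contra hC
    refine hne (RingHom.ext fun b => mul_right_cancel₀ hC ?_)
    rw [← hbc b, h1]
  have hC := aux _ _ hb
  have hB : Θ e0 e1 e3 = 0 := by
    have := hb 1
    simpa [hC] using this
  have hC2 := aux (Θ e0 e2 e3) (Θ e0 e3 e2) fun a => by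
    have := ha a
    rw [hB, mul_zero, zero_add] at this
    exact this
  exact tri_first_of h h0 hC hC2 h3

theorem tri_first_eq {s : F →+* F} (h : P.Inv3 Θ s s s) : Θ e0 = 0 := by
  obtain ⟨h0, h3, hb, ha⟩ := tri_rel h
  have hBC : Θ e0 e1 e3 = Θ e0 e3 e1 := by simpa using hb 1
  have hB : Θ e0 e1 e3 = 0 := by
    obtain ⟨a, a0, a1⟩ := P.exists_ne_zero_one
    have e1' := ha 1
    simp only [map_one, one_mul, mul_one] at e1'
    have e := ha a
    have h2 : (s (a * P.θ a) - s a) * Θ e0 e1 e3 = 0 := by linear_combination e - s a * e1'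
    refine (mul_eq_zero.1 h2).resolve_left fun hz => ?_
    have h3' := s.injective (sub_eq_zero.1 hz)
    have h4 : P.θ a = 1 := mul_left_cancel₀ a0 (h3'.trans (mul_one a).symm)
    exact a1 (P.θ.injective (h4.trans (map_one P.θ).symm))
  have hC2 : Θ e0 e3 e2 = 0 := by
    obtain ⟨a, a0, a1⟩ := P.exists_ne_zero_one
    have e := h (P.H (Units.mk0 a a0)) e0 e3 e2
    rw [P.nat_H_e0, nat_H_e3, nat_H_e2] at e
    simp only [map_smul, LinearMap.smul_apply, smul_eq_mul, Units.val_mk0] at e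
    by_contra hne
    have hθ : P.θ a ≠ 0 := (map_ne_zero P.θ).2 a0
    have h2 : s (a * (1 / a) * (a / P.θ a)) = 1 := by
      rw [map_mul s, map_mul s]
      exact mul_right_cancel₀ hne (by linear_combination e)
    have h4 := s.injective (h2.trans (map_one s).symm)
    field_simp at h4
    rcases P.θ_eq_self h4.symm with e' | e'
    · exact a0 e'
    · exact a1 e'
  exact tri_first_of h h0 (hBC ▸ hB) hC2 h3

/-- An invariant trilinear form is zero. -/
theorem tri_eq_zero (h : P.Inv3 Θ s₁ s₂ s₃) : Θ = 0 := by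
  have key : ∀ {Θ' : Tri F} {t₁ t₂ t₃ : F →+* F}, P.Inv3 Θ' t₁ t₂ t₃ → Θ' e0 = 0 → Θ' = 0 := by
    intro Θ' t₁ t₂ t₃ h' h0
    rw [← LinearMap.ker_eq_top]
    refine P.eq_top_of_e0 t₁ (fun g u hu => ?_) h0
    rw [LinearMap.mem_ker] at hu ⊢
    refine LinearMap.ext fun v => LinearMap.ext fun w => ?_
    have e := h' g u (P.nat t₂ g⁻¹ v) (P.nat t₃ g⁻¹ w)
    rw [← P.nat_mul, ← P.nat_mul, mul_inv_cancel, P.nat_one, P.nat_one] at e
    rw [e, hu]
    rfl
  by_cases h23 : s₂ = s₃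
  · by_cases h13 : s₁ = s₃
    · subst h23 h13
      exact key h (tri_first_eq h)
    · have h' := key (inv3_swap h) (tri_first_ne (inv3_swap h) h13)
      exact LinearMap.ext fun u => LinearMap.ext fun v => by
        have := LinearMap.congr_fun (LinearMap.congr_fun h' v) u
        simpa using this
  · exact key h (tri_first_ne h h23)

end Par

/-- Equivariant bilinear maps between modules with fixed-point-free elements of odd order vanish. -/
theorem Rep.bilin_eq_zero {P : Par F} {V₁ V₂ V₃ : Type*} [AddCommGroup V₁] [Module F V₁]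
    [FiniteDimensional F V₁] [AddCommGroup V₂] [Module F V₂] [FiniteDimensional F V₂]
    [AddCommGroup V₃] [Module F V₃] [FiniteDimensional F V₃] (R₁ : Rep P V₁) (R₂ : Rep P V₂)
    (R₃ : Rep P V₃) (β : V₁ →ₗ[F] V₂ →ₗ[F] V₃)
    (hβ : ∀ g u v, β (R₁.ρ g u) (R₂.ρ g v) = R₃.ρ g (β u v)) : β = 0 := by
  rw [← LinearMap.ker_eq_top]
  refine R₁.span_top _ fun s₁ ι₁ h₁ c => LinearMap.mem_ker.2 ?_
  rw [← LinearMap.ker_eq_top]
  refine R₂.span_top _ fun s₂ ι₂ h₂ d => LinearMap.mem_ker.2 ?_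
  by_contra hne
  obtain ⟨s₃, r, hr, hr0⟩ := R₃.exists_sep hne
  set Θ : Tri F := LinearMap.mk₂ F (fun u v => (Ext.altMap (r (β (ι₁ u) (ι₂ v)))))
    (fun a b c => by simp) (fun k a c => by simp) (fun a b c => by simp) (fun k a c => by simp)
  have hΘ : P.Inv3 Θ s₁ s₂ s₃ := fun g u v w => by
    show Cfsg.Lie.altForm4 (r (β (ι₁ (P.nat s₁ g u)) (ι₂ (P.nat s₂ g v)))) (P.nat s₃ g w) =
      Cfsg.Lie.altForm4 (r (β (ι₁ u) (ι₂ v))) w
    rw [h₁, h₂, hβ, hr, P.altForm_nat]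
  refine hr0 (Ext.altForm_ext fun w => ?_)
  have e : Cfsg.Lie.altForm4 (r (β (ι₁ c) (ι₂ d))) w = 0 :=
    LinearMap.congr_fun (LinearMap.congr_fun (LinearMap.congr_fun (Par.tri_eq_zero hΘ) c) d) w
  rw [e]
  simp [Cfsg.Lie.altForm4]

end CfsgLib.CIT.SuzMod
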