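import Mathlib
import Cfsg.Agent.Lib.CIT.SuzTri

/-!
# Finite abelian 2-groups on which `Sz(q)` acts with fixed-point-free elements of odd order

Scalar extension to `GF(q)`, and the exponent: if the exponent divided 4 but not 2, some section would be
`M` extended by `M` with doubling as the isomorphism; the lifts of `b • e₀` obtained from a lift of the
third basis vector by the centre contradict additivity.
-/

set_option autoImplicit false
set_option linter.style.haveILetI false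

namespace CfsgLib.CIT.SuzMod

open Matrix
open scoped Classical TensorProduct

universe v w

variable {F : Type v} [Field F] [Fintype F] [CharP F 2] {P : Par F}

/-- Elements of odd order act without fixed points. -/
def IsFpf {V : Type w} [AddCommGroup V] (ρ : ↥P.Gam →* AddMonoid.End V) : Prop :=
  ∀ g : ↥P.Gam, Odd (orderOf g) → g ≠ 1 → ∀ v, ρ g v = v → v = 0

section Scalar

variable [Algebra (ZMod 2) F] {V : Type w} [AddCommGroup V] [Module (ZMod 2) V] [Finite V]

/-- Scalar extension of an action. -/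
noncomputable def extRep (ρ : ↥P.Gam →* AddMonoid.End V) (hρ : IsFpf ρ) :
    Rep P (F ⊗[ZMod 2] V) where
  ρ :=
    { toFun := fun g => ((ρ g : V →+ V).toZModLinearMap 2).baseChange F
      map_one' := by
        rw [map_one, show ((1 : AddMonoid.End V) : V →+ V).toZModLinearMap 2 = LinearMap.id from
          LinearMap.ext fun _ => rfl, LinearMap.baseChange_id]
        rfl
      map_mul' := fun g k => by
        rw [map_mul, show ((ρ g * ρ k : AddMonoid.End V) : V →+ V).toZModLinearMap 2 =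
          ((ρ g : V →+ V).toZModLinearMap 2).comp ((ρ k : V →+ V).toZModLinearMap 2) from
            LinearMap.ext fun _ => rfl, LinearMap.baseChange_comp]
        rfl }
  fpf g hg hg1 v hv := by
    set f : V →ₗ[ZMod 2] V := (ρ g : V →+ V).toZModLinearMap 2 - LinearMap.id with hf
    have hfi : Function.Injective f := by
      rw [injective_iff_map_eq_zero]
      intro u hu
      exact hρ g hg hg1 u (sub_eq_zero.1 hu)
    set e := LinearEquiv.ofBijective f ⟨hfi, Finite.injective_iff_surjective.1 hfi⟩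
    have h1 : f.baseChange F v = 0 := by
      rw [hf, LinearMap.baseChange_sub, LinearMap.baseChange_id, LinearMap.sub_apply]
      exact sub_eq_zero.2 hv
    have h2 : e.symm.toLinearMap.comp f = LinearMap.id :=
      LinearMap.ext fun u => e.symm_apply_apply u
    have h3 := congrArg (fun k : V →ₗ[ZMod 2] V => k.baseChange F v) h2
    simp only [LinearMap.baseChange_comp, LinearMap.comp_apply, h1, map_zero,
      LinearMap.baseChange_id, LinearMap.id_apply] at h3
    exact h3.symm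

theorem extRep_tmul (ρ : ↥P.Gam →* AddMonoid.End V) (hρ : IsFpf ρ) (g : ↥P.Gam) (a : F) (u : V) :
    (extRep ρ hρ).ρ g (a ⊗ₜ u) = a ⊗ₜ ρ g u := rfl

instance : FiniteDimensional F (F ⊗[ZMod 2] V) :=
  haveI : Module.Finite (ZMod 2) V := Module.Finite.of_finite
  Module.Finite.base_change (ZMod 2) F V

theorem one_tmul_eq_zero {u : V} (h : (1 : F) ⊗ₜ[ZMod 2] u = 0) : u = 0 := by
  haveI : Fact (Nat.Prime 2) := ⟨Nat.prime_two⟩
  haveI : Module.Free (ZMod 2) V := Module.Free.of_divisionRing (ZMod 2) V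
  have hi : Function.Injective
      (LinearMap.rTensor V (Algebra.linearMap (ZMod 2) F)) :=
    Module.Flat.rTensor_preserves_injective_linearMap _ (algebraMap (ZMod 2) F).injective
  have h1 : LinearMap.rTensor V (Algebra.linearMap (ZMod 2) F) ((1 : ZMod 2) ⊗ₜ u) = 0 := by
    rw [LinearMap.rTensor_tmul, Algebra.linearMap_apply, map_one, h]
  have h2 : (1 : ZMod 2) ⊗ₜ[ZMod 2] u = 0 := hi (h1.trans (map_zero _).symm)
  simpa using congrArg (TensorProduct.lid (ZMod 2) V) h2

end Scalar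

/-- Equivariant biadditive maps of elementary abelian groups vanish. -/
theorem biadd_eq_zero {V W : Type w} [AddCommGroup V] [AddCommGroup W] [Finite V] [Finite W]
    (hV : ∀ v : V, v + v = 0) (hW : ∀ v : W, v + v = 0) (ρV : ↥P.Gam →* AddMonoid.End V)
    (ρW : ↥P.Gam →* AddMonoid.End W) (hρV : IsFpf ρV) (hρW : IsFpf ρW) (b : V →+ V →+ W)
    (hb : ∀ g v v', b (ρV g v) (ρV g v') = ρW g (b v v')) : b = 0 := by
  letI : Algebra (ZMod 2) F := ZMod.algebra F 2
  letI : Module (ZMod 2) V := AddCommGroup.zmodModule fun v => by rw [two_nsmul]; exact hV v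
  letI : Module (ZMod 2) W := AddCommGroup.zmodModule fun v => by rw [two_nsmul]; exact hW v
  let B : LinearMap.BilinMap (ZMod 2) V W := AddMonoidHom.toZModLinearMap 2
    ({ toFun := fun v => (b v).toZModLinearMap 2
       map_zero' := LinearMap.ext fun v' => by simp
       map_add' := fun x y => LinearMap.ext fun v' => by simp } : V →+ (V →ₗ[ZMod 2] W))
  have hBv : ∀ v v', B v v' = b v v' := fun _ _ => rfl
  have key : ∀ g (x y : F ⊗[ZMod 2] V), B.baseChange F ((extRep ρV hρV).ρ g x) ((extRep ρV hρV).ρ g y) =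
      (extRep ρW hρW).ρ g (B.baseChange F x y) := by
    intro g x y
    induction x using TensorProduct.induction_on with
    | zero => simp
    | tmul a u =>
      induction y using TensorProduct.induction_on with
      | zero => simp
      | tmul c u' =>
        rw [extRep_tmul, extRep_tmul, LinearMap.BilinMap.baseChange_tmul,
          LinearMap.BilinMap.baseChange_tmul, extRep_tmul, hBv, hBv, hb]
      | add y₁ y₂ h₁ h₂ => simp only [map_add, h₁, h₂]
    | add x₁ x₂ h₁ h₂ => simp only [map_add, LinearMap.add_apply, h₁, h₂]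
  have h0 := Rep.bilin_eq_zero _ _ _ (B.baseChange F) key
  refine AddMonoidHom.ext fun v => AddMonoidHom.ext fun v' => ?_
  have h1 := LinearMap.congr_fun (LinearMap.congr_fun h0 ((1 : F) ⊗ₜ v)) ((1 : F) ⊗ₜ v')
  rw [LinearMap.BilinMap.baseChange_tmul, one_mul, hBv, LinearMap.zero_apply, LinearMap.zero_apply]
    at h1
  exact one_tmul_eq_zero h1

/-- An invariant additive subgroup of the natural module other than 0 is everything. -/
theorem eq_top_of_invariant (A : AddSubgroup (Fin 4 → F))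
    (hA : ∀ g : ↥P.Gam, ∀ v ∈ A, P.nat₁ g v ∈ A) {y : Fin 4 → F} (hy : y ∈ A) (hy0 : y ≠ 0) :
    A = ⊤ := by
  have d : ∀ a b, ∀ v ∈ A, P.nat₁ (P.U a b) v - v ∈ A := fun a b v hv => sub_mem (hA _ v hv) hv
  have hfix : ∃ z : F, z ≠ 0 ∧ z • e0 ∈ A := by
    by_cases h3 : y 3 = 0
    · by_cases h2 : y 2 = 0
      · by_cases h1 : y 1 = 0
        · refine ⟨y 0, fun h0 => hy0 ?_, ?_⟩
          · ext i; fin_cases i <;> assumption
          · convert hy using 1; ext i; fin_cases i <;> simp [e0, h1, h2, h3]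
        · refine ⟨y 1, h1, ?_⟩
          convert d 1 0 y hy using 1
          rw [P.nat_U]; ext i; fin_cases i <;> simp [e0, h2, h3]
      · refine ⟨y 2, h2, ?_⟩
        convert d 0 1 y hy using 1
        rw [P.nat_U]; ext i; fin_cases i <;> simp [e0, h3]
    · refine ⟨y 3, h3, ?_⟩
      convert d 1 0 _ (d 0 1 y hy) using 1
      rw [P.nat_U, P.nat_U]; ext i
      fin_cases i <;> simp [e0, Matrix.vecHead, Matrix.vecTail] <;> ring
  obtain ⟨z, hz0, hz⟩ := hfix
  have m0 : ∀ μ : F, μ • e0 ∈ A := fun μ => by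
    by_cases hμ : μ = 0
    · rw [hμ, zero_smul]; exact zero_mem A
    have := hA (P.H (Units.mk0 (μ / z) (div_ne_zero hμ hz0))) _ hz
    rw [map_smul, P.nat_H_e0, smul_smul, RingHom.id_apply, Units.val_mk0,
      mul_div_cancel₀ _ hz0] at this
    exact this
  have m3 : ∀ μ : F, μ • e3 ∈ A := fun μ => by
    have := hA P.W _ (m0 μ)
    rwa [map_smul, Par.nat_W_e0] at this
  have m1 : ∀ μ : F, μ • e1 ∈ A := fun μ => by
    convert sub_mem (d 0 1 _ (m3 μ)) (m0 μ) using 1
    rw [P.nat_U]; ext i; fin_cases i <;> simp [e0, e1, e3]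
  have m2 : ∀ μ : F, μ • e2 ∈ A := fun μ => by
    convert sub_mem (sub_mem (d 1 0 _ (m3 μ)) (m0 μ)) (m1 μ) using 1
    rw [P.nat_U]; ext i; fin_cases i <;> simp [e0, e1, e2, e3]
  rw [eq_top_iff]
  intro v _
  rw [expand v]
  exact add_mem (add_mem (add_mem (m0 _) (m1 _)) (m2 _)) (m3 _)

section Exponent

variable {V : Type w} [AddCommGroup V] (ρ : ↥P.Gam →* AddMonoid.End V)

theorem act_mul (g k : ↥P.Gam) (v : V) : ρ (g * k) v = ρ g (ρ k v) := by rw [map_mul]; rfl

theorem act_one (v : V) : ρ 1 v = v := by rw [map_one]; rfl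

/-- The invariant elements of order at most two. -/
def twoTorsion (V : Type w) [AddCommGroup V] : AddSubgroup V where
  carrier := {v | v + v = 0}
  zero_mem' := add_zero 0
  add_mem' := fun {a b} ha hb => by
    show a + b + (a + b) = 0
    rw [add_add_add_comm, ha, hb, add_zero]
  neg_mem' := fun {a} ha => by
    show -a + -a = 0
    rw [← neg_add, ha, neg_zero]

/-- Data of an exponent four section: doubling followed by an equivariant map to the natural module. -/
structure Section where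
  /-- the subgroup -/
  N : AddSubgroup V
  inv : ∀ g, ∀ v ∈ N, ρ g v ∈ N
  /-- the map on elements of order two -/
  R : ↥(twoTorsion V) →+ (Fin 4 → F)
  equiv : ∀ (g : ↥P.Gam) (u : ↥(twoTorsion V)) (hu : ρ g u ∈ twoTorsion V),
    R ⟨ρ g u, hu⟩ = P.nat₁ g (R u)
  four : ∀ v ∈ N, v + v ∈ twoTorsion V
  /-- doubling is onto -/
  onto : ∀ d : Fin 4 → F, ∃ (v : V) (h : v ∈ N), R ⟨v + v, four v h⟩ = d
  kernel : ∀ (v : V) (h : v ∈ N), R ⟨v + v, four v h⟩ = 0 → v + v = 0

variable {ρ} (S : Section ρ)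

namespace Section

/-- Doubling followed by the map. -/
def J : ↥S.N →+ (Fin 4 → F) :=
  AddMonoidHom.mk' (fun v => S.R ⟨(v : V) + v, S.four v v.2⟩) fun a b => by
    rw [← map_add]
    exact congrArg S.R (Subtype.ext (add_add_add_comm (a : V) b a b))

/-- The action on the subgroup. -/
def act (g : ↥P.Gam) : ↥S.N →+ ↥S.N :=
  AddMonoidHom.mk' (fun v => ⟨ρ g v, S.inv g v v.2⟩) fun a b => Subtype.ext (map_add (ρ g) (a : V) b)

theorem act_mul' (g k : ↥P.Gam) (v : ↥S.N) : S.act (g * k) v = S.act g (S.act k v) :=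
  Subtype.ext (act_mul ρ g k v.1)

theorem J_act (g : ↥P.Gam) (v : ↥S.N) : S.J (S.act g v) = P.nat₁ g (S.J v) := by
  have hu : ρ g ((v : V) + v) ∈ twoTorsion V := by
    show _ + _ = (0 : V)
    rw [← map_add, S.four v v.2, map_zero]
  show S.R _ = P.nat₁ g (S.R _)
  rw [← S.equiv g _ hu]
  exact congrArg S.R (Subtype.ext (map_add (ρ g) (v : V) v).symm)

theorem two_of_J (v : ↥S.N) (h : S.J v = 0) : (v : V) ∈ twoTorsion V := S.kernel v v.2 h

/-- The map on the kernel of `J`. -/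
def R' : ↥(S.J.ker) →+ (Fin 4 → F) :=
  S.R.comp (AddMonoidHom.mk' (fun v => ⟨((v : ↥S.N) : V), S.two_of_J v v.2⟩) fun _ _ => rfl)

theorem act_mem (g : ↥P.Gam) {v : ↥S.N} (h : v ∈ S.J.ker) : S.act g v ∈ S.J.ker := by
  rw [AddMonoidHom.mem_ker] at h ⊢
  rw [J_act, h, map_zero]

theorem R'_act (g : ↥P.Gam) (v : ↥(S.J.ker)) :
    S.R' ⟨S.act g v, S.act_mem g v.2⟩ = P.nat₁ g (S.R' v) :=
  S.equiv g ⟨_, S.two_of_J _ v.2⟩ (S.two_of_J _ (S.act_mem g v.2))

theorem diff_mem {μ : F} {v : ↥S.N} (hv : S.J v = μ • e0) (a b : F) :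
    S.act (P.U a b) v - v ∈ S.J.ker := by
  rw [AddMonoidHom.mem_ker, map_sub, J_act, hv, map_smul, P.nat_fix, sub_self]

/-- The values on the centre attached to a lift. -/
def HasZ (v : ↥S.N) (c p γ : F) : Prop :=
  ∀ b, ∃ h : S.act (P.U 0 b) v - v ∈ S.J.ker, S.R' ⟨_, h⟩ = P.zval c p γ b

theorem exists_hasZ {μ : F} {v : ↥S.N} (hv : S.J v = μ • e0) : ∃ c p γ, S.HasZ v c p γ := by
  have hcoc : P.IsCoc fun a b => S.R' ⟨_, S.diff_mem hv a b⟩ := fun a b c d => by
    show S.R' _ = S.R' _ + P.nat₁ (P.U a b) (S.R' _)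
    rw [← S.R'_act, ← map_add]
    refine congrArg S.R' (Subtype.ext ?_)
    show S.act (P.U (a + c) (b + d + a * P.θ c)) v - v =
      (S.act (P.U a b) v - v) + S.act (P.U a b) (S.act (P.U c d) v - v)
    rw [← P.U_mul, S.act_mul', map_sub]
    abel
  obtain ⟨c, p, γ, h⟩ := P.coc_center hcoc
  exact ⟨c, p, γ, fun b => ⟨S.diff_mem hv 0 b, h b⟩⟩

theorem hasZ_unique {v : ↥S.N} {c p γ c' p' γ' : F} (h : S.HasZ v c p γ) (h' : S.HasZ v c' p' γ') :
    c = c' ∧ p = p' ∧ γ = γ' :=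
  P.zval_inj fun b => by
    obtain ⟨_, e⟩ := h b
    obtain ⟨_, e'⟩ := h' b
    rw [← e, ← e']

theorem hasZ_add {v v' : ↥S.N} {c p γ c' p' γ' : F} (h : S.HasZ v c p γ) (h' : S.HasZ v' c' p' γ') :
    S.HasZ (v + v') (c + c') (p + p') (γ + γ') := fun b => by
  obtain ⟨m, e⟩ := h b
  obtain ⟨m', e'⟩ := h' b
  have he : S.act (P.U 0 b) (v + v') - (v + v') =
      (S.act (P.U 0 b) v - v) + (S.act (P.U 0 b) v' - v') := by rw [map_add]; abel
  refine ⟨he ▸ add_mem m m', ?_⟩
  calc S.R' ⟨_, _⟩ = S.R' (⟨_, m⟩ + ⟨_, m'⟩) := congrArg S.R' (Subtype.ext he)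
    _ = _ := by
      rw [map_add, e, e']
      ext i
      fin_cases i <;> simp [Par.zval] <;> ring

theorem hasZ_ker {v : ↥S.N} (hv : v ∈ S.J.ker) :
    S.HasZ v (S.R' ⟨v, hv⟩ 3) (S.R' ⟨v, hv⟩ 2) 0 := fun b => by
  refine ⟨sub_mem (S.act_mem _ hv) hv, ?_⟩
  calc S.R' ⟨_, _⟩ = S.R' (⟨_, S.act_mem (P.U 0 b) hv⟩ - ⟨v, hv⟩) := rfl
    _ = _ := by
      rw [map_sub, S.R'_act (P.U 0 b) ⟨v, hv⟩, P.nat_U]
      ext i
      fin_cases i <;> simp [Par.zval] <;> ring

theorem hasZ_torus (x : Fˣ) {v : ↥S.N} {c p γ : F} (h : S.HasZ v c p γ) :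
    S.HasZ (S.act (P.H x) v) (c / x) (p * x / P.θ x) γ := fun b => by
  obtain ⟨m, e⟩ := h (b / P.θ x)
  have hU : P.U 0 b * P.H x = P.H x * P.U 0 (b / P.θ x) := by
    rw [P.H_U, mul_zero, mul_div_cancel₀ _ ((map_ne_zero P.θ).2 x.ne_zero)]
  have he : S.act (P.U 0 b) (S.act (P.H x) v) - S.act (P.H x) v =
      S.act (P.H x) (S.act (P.U 0 (b / P.θ x)) v - v) := by
    rw [map_sub, ← S.act_mul', hU, S.act_mul']
  refine ⟨he ▸ S.act_mem _ m, ?_⟩
  calc S.R' ⟨_, _⟩ = S.R' ⟨_, S.act_mem (P.H x) m⟩ := congrArg S.R' (Subtype.ext he)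
    _ = P.nat₁ (P.H x) (S.R' ⟨_, m⟩) := S.R'_act _ ⟨_, m⟩
    _ = _ := by
      rw [e, P.nat_H]
      have hx : (x : F) ≠ 0 := x.ne_zero
      have hθ : P.θ (x : F) ≠ 0 := (map_ne_zero P.θ).2 hx
      ext i
      fin_cases i <;> simp [Par.zval, map_div₀, P.θθ, P.θi_θ] <;> field_simp <;> ring

theorem gamma_zero {μ : F} {v : ↥S.N} (hv : S.J v = μ • e0) {c p γ : F} (h : S.HasZ v c p γ) :
    γ = 0 := by
  have hlift : ∀ ν : F, ∃ u : ↥S.N, S.J u = ν • e0 := fun ν => by
    obtain ⟨u, hu, e⟩ := S.onto (ν • e0)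
    exact ⟨⟨u, hu⟩, e⟩
  choose lift hl using hlift
  choose cf pf G hG using fun ν => S.exists_hasZ (hl ν)
  have hsame : ∀ (ν : F) (u : ↥S.N) (c' p' γ' : F), S.J u = ν • e0 → S.HasZ u c' p' γ' → γ' = G ν :=
    fun ν u c' p' γ' hu hz => by
      have hk : u - lift ν ∈ S.J.ker := by rw [AddMonoidHom.mem_ker, map_sub, hu, hl, sub_self]
      have h1 := S.hasZ_add (hG ν) (S.hasZ_ker hk)
      rw [add_sub_cancel] at h1
      simpa using (S.hasZ_unique hz h1).2.2
  have hadd : ∀ ν ν', G (ν + ν') = G ν + G ν' := fun ν ν' =>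
    (hsame _ _ _ _ _ (by rw [map_add, hl, hl, add_smul]) (S.hasZ_add (hG ν) (hG ν'))).symm
  have hconst : ∀ x : Fˣ, G x = G 1 := fun x =>
    (hsame _ _ _ _ _ (by
      rw [J_act, hl, map_smul, P.nat_H_e0, smul_smul, one_mul, RingHom.id_apply]) (S.hasZ_torus x (hG 1))).symm
  obtain ⟨x, x0, x1⟩ := P.exists_ne_zero_one
  have h11 : G 1 = 0 := by
    have e1 := hconst (Units.mk0 x x0)
    have hx1 : x + 1 ≠ 0 := fun e => x1 (CharTwo.add_eq_zero.1 e)
    have e2 := hconst (Units.mk0 (x + 1) hx1)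
    simp only [Units.val_mk0] at e1 e2
    rw [hadd, e1, CharTwo.add_self_eq_zero] at e2
    exact e2.symm
  rw [hsame μ v c p γ hv h]
  by_cases hμ : μ = 0
  · subst hμ
    simpa using hadd 0 0
  · rw [← h11]; exact hconst (Units.mk0 μ hμ)

include S in
theorem false : False := by
  obtain ⟨et, het, hJ⟩ := S.onto e2
  set ε : ↥S.N := ⟨et, het⟩
  replace hJ : S.J ε = e2 := hJ
  let q : F → ↥S.N := fun b => S.act (P.U 0 b) ε - ε
  have hq : ∀ b, S.J (q b) = b • e0 := fun b => by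
    rw [map_sub, J_act, hJ, P.nat_U]
    ext i; fin_cases i <;> simp [e0, e2]
  have hp : ∀ b, b ≠ 0 → S.HasZ (q b) 0 1 0 := fun b hb => by
    obtain ⟨c, p, γ, hz⟩ := S.exists_hasZ (hq b)
    have hγ := S.gamma_zero (hq b) hz
    subst hγ
    obtain ⟨m, e⟩ := hz b
    have htt : S.act (P.U 0 b) (S.act (P.U 0 b) ε) = ε := by
      rw [← S.act_mul', P.U_mul]
      simp only [add_zero, CharTwo.add_self_eq_zero, map_zero, mul_zero, P.U_zero]
      exact Subtype.ext (act_one ρ _)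
    have he : S.act (P.U 0 b) (q b) - q b = -(q b + q b) := by
      simp only [q, map_sub, htt]
      abel
    have hqq : q b + q b ∈ S.J.ker := by
      rw [AddMonoidHom.mem_ker, map_add, hq]
      ext i
      simp [CharTwo.add_self_eq_zero]
    have hR : S.R' ⟨q b + q b, hqq⟩ = b • e0 := hq b
    have e' : S.R' ⟨_, m⟩ = -(b • e0) := by
      rw [← hR, ← map_neg]
      exact congrArg S.R' (Subtype.ext he)
    rw [e] at e'
    have h1 := congrFun e' 1
    simp [Par.zval, e0] at h1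
    have hc : c = 0 := h1.resolve_right hb
    have h0 := congrFun e' 0
    simp [Par.zval, e0, hc] at h0
    rw [CharTwo.neg_eq] at h0
    have hp1 : p = 1 := mul_right_cancel₀ hb (by linear_combination h0)
    rw [hc, hp1] at hz
    exact hz
  obtain ⟨x, x0, x1⟩ := P.exists_ne_zero_one
  have hx1 : 1 + x ≠ 0 := fun e => x1 (CharTwo.add_eq_zero.1 e).symm
  have z1 := hp 1 one_ne_zero
  have z2 := hp x x0
  have z3 := hp (1 + x) hx1
  obtain ⟨m, e⟩ := z2 1
  have hω := S.hasZ_ker m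
  rw [e] at hω
  have hsum := S.hasZ_add (S.hasZ_add z1 z2) hω
  have he : q 1 + q x + (S.act (P.U 0 1) (q x) - q x) = q (1 + x) := by
    simp only [q, map_sub]
    rw [← S.act_mul', P.U_mul]
    simp only [add_zero, map_zero, mul_zero]
    abel
  rw [he] at hsum
  have h2 := (S.hasZ_unique z3 hsum).2.1
  simp [Par.zval, CharTwo.add_self_eq_zero] at h2

end Section

/-- Exponent four is impossible. -/
theorem exponent_two [Finite V] (hρ : IsFpf ρ) (h4 : ∀ v : V, v + v + (v + v) = 0) :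
    ∀ v : V, v + v = 0 := by
  by_contra hne
  push Not at hne
  obtain ⟨v₀, hv₀⟩ := hne
  haveI : Finite (AddSubgroup V) := Finite.of_injective (fun S => (S : Set V)) SetLike.coe_injective
  set T : AddSubgroup V := (AddMonoidHom.id V + AddMonoidHom.id V).range
  obtain ⟨X, hX⟩ := (Set.toFinite {X : AddSubgroup V | (∀ g, ∀ v ∈ X, ρ g v ∈ X) ∧ X ≤ T ∧ X ≠ ⊥}).exists_minimal
    ⟨T, by
      rintro g _ ⟨u, rfl⟩
      exact ⟨ρ g u, (map_add (ρ g) u u).symm⟩, le_rfl, fun e => hv₀ (by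
      have : v₀ + v₀ ∈ T := ⟨v₀, rfl⟩
      rwa [e, AddSubgroup.mem_bot] at this)⟩
  obtain ⟨hXi, hXT, hX0⟩ := hX.prop
  have hXtwo : ∀ w ∈ X, w ∈ twoTorsion V := fun w hw => by
    obtain ⟨u, rfl⟩ := hXT hw
    exact h4 u
  obtain ⟨w, hw, hw0⟩ : ∃ w ∈ X, w ≠ 0 := by
    by_contra h
    push Not at h
    exact hX0 (eq_bot_iff.2 fun u hu => h u hu)
  -- the action on elements of order two
  have hΩi : ∀ g, ∀ u ∈ twoTorsion V, ρ g u ∈ twoTorsion V := fun g u hu => by
    show _ + _ = (0 : V)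
    rw [← map_add, hu, map_zero]
  let ρΩ : ↥P.Gam →* AddMonoid.End ↥(twoTorsion V) :=
    { toFun := fun g => AddMonoidHom.mk' (fun u => ⟨ρ g u, hΩi g u u.2⟩) fun a b =>
        Subtype.ext (map_add (ρ g) (a : V) b)
      map_one' := AddMonoidHom.ext fun u => Subtype.ext (act_one ρ u.1)
      map_mul' := fun g k => AddMonoidHom.ext fun u => Subtype.ext (act_mul ρ g k u.1) }
  have hρΩ : IsFpf ρΩ := fun g hg hg1 u hu => Subtype.ext (hρ g hg hg1 u.1 (congrArg Subtype.val hu))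
  letI : Algebra (ZMod 2) F := ZMod.algebra F 2
  letI : Module (ZMod 2) ↥(twoTorsion V) := AddCommGroup.zmodModule fun u => by
    rw [two_nsmul]; exact Subtype.ext u.2
  obtain ⟨σ, r, hr, hr0⟩ := (extRep ρΩ hρΩ).exists_sep
    (v := (1 : F) ⊗ₜ[ZMod 2] (⟨w, hXtwo w hw⟩ : ↥(twoTorsion V)))
    fun e => hw0 (congrArg Subtype.val (one_tmul_eq_zero e))
  set σe := RingEquiv.ofBijective σ ⟨σ.injective, hom_surjective σ⟩
  let R : ↥(twoTorsion V) →+ (Fin 4 → F) :=
    AddMonoidHom.mk' (fun u i => σe.symm (r ((1 : F) ⊗ₜ u) i)) fun a b => funext fun i => by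
      simp [TensorProduct.tmul_add]
  have hRe : ∀ (g : ↥P.Gam) (u : ↥(twoTorsion V)), R (ρΩ g u) = P.nat₁ g (R u) := fun g u => by
    refine funext fun i => σe.injective ?_
    have e := congrFun (nat_map P σ g (R u)) i
    have e' : (fun i => σ (R u i)) = r ((1 : F) ⊗ₜ u) := funext fun j =>
      σe.apply_symm_apply (r ((1 : F) ⊗ₜ u) j)
    rw [e', ← hr, extRep_tmul] at e
    exact (σe.apply_symm_apply _).trans e
  have hker : ∀ u : ↥(twoTorsion V), (u : V) ∈ X → R u = 0 → u = 0 := by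
    intro u hu hRu
    by_contra hu0
    let Y : AddSubgroup V := (R.ker.map (twoTorsion V).subtype) ⊓ X
    have hYX : Y ≤ X := inf_le_right
    have hY : X ≤ Y := hX.le_of_le ⟨fun g y hy => by
      obtain ⟨⟨t, ht, rfl⟩, hyX⟩ := hy
      refine ⟨⟨ρΩ g t, ?_, rfl⟩, hXi g _ hyX⟩
      rw [SetLike.mem_coe, AddMonoidHom.mem_ker] at ht ⊢
      rw [hRe, ht, map_zero], hYX.trans hXT, fun e => hu0 (Subtype.ext (by
        have : (u : V) ∈ Y := ⟨⟨u, hRu, rfl⟩, hu⟩
        rwa [e, AddSubgroup.mem_bot] at this))⟩ hYX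
    obtain ⟨⟨t, ht, htw⟩, -⟩ := hY hw
    refine hr0 (funext fun i => σe.symm.injective ?_)
    have : t = ⟨w, hXtwo w hw⟩ := Subtype.ext htw
    rw [this] at ht
    have h1 := congrFun (AddMonoidHom.mem_ker.1 ht) i
    rw [Pi.zero_apply, map_zero]
    exact h1
  -- the image of `X`
  set A : AddSubgroup (Fin 4 → F) := (X.comap (twoTorsion V).subtype).map R
  have hA : A = ⊤ := by
    refine eq_top_of_invariant A (fun g y ⟨u, hu, e⟩ => ⟨ρΩ g u, hXi g _ hu, by rw [hRe, e]⟩)
      ⟨⟨w, hXtwo w hw⟩, hw, rfl⟩ fun e => hw0 ?_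
    exact congrArg Subtype.val (hker ⟨w, hXtwo w hw⟩ hw e)
  refine Section.false (ρ := ρ)
    { N := X.comap (AddMonoidHom.id V + AddMonoidHom.id V)
      inv := fun g v hv => by
        show ρ g v + ρ g v ∈ X
        rw [← map_add]
        exact hXi g _ hv
      R := R
      equiv := fun g u hu => hRe g u
      four := fun v hv => hXtwo _ hv
      onto := fun d => by
        obtain ⟨u, hu, e⟩ : d ∈ A := hA ▸ AddSubgroup.mem_top d
        obtain ⟨v, hv⟩ := hXT hu
        refine ⟨v, ?_, ?_⟩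
        · show (AddMonoidHom.id V + AddMonoidHom.id V) v ∈ X
          rw [hv]; exact hu
        · rw [← e]
          exact congrArg R (Subtype.ext hv)
      kernel := fun v hv e => congrArg Subtype.val (hker ⟨v + v, hXtwo _ hv⟩ hv e) }

end Exponent

end CfsgLib.CIT.SuzMod
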