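import Cfsg.Agent.Lib.CIT.Extension
import Cfsg.Agent.Lib.CIT.SuzukiIso
import Cfsg.Agent.Lib.CIT.CoreModules

/-!
# The Suzuki core from two facts on modules of the Suzuki groups
-/

set_option autoImplicit false

namespace CfsgLib.CIT

universe u

/-- Modules of a Suzuki group with fixed-point-free elements of odd order. -/
def SuzukiModules : Prop :=
  ∀ (F : Type) [Field F] [Fintype F] (m : ℕ), 1 ≤ m → Fintype.card F = 2 ^ (2 * m + 1) →
    CoreModules.NoPairing.{u} ↥(Cfsg.Lie.Sz F (2 ^ (m + 1))) ∧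
      CoreModules.NoFour.{u} ↥(Cfsg.Lie.Sz F (2 ^ (m + 1)))

theorem suzukiCore_of_modules (h : SuzukiModules.{u}) : SuzukiCore.{u} := by
  intro G _ _ hG _ hs hTI
  obtain ⟨M, H, hH⟩ := hTI
  obtain ⟨F, i1, i2, m, hm, hF, ⟨e⟩⟩ := TI.isoSuzuki hH hs
  obtain ⟨hP, h4⟩ := h F m hm hF
  refine CoreModules.elementary_core hG (π := e.toMonoidHom.comp (QuotientGroup.mk' (Cfsg.pCore 2 G)))
    (e.surjective.comp (QuotientGroup.mk'_surjective _)) ?_ hP h4
  rw [← MonoidHom.comap_ker, (MonoidHom.ker_eq_bot_iff e.toMonoidHom).2 e.injective, MonoidHom.comap_bot,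
    QuotientGroup.ker_mk']

end CfsgLib.CIT
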