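import Mathlib
import Cfsg.Agent.Lib.CIT.SuzExp
import Cfsg.Agent.Lib.Suzuki.Finite
import Cfsg.Agent.Lib.CIT.SuzukiGlue

/-!
# Suzuki groups acting on abelian 2-groups with fixed-point-free elements of odd order

Endpoints for the Suzuki core of a CIT group: equivariant biadditive maps vanish, and the exponent is 2.
-/

set_option autoImplicit false
set_option linter.style.haveILetI false

namespace CfsgLib.CIT.SuzMod

universe v w

variable {F : Type v} [Field F] [Fintype F] {m : ℕ}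

/-- Equivariant biadditive maps of elementary abelian groups with fixed-point-free action vanish. -/
theorem bilin_eq_zero (hm : 1 ≤ m) (hF : Fintype.card F = 2 ^ (2 * m + 1)) {V W : Type w}
    [AddCommGroup V] [AddCommGroup W] [Finite V] [Finite W]
    (hV : ∀ v : V, v + v = 0) (hW : ∀ v : W, v + v = 0)
    (ρV : ↥(Cfsg.Lie.Sz F (2 ^ (m + 1))) →* AddMonoid.End V)
    (ρW : ↥(Cfsg.Lie.Sz F (2 ^ (m + 1))) →* AddMonoid.End W)
    (hρV : ∀ g, Odd (orderOf g) → g ≠ 1 → ∀ v, ρV g v = v → v = 0)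
    (hρW : ∀ g, Odd (orderOf g) → g ≠ 1 → ∀ v, ρW g v = v → v = 0)
    (b : V →+ V →+ W) (hb : ∀ g v v', b (ρV g v) (ρV g v') = ρW g (b v v')) : b = 0 := by
  haveI := CfsgLib.Suzuki.charP_two_of_card hF
  let P : Par F := ⟨m, hm, hF⟩
  let e : ↥P.Gam ≃* ↥(Cfsg.Lie.Sz F (2 ^ (m + 1))) := MulEquiv.subgroupCongr P.gam_eq
  exact biadd_eq_zero (P := P) hV hW (ρV.comp e.toMonoidHom) (ρW.comp e.toMonoidHom)
    (fun g ho h1 => hρV (e g) (by rwa [MulEquiv.orderOf_eq]) (e.map_ne_one_iff.2 h1))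
    (fun g ho h1 => hρW (e g) (by rwa [MulEquiv.orderOf_eq]) (e.map_ne_one_iff.2 h1)) b
    fun g => hb (e g)

/-- An abelian group of exponent dividing 4 with fixed-point-free action has exponent 2. -/
theorem exponent_eq_two (hm : 1 ≤ m) (hF : Fintype.card F = 2 ^ (2 * m + 1)) {V : Type w}
    [AddCommGroup V] [Finite V] (h4 : ∀ v : V, v + v + v + v = 0)
    (ρ : ↥(Cfsg.Lie.Sz F (2 ^ (m + 1))) →* AddMonoid.End V)
    (hρ : ∀ g, Odd (orderOf g) → g ≠ 1 → ∀ v, ρ g v = v → v = 0) : ∀ v : V, v + v = 0 := by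
  haveI := CfsgLib.Suzuki.charP_two_of_card hF
  let P : Par F := ⟨m, hm, hF⟩
  let e : ↥P.Gam ≃* ↥(Cfsg.Lie.Sz F (2 ^ (m + 1))) := MulEquiv.subgroupCongr P.gam_eq
  exact exponent_two (ρ := ρ.comp e.toMonoidHom)
    (fun g ho h1 => hρ (e g) (by rwa [MulEquiv.orderOf_eq]) (e.map_ne_one_iff.2 h1))
    fun v => by rw [← add_assoc]; exact h4 v

end CfsgLib.CIT.SuzMod

namespace CfsgLib.CIT

universe u

/-- The module theory needed for the core over a Suzuki quotient. -/
theorem suzukiModules : SuzukiModules.{u} := fun _ _ _ _ hm hF =>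
  ⟨fun _ _ _ _ _ _ hV hW ρ σ hρ hσ b _ hb x y => by
    rw [SuzMod.bilin_eq_zero hm hF hV hW ρ σ hρ hσ b hb]; rfl,
  fun _ _ _ h4 ρ hρ v => by
    rw [two_nsmul]
    exact SuzMod.exponent_eq_two hm hF (fun v => by
      have h := h4 v
      rwa [show (4 : ℕ) = 2 + 1 + 1 from rfl, add_nsmul, add_nsmul, two_nsmul, one_nsmul] at h) ρ hρ v⟩

/-- The core over a Suzuki quotient is elementary abelian. -/
theorem suzukiCore : SuzukiCore.{u} := suzukiCore_of_modules suzukiModules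

end CfsgLib.CIT
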